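import Cfsg.Agent.Lib.Classical.Covering.Grouped

/-!
# A cyclic matrix as a product of a Hessenberg and a triangular matrix
-/

set_option autoImplicit false

namespace CfsgLib.Classical.Covering

open Matrix Polynomial CfsgLib.Classical.UnipotentGen CfsgLib.Classical.Sourour

variable {K : Type*} [Field K] {n m k : ℕ}

theorem hess_pow_supp {M : Matrix (Fin (m + 1)) (Fin (m + 1)) K} (hM : Hess M) :
    ∀ (a : ℕ) (i : Fin (m + 1)), a < i.val → (M ^ a *ᵥ ev 0) i = 0 := by
  intro a
  induction a with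
  | zero =>
    intro i hi
    rw [pow_zero, one_mulVec, ev, Pi.single_eq_of_ne (fun e => by subst e; simp at hi)]
  | succ a ih =>
    intro i hi
    rw [pow_succ', ← mulVec_mulVec]
    refine (Finset.sum_eq_zero fun l _ => ?_ : ∑ l, M i l * (M ^ a *ᵥ ev 0) l = 0)
    rcases Nat.lt_or_ge a l.val with h | h
    · rw [ih l h, mul_zero]
    · rw [(hM i l).1 (by omega), zero_mul]

theorem trace_hess_mul {A U : Matrix (Fin (m + 1)) (Fin (m + 1)) K} (hA : Hess A)
    (hU : ∀ i j : Fin (m + 1), j.val < i.val → U i j = 0) :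
    (A * U).trace = (∑ j, A j j * U j j) + ∑ p : Fin m, A p.succ p.castSucc * U p.castSucc p.succ := by
  simp only [Matrix.trace, Matrix.diag_apply, Matrix.mul_apply]
  rw [Fin.sum_univ_succ (f := fun j => ∑ i, A j i * U i j),
    Fin.sum_univ_succ (f := fun j => A j j * U j j), add_assoc, ← Finset.sum_add_distrib]
  congr 1
  · rw [Finset.sum_eq_single (0 : Fin (m + 1))]
    · intro l _ hl
      rw [hU l 0 (Nat.pos_of_ne_zero fun e => hl (Fin.ext e)), mul_zero]
    · simp
  · refine Finset.sum_congr rfl fun p _ => ?_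
    rw [Finset.sum_eq_add p.succ p.castSucc (fun e => by simp [Fin.ext_iff] at e)]
    · rintro l - ⟨h1, h2⟩
      have a1 : l.val ≠ p.val + 1 := fun e => h1 (Fin.ext e)
      have a2 : l.val ≠ p.val := fun e => h2 (Fin.ext e)
      rcases Nat.lt_or_ge l.val p.val with h | h
      · rw [(hA _ l).1 (by simp; omega), zero_mul]
      · rw [hU l _ (by simp; omega), mul_zero]
    · simp
    · simp

/-- The factorisation with the superdiagonal of the triangular factor prescribed but for its last entry. -/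
theorem bd {A g : Matrix (Fin (k + 2)) (Fin (k + 2)) K} (hA : Hess A) (hA0 : A.det ≠ 0) (hg : Cyclic g)
    {d : Fin (k + 2) → K} (hd : ∀ i, d i ≠ 0) (hdet : g.det = A.det * ∏ i, d i) {s : Fin k → K}
    (hs : ∀ p : Fin k, d p.castSucc.castSucc = d p.castSucc.succ → s p ≠ 0)
    (htr : (∑ j, A j j * d j) + ∑ p : Fin k, A p.castSucc.succ p.castSucc.castSucc * s p ≠ g.trace) :
    ∃ U : Matrix (Fin (k + 2)) (Fin (k + 2)) K, Reg d U ∧
      (∀ p : Fin k, U p.castSucc.castSucc p.castSucc.succ = s p) ∧ Sim (A * U) g := by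
  classical
  have hAu : IsUnit A.det := isUnit_of hA0
  set s' : Fin (k + 1) → K := fun p => if h : p.val < k then s ⟨p.val, h⟩ else 1 with hs'
  set U₀ : Matrix (Fin (k + 2)) (Fin (k + 2)) K := Matrix.of fun i j =>
    if i = j then d i else if h : j.val = i.val + 1 then s' ⟨i.val, by omega⟩ else 0 with hU₀
  have hU₀up : ∀ i j : Fin (k + 2), j.val < i.val → U₀ i j = 0 := fun i j h => by
    simp only [hU₀, of_apply]
    rw [if_neg (fun e => by subst e; omega), dif_neg (by omega)]
  set M := A * U₀ with hM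
  have hMH : Hess M := by
    intro i j
    refine ⟨fun h => ?_, fun h => ?_⟩
    · rw [hM, Matrix.mul_apply]
      refine Finset.sum_eq_zero fun l _ => ?_
      rcases Nat.lt_or_ge (l.val + 1) i.val with h' | h'
      · rw [(hA i l).1 h', zero_mul]
      · rw [hU₀up l j (by omega), mul_zero]
    · rw [hM, Matrix.mul_apply, Finset.sum_eq_single j]
      · exact mul_ne_zero ((hA i j).2 h) (by simp [hU₀, hd])
      · intro l _ hl
        have : l.val ≠ j.val := fun e => hl (Fin.ext e)
        rcases Nat.lt_or_ge l.val j.val with h' | h'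
        · rw [(hA i l).1 (by omega), zero_mul]
        · rw [hU₀up l j (by omega), mul_zero]
      · simp
  set Q := kry M (ev 0) with hQ
  have hQ0 : Q.det ≠ 0 := hMH.det_kry
  have hQu : IsUnit Q.det := isUnit_of hQ0
  have hQup : ∀ i j : Fin (k + 2), j.val < i.val → Q i j = 0 := fun i j h => hess_pow_supp hMH j.val i h
  have hQd : ∀ j, Q j j ≠ 0 := fun j h => hQ0 (by
    rw [det_of_isUpperTriangular fun i j h => hQup i j h]; exact Finset.prod_eq_zero (Finset.mem_univ j) h)
  obtain ⟨N, hN⟩ : ∃ N, N = Q * comp (m := k + 1) g.charpoly * Q⁻¹ := ⟨_, rfl⟩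
  have hNQ : N * Q = Q * comp g.charpoly := by rw [hN, Matrix.nonsing_inv_mul_cancel_right _ _ hQu]
  have hsim : Sim N g := (sim_of hQ0 hNQ).trans (sim_comp hg).symm
  have hcol : ∀ j : Fin (k + 2), j.val < k + 1 → ∀ r, (N - M) r j = 0 := by
    intro j
    induction hj : j.val using Nat.strong_induction_on generalizing j with
    | _ a ih =>
      intro ha r
      subst hj
      have e1 : M *ᵥ (Q *ᵥ ev j) = Q *ᵥ ev (⟨j.val + 1, by omega⟩ : Fin (k + 2)) := by
        rw [hQ, kry_mulVec_ev, kry_mulVec_ev, mulVec_mulVec, ← pow_succ']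
      have e2 : comp (m := k + 1) g.charpoly *ᵥ ev j = ev (⟨j.val + 1, by omega⟩ : Fin (k + 2)) := by
        funext i
        rw [ev, ev, mulVec_single_one, col_apply, Pi.single_apply]
        simp only [comp, of_apply]
        rw [if_neg (by omega)]
        exact if_congr (by simp [Fin.ext_iff]) rfl rfl
      have e3 : (N - M) *ᵥ (Q *ᵥ ev j) = 0 := by
        rw [sub_mulVec, e1, mulVec_mulVec, hNQ, ← mulVec_mulVec, e2, sub_self]
      have e4 := congrFun e3 r
      rw [mulVec_mulVec, ev, mulVec_single_one, col_apply, Matrix.mul_apply, Finset.sum_eq_single j] at e4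
      · exact (mul_eq_zero.1 e4).resolve_right (hQd j)
      · intro l _ hl
        rcases Nat.lt_or_ge l.val j.val with h | h
        · rw [ih l.val h l rfl (by omega), zero_mul]
        · rw [hQup l j (lt_of_le_of_ne h fun e => hl (Fin.ext e.symm)), mul_zero]
      · simp
  set U := A⁻¹ * N with hU
  have hAU : A * U = N := Matrix.mul_nonsing_inv_cancel_left _ _ hAu
  have hUcol : ∀ i j : Fin (k + 2), j.val < k + 1 → U i j = U₀ i j := by
    intro i j hj
    rw [show U₀ = A⁻¹ * M from (Matrix.nonsing_inv_mul_cancel_left _ _ hAu).symm, hU, Matrix.mul_apply,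
      Matrix.mul_apply]
    refine Finset.sum_congr rfl fun l _ => ?_
    have := hcol j hj l
    rw [Matrix.sub_apply, sub_eq_zero] at this
    rw [this]
  have hUup : ∀ i j : Fin (k + 2), j.val < i.val → U i j = 0 := fun i j h => by
    rw [hUcol i j (by omega), hU₀up i j h]
  have hUd : ∀ i, U i i = d i := by
    have hlt : ∀ i : Fin (k + 1), U i.castSucc i.castSucc = d i.castSucc := fun i => by
      rw [hUcol _ _ (by simp; omega)]; simp [hU₀]
    intro i
    refine Fin.lastCases ?_ hlt i
    have hdetU : U.det = ∏ i, d i := mul_left_cancel₀ hA0 (by rw [← det_mul, hAU, ← hdet, hsim.det_eq])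
    rw [det_of_isUpperTriangular fun i j h => hUup i j h, Fin.prod_univ_castSucc (f := fun i => U i i),
      Fin.prod_univ_castSucc (f := d)] at hdetU
    simp only [hlt] at hdetU
    exact mul_left_cancel₀ (Finset.prod_ne_zero_iff.2 fun i _ => hd _) hdetU
  have hUs : ∀ p : Fin k, U p.castSucc.castSucc p.castSucc.succ = s p := fun p => by
    rw [hUcol _ _ (by simp)]
    simp [hU₀, hs', Fin.ext_iff]
  refine ⟨U, ⟨hUd, fun i j => ⟨hUup i j, fun h e => ?_⟩⟩, hUs, hAU ▸ hsim⟩
  obtain ⟨p, rfl, rfl⟩ : ∃ p : Fin (k + 1), p.castSucc = i ∧ p.succ = j :=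
    ⟨⟨i.val, by omega⟩, Fin.ext rfl, Fin.ext h.symm⟩
  revert h e
  refine Fin.lastCases ?_ (fun p _ e => ?_) p
  · intro _ _ h0
    refine htr ?_
    have e := trace_hess_mul hA hUup
    rw [hAU, Fin.sum_univ_castSucc (f := fun p : Fin (k + 1) => A p.succ p.castSucc * U p.castSucc p.succ),
      h0, mul_zero, add_zero] at e
    have htrN : N.trace = g.trace := by
      have e := hsim.charpoly_eq
      rw [Matrix.trace_eq_neg_charpoly_coeff, Matrix.trace_eq_neg_charpoly_coeff, e]
    rw [← htrN, e]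
    simp only [hUd, hUs]
  · rw [hUs]; exact hs p e

/-- The factorisation, in dimension at least three. -/
theorem bd' [Fintype K] (hK : 3 ≤ Fintype.card K) (hk : 1 ≤ k) {A g : Matrix (Fin (k + 2)) (Fin (k + 2)) K}
    (hA : Hess A) (hA0 : A.det ≠ 0) (hg : Cyclic g)
    {d : Fin (k + 2) → K} (hd : ∀ i, d i ≠ 0) (hdet : g.det = A.det * ∏ i, d i) :
    ∃ U : Matrix (Fin (k + 2)) (Fin (k + 2)) K, Reg d U ∧ Sim (A * U) g := by
  classical
  let p₀ : Fin k := ⟨0, hk⟩
  set a := A p₀.castSucc.succ p₀.castSucc.castSucc with ha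
  have ha0 : a ≠ 0 := (hA _ _).2 (by simp)
  set r := (∑ j, A j j * d j) + ∑ p : Fin k, A p.castSucc.succ p.castSucc.castSucc * (if p = p₀ then 0 else 1)
  obtain ⟨s₀, hs₀⟩ := fresh_of_card ({0, (g.trace - r) / a} : Finset K) (lt_of_le_of_lt Finset.card_le_two (by omega))
  simp only [Finset.mem_insert, Finset.mem_singleton, not_or] at hs₀
  let s : Fin k → K := fun p => if p = p₀ then s₀ else 1
  obtain ⟨U, h1, -, h3⟩ := bd hA hA0 hg hd hdet (s := s)
    (fun p _ => by simp only [s]; split_ifs <;> simp [hs₀.1]) (fun h => hs₀.2 (by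
      rw [eq_div_iff ha0, ← h]
      simp only [r, s]
      rw [add_sub_add_left_eq_sub, ← Finset.sum_sub_distrib, Finset.sum_eq_single p₀]
      · simp [ha, mul_comm]
      · intro b _ hb; simp [hb]
      · simp))
  exact ⟨U, h1, h3⟩

end CfsgLib.Classical.Covering
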