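import Cfsg.Agent.Lib.Classical.Covering.Join

/-!
# The product of two conjugates built on two frames
-/

set_option autoImplicit false

namespace CfsgLib.Classical.Covering

open Matrix

variable {K : Type*} [Field K] {s t : ℕ}

/-- The data of a swap of the two halves of a frame. -/
structure Swap (K : Type*) [Field K] (s t : ℕ) where
  J : Matrix (Fin t) (Fin s) K
  E0 : Matrix (Fin t) (Fin t) K
  tJJ : Jᵀ * J = 1
  E0J : E0 * J = 0
  tJE0 : Jᵀ * E0 = 0
  sumJ : J * Jᵀ + E0 * E0 = 1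

/-- The swap. -/
def Swap.phi (S : Swap K s t) : Matrix (Fin s ⊕ Fin t) (Fin s ⊕ Fin t) K := fromBlocks 0 S.Jᵀ S.J S.E0

/-- The shape of `x` in a frame. -/
def Swap.shape (S : Swap K s t) (T : Matrix (Fin s) (Fin t) K) (B : Matrix (Fin t) (Fin t) K) :
    Matrix (Fin s ⊕ Fin t) (Fin s ⊕ Fin t) K := fromBlocks 0 T S.J B

/-- The quotient map of `x` in a frame. -/
def Swap.quot (S : Swap K s t) (T : Matrix (Fin s) (Fin t) K) (B : Matrix (Fin t) (Fin t) K) :
    Matrix (Fin t) (Fin t) K := S.J * T + S.E0 * B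

theorem Swap.phi_sq (S : Swap K s t) : S.phi * S.phi = 1 := by
  rw [Swap.phi, fromBlocks_multiply, ← fromBlocks_one]
  congr 1
  · simp [S.tJJ]
  · simp [S.tJE0]
  · simp [S.E0J]
  · exact S.sumJ

theorem Swap.det_phi_ne_zero (S : Swap K s t) : S.phi.det ≠ 0 := fun h => by
  have := congrArg Matrix.det S.phi_sq
  rw [det_mul, h, zero_mul, det_one] at this
  exact zero_ne_one this

/-- The projection on the second half. -/
def selR (K : Type*) [Field K] (s t : ℕ) : Matrix (Fin t) (Fin s ⊕ Fin t) K := fromCols 0 1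

/-- The inclusion of the first half. -/
def incL (K : Type*) [Field K] (s t : ℕ) : Matrix (Fin s ⊕ Fin t) (Fin s) K := fromRows 1 0

/-- The swapped projection. -/
def Swap.sel (S : Swap K s t) : Matrix (Fin t) (Fin s ⊕ Fin t) K := fromCols S.J S.E0

/-- The swapped inclusion. -/
def Swap.inc (S : Swap K s t) : Matrix (Fin s ⊕ Fin t) (Fin s) K := fromRows 0 S.J

set_option maxHeartbeats 800000 in
theorem Swap.model (S : Swap K s t) (T T' : Matrix (Fin s) (Fin t) K) (B B' : Matrix (Fin t) (Fin t) K)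
    {P Q : Matrix (Fin s) (Fin s) K} {H1 H2 : Matrix (Fin t) (Fin t) K} {N : Matrix (Fin s) (Fin t) K}
    (hP : P.det ≠ 0) (hH2 : H2.det ≠ 0)
    (h1J : H1 * S.J = S.J * P) (h1E : H1 * S.E0 = S.J * N + S.E0 * H2)
    (hNJ : N * S.J = 0) (h2J : H2 * S.J = S.J * Q) :
    ∃ H0 : Matrix (Fin s ⊕ Fin t) (Fin s ⊕ Fin t) K, H0.det = S.phi.det * (P.det * H2.det) ∧
      ∃ Y, H0 * S.shape T' B' * H0⁻¹ * S.shape T B =
        fromBlocks (Q * P⁻¹) Y 0 (H1 * S.quot T' B' * H2⁻¹ * S.quot T B) := by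
  set H0 : Matrix (Fin s ⊕ Fin t) (Fin s ⊕ Fin t) K := S.phi * fromBlocks P N 0 H2 with hH0
  have hH0d : H0.det = S.phi.det * (P.det * H2.det) := by rw [hH0, det_mul, det_fromBlocks_zero₂₁]
  have hH0n : H0.det ≠ 0 := by rw [hH0d]; exact mul_ne_zero S.det_phi_ne_zero (mul_ne_zero hP hH2)
  have a1 : selR K s t * H0 = H1 * S.sel := by
    rw [hH0, ← Matrix.mul_assoc, selR, Swap.sel, Swap.phi, fromCols_mul_fromBlocks, fromCols_mul_fromBlocks,
      mul_fromCols, h1J, h1E]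
    congr 1 <;> simp
  have a2 : S.sel * H0 = H2 * selR K s t := by
    rw [hH0, ← Matrix.mul_assoc, selR, Swap.sel, Swap.phi, fromCols_mul_fromBlocks, fromCols_mul_fromBlocks, mul_fromCols]
    congr 1 <;> simp [S.E0J, S.sumJ]
  have a3 : ∀ T B, S.sel * S.shape T B =
      S.quot T B * selR K s t := fun T B => by
    rw [selR, Swap.sel, Swap.shape, Swap.quot, fromCols_mul_fromBlocks, mul_fromCols]
    congr 1 <;> simp [S.E0J]
  have a4 : ∀ T B, S.shape T B * incL K s t = S.inc := fun T B => by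
    rw [incL, Swap.inc, Swap.shape, fromBlocks_mul_fromRows]; simp
  have a5 : H0 * incL K s t = S.inc * P := by
    rw [hH0, incL, Swap.inc, Swap.phi, Matrix.mul_assoc, fromBlocks_mul_fromRows, fromBlocks_mul_fromRows, fromRows_mul]
    congr 1 <;> simp
  have a6 : H0 * S.inc = incL K s t * Q := by
    rw [hH0, incL, Swap.inc, Swap.phi, Matrix.mul_assoc, fromBlocks_mul_fromRows, fromBlocks_mul_fromRows, fromRows_mul]
    congr 1
    · simp [hNJ, h2J, ← Matrix.mul_assoc, S.tJJ]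
    · simp [hNJ, h2J, ← Matrix.mul_assoc, S.E0J]
  have hH2u := isUnit_of hH2
  have hPu := isUnit_of hP
  have hH0u := isUnit_iff_ne_zero.2 hH0n
  obtain ⟨k₀, hk₀⟩ : ∃ k, k = H0 * S.shape T' B' * H0⁻¹ * S.shape T B := ⟨_, rfl⟩
  have b1 : selR K s t * k₀ =
      (H1 * S.quot T' B' * H2⁻¹ * S.quot T B) * selR K s t := by
    have e : selR K s t * H0⁻¹ = H2⁻¹ * S.sel := by
      rw [← Matrix.nonsing_inv_mul_cancel_left H2 (selR K s t * H0⁻¹) hH2u, ← Matrix.mul_assoc H2, ← a2,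
        Matrix.mul_nonsing_inv_cancel_right _ _ hH0u]
    rw [hk₀, ← Matrix.mul_assoc, ← Matrix.mul_assoc, ← Matrix.mul_assoc, a1, Matrix.mul_assoc H1, a3,
      Matrix.mul_assoc H1, Matrix.mul_assoc (S.quot T' B'), e, Matrix.mul_assoc H1, Matrix.mul_assoc (S.quot T' B'),
      Matrix.mul_assoc H2⁻¹, a3]
    simp only [Matrix.mul_assoc]
  have b2 : k₀ * incL K s t = incL K s t * (Q * P⁻¹) := by
    have e : H0⁻¹ * S.inc = incL K s t * P⁻¹ := by
      rw [← Matrix.mul_nonsing_inv_cancel_right P (H0⁻¹ * S.inc) hPu,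
        Matrix.mul_assoc H0⁻¹ (S.inc), ← a5, Matrix.nonsing_inv_mul_cancel_left _ _ hH0u]
    rw [hk₀, Matrix.mul_assoc, a4, Matrix.mul_assoc, e, ← Matrix.mul_assoc, Matrix.mul_assoc H0, a4, a6,
      Matrix.mul_assoc]
  refine ⟨H0, hH0d, k₀.toBlocks₁₂, ?_⟩
  rw [← hk₀]
  rw [← fromBlocks_toBlocks k₀, selR, fromCols_mul_fromBlocks, mul_fromCols, fromCols_ext_iff] at b1
  rw [← fromBlocks_toBlocks k₀, incL, fromBlocks_mul_fromRows, fromRows_mul, fromRows_ext_iff] at b2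
  simp at b1 b2
  conv_lhs => rw [← fromBlocks_toBlocks k₀, b1.1, b1.2, b2.1]

/-- The engine: `(h x h⁻¹) x` in block form, for `h` carrying the second frame onto the first. -/
theorem Swap.engine (S : Swap K s t) {x E E' : Matrix (Fin (s + t)) (Fin (s + t)) K}
    {T T' : Matrix (Fin s) (Fin t) K} {B B' : Matrix (Fin t) (Fin t) K}
    (hE : E.det ≠ 0) (hE' : E'.det ≠ 0) (hxE : x * E = E * fin (S.shape T B))
    (hxE' : x * E' = E' * fin (S.shape T' B'))
    {P Q : Matrix (Fin s) (Fin s) K} {H1 H2 : Matrix (Fin t) (Fin t) K} {N : Matrix (Fin s) (Fin t) K}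
    (hP : P.det ≠ 0) (hH2 : H2.det ≠ 0)
    (h1J : H1 * S.J = S.J * P) (h1E : H1 * S.E0 = S.J * N + S.E0 * H2)
    (hNJ : N * S.J = 0) (h2J : H2 * S.J = S.J * Q) :
    ∃ h : Matrix (Fin (s + t)) (Fin (s + t)) K, h.det ≠ 0 ∧
      h.det * E'.det = E.det * (S.phi.det * (P.det * H2.det)) ∧
      ∃ Y, Sim (h * x * h⁻¹ * x) (fin (fromBlocks (Q * P⁻¹) Y 0 (H1 * S.quot T' B' * H2⁻¹ * S.quot T B))) := by
  obtain ⟨H0, hH0d, Y, hY⟩ := S.model T T' B B' hP hH2 h1J h1E hNJ h2J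
  have hH0n : H0.det ≠ 0 := by rw [hH0d]; exact mul_ne_zero S.det_phi_ne_zero (mul_ne_zero hP hH2)
  have hEu := isUnit_of hE
  have hEu' := isUnit_of hE'
  refine ⟨E * fin H0 * E'⁻¹, ?_, ?_, Y, ?_⟩
  · rw [det_mul, det_mul, det_fin, det_nonsing_inv, Ring.inverse_eq_inv]
    exact mul_ne_zero (mul_ne_zero hE hH0n) (inv_ne_zero hE')
  · rw [det_mul, det_mul, det_fin, det_nonsing_inv, Ring.inverse_eq_inv, mul_assoc, inv_mul_cancel₀ hE', mul_one, hH0d]
  · refine sim_of (P := E) hE ?_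
    rw [← hY, fin_mul, fin_mul, fin_mul, fin_inv, Matrix.mul_inv_rev, Matrix.mul_inv_rev,
      Matrix.nonsing_inv_nonsing_inv _ hEu', Matrix.mul_assoc _ x E, hxE]
    simp only [Matrix.mul_assoc]
    rw [Matrix.nonsing_inv_mul_cancel_left _ _ hEu, ← Matrix.mul_assoc x E', hxE']
    simp only [Matrix.mul_assoc]
    rw [Matrix.nonsing_inv_mul_cancel_left _ _ hEu']

end CfsgLib.Classical.Covering
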