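import Cfsg.Agent.Lib.Classical.Covering.RankOne

/-!
# Dimension four: a split quadratic minimal polynomial
-/

set_option autoImplicit false

namespace CfsgLib.Classical.Covering

open Matrix Module CfsgLib.Classical.UnipotentGen CfsgLib.Classical.Sourour
open CfsgLib.Classical.RegularUnipotentProduct (Four)

variable {K : Type*} [Field K]

theorem col4 (a b c d x : Fin 4 → K) :
    (Matrix.of fun i j => ![a, b, c, d] j i) *ᵥ x = x 0 • a + x 1 • b + x 2 • c + x 3 • d := by
  funext i
  simp [mulVec, dotProduct, Fin.sum_univ_four]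
  ring

theorem bord4 (a : K) (r c : Fin 3 → K) (D : Matrix (Fin 3) (Fin 3) K) :
    bord a r c D 0 1 = r 0 ∧ bord a r c D 0 2 = r 1 ∧ bord a r c D 0 3 = r 2 ∧
    bord a r c D 1 0 = c 0 ∧ bord a r c D 2 0 = c 1 ∧ bord a r c D 3 0 = c 2 ∧
    bord a r c D 1 1 = D 0 0 ∧ bord a r c D 1 2 = D 0 1 ∧ bord a r c D 1 3 = D 0 2 ∧
    bord a r c D 2 1 = D 1 0 ∧ bord a r c D 2 2 = D 1 1 ∧ bord a r c D 2 3 = D 1 2 ∧
    bord a r c D 3 1 = D 2 0 ∧ bord a r c D 3 2 = D 2 1 ∧ bord a r c D 3 3 = D 2 2 :=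
  ⟨rfl, rfl, rfl, rfl, rfl, rfl, rfl, rfl, rfl, rfl, rfl, rfl, rfl, rfl, rfl⟩

/-- The model. -/
def km (lam μ s : K) : Matrix (Fin 4) (Fin 4) K :=
  !![0, -(lam * μ), 0, 0; 1, lam + μ, 0, 0; 0, 0, lam, s; 0, 0, 0, μ]

/-- The change of completion. -/
def shear (k : Fin 3) (t : K) : Matrix (Fin 4) (Fin 4) K := bord 1 (Pi.single k t) 0 1

theorem exists_km {y : Matrix (Fin 4) (Fin 4) K} {lam μ : K} (hy : RTwo y)
    (hann : (y - μ • 1) * (y - lam • 1) = 0) (hrk : (y - lam • 1).rank = 2) :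
    ∃ s : K, s ≠ 0 ∧ Cd 1 (km lam μ s) y := by
  classical
  obtain ⟨e, he, hey⟩ := exists_moved hy.nonScalar
  have hann' : (y - lam • 1) * (y - μ • 1) = 0 := by
    rw [← hann]
    simp only [Matrix.sub_mul, Matrix.mul_sub, Matrix.smul_mul, Matrix.mul_smul, one_mul, mul_one, smul_sub, smul_smul,
      mul_comm lam μ]
    abel
  have hyye : y *ᵥ (y *ᵥ e) = (lam + μ) • (y *ᵥ e) - (lam * μ) • e := by
    have h := congrArg (· *ᵥ e) hann'
    simp only [← mulVec_mulVec, sub_mulVec, smul_mulVec, one_mulVec, zero_mulVec, mulVec_sub, mulVec_smul] at h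
    rw [sub_eq_zero] at h
    linear_combination (norm := module) h
  set W : Submodule K (Fin 4 → K) := Submodule.span K {e, y *ᵥ e} with hW
  set Kr := LinearMap.ker (y - lam • 1).mulVecLin with hKr
  have hmemK : ∀ x, x ∈ Kr ↔ y *ᵥ x = lam • x := fun x => by
    rw [LinearMap.mem_ker, mulVecLin_apply, sub_mulVec, smul_mulVec, one_mulVec, sub_eq_zero]
  obtain ⟨z, hzK, hzW⟩ : ∃ z ∈ Kr, z ∉ W := by
    by_contra! hall
    have hK2 : finrank K Kr = 2 := by
      have h := (y - lam • 1).mulVecLin.finrank_range_add_finrank_ker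
      rw [Module.finrank_fin_fun] at h
      rw [Matrix.rank] at hrk
      rw [hKr]; omega
    have hW2 : finrank K W ≤ 2 := by
      rw [hW, show ({e, y *ᵥ e} : Set (Fin 4 → K)) = Set.range ![e, y *ᵥ e] by ext z; simp; tauto]
      exact (finrank_range_le_card _).trans (by simp)
    have hle : Kr ≤ W := fun x hx => hall x hx
    have heq := Submodule.eq_of_le_of_finrank_le hle (by omega)
    exact hey lam ((hmemK e).1 (by rw [heq]; exact Submodule.subset_span (by simp)))
  have hwe : y *ᵥ e ∈ W := Submodule.subset_span (by simp)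
  have hee : e ∈ W := Submodule.subset_span (by simp)
  obtain ⟨u, hu⟩ := exists_notMem (Y := W ⊔ Submodule.span K {z}) (by
    have h1 := Submodule.finrank_add_le_finrank_add_finrank W (Submodule.span K {z})
    have h2 : finrank K (Submodule.span K {z}) ≤ 1 := (finrank_span_le_card {z}).trans (by simp)
    have hW2 : finrank K W ≤ 2 := by
      rw [hW, show ({e, y *ᵥ e} : Set (Fin 4 → K)) = Set.range ![e, y *ᵥ e] by ext z; simp; tauto]
      exact (finrank_range_le_card _).trans (by simp)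
    omega)
  -- the image of `u` lies in the eigenspace, spanned by `z` and one vector of the plane
  set k := y *ᵥ e - μ • e with hk
  have hkK : k ∈ Kr := by
    rw [hmemK, hk, mulVec_sub, mulVec_smul, hyye]; module
  have hk0 : k ≠ 0 := fun h => hey μ (sub_eq_zero.1 h)
  have hspan : ∀ x ∈ Kr, ∃ a b : K, x = a • z + b • k := by
    have hli : LinearIndependent K ![z, k] := by
      rw [linearIndependent_fin2]
      refine ⟨by simpa using hk0, fun a h => hzW ?_⟩
      simp only [cons_val_zero, cons_val_one] at h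
      rw [← h]
      exact W.smul_mem a (W.sub_mem hwe (W.smul_mem μ hee))
    intro x hx
    have hle : Submodule.span K (Set.range ![z, k]) ≤ Kr := by
      rw [Submodule.span_le]
      rintro _ ⟨i, rfl⟩
      fin_cases i <;> simp [hzK, hkK]
    have heq := Submodule.eq_of_le_of_finrank_le hle (by
      rw [finrank_span_eq_card hli, Fintype.card_fin]
      have h := (y - lam • 1).mulVecLin.finrank_range_add_finrank_ker
      rw [Module.finrank_fin_fun] at h
      rw [Matrix.rank] at hrk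
      rw [hKr]; omega)
    rw [← heq, Submodule.mem_span_range_iff_exists_fun] at hx
    obtain ⟨c, hc⟩ := hx
    exact ⟨c 0, c 1, by rw [← hc, Fin.sum_univ_two]; rfl⟩
  obtain ⟨a, b, hab⟩ := hspan (y *ᵥ u - μ • u) (by
    rw [hmemK]
    have h := congrArg (· *ᵥ u) hann'
    simp only [← mulVec_mulVec, sub_mulVec, smul_mulVec, one_mulVec, zero_mulVec, sub_eq_zero] at h
    exact h)
  set u' := u - b • e with hu'
  have hyu' : y *ᵥ u' = a • z + μ • u' := by
    rw [hu', mulVec_sub, mulVec_smul, show y *ᵥ u = a • z + b • k + μ • u by rw [← hab]; abel, hk]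
    module
  obtain ⟨u'', s, hs, hyu'', hu''⟩ : ∃ (u'' : Fin 4 → K) (s : K), s ≠ 0 ∧ y *ᵥ u'' = s • z + μ • u'' ∧ u'' ∉ W ⊔ Submodule.span K {z} := by
    have hu'n : u' ∉ W ⊔ Submodule.span K {z} := fun h => hu (by
      have h2 := add_mem h (Submodule.mem_sup_left (W.smul_mem b hee) : b • e ∈ W ⊔ Submodule.span K {z})
      simpa [hu'] using h2)
    by_cases ha : a = 0
    · have hlm : lam ≠ μ := by
        rintro rfl
        have hu'K : u' ∈ Kr := by rw [hmemK, hyu', ha, zero_smul, zero_add]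
        obtain ⟨a', b', h'⟩ := hspan u' hu'K
        refine hu'n ?_
        rw [h']
        exact add_mem (Submodule.mem_sup_right (Submodule.smul_mem _ a' (Submodule.mem_span_singleton_self z)))
          (Submodule.mem_sup_left (W.smul_mem b' (W.sub_mem hwe (W.smul_mem _ hee))))
      refine ⟨u' + z, lam - μ, sub_ne_zero.2 hlm, ?_, fun h => hu'n ?_⟩
      · rw [mulVec_add, hyu', ha, (hmemK z).1 hzK]; module
      · have h2 := sub_mem h (Submodule.mem_sup_right (Submodule.mem_span_singleton_self z) : z ∈ W ⊔ Submodule.span K {z})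
        simpa using h2
    · exact ⟨u', a, ha, hyu', hu'n⟩
  set P : Matrix (Fin 4) (Fin 4) K := Matrix.of fun i j => ![e, y *ᵥ e, z, u''] j i with hP
  have hcol : ∀ j, P *ᵥ Pi.single j 1 = ![e, y *ᵥ e, z, u''] j := fun j => by
    rw [mulVec_single_one]; funext i; simp [hP]
  have hPd : P.det ≠ 0 := by
    intro h0
    obtain ⟨c, hc, hPc⟩ := Matrix.exists_mulVec_eq_zero_iff.2 h0
    have h : c 0 • e + c 1 • (y *ᵥ e) + c 2 • z + c 3 • u'' = 0 := by
      rw [← col4]; exact hPc
    have h3 : c 3 = 0 := by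
      by_contra h3
      refine hu'' ((Submodule.smul_mem_iff _ h3).1 ?_)
      rw [eq_neg_of_add_eq_zero_right h]
      exact neg_mem (add_mem (Submodule.mem_sup_left (add_mem (W.smul_mem _ hee) (W.smul_mem _ hwe)))
        (Submodule.mem_sup_right (Submodule.smul_mem _ _ (Submodule.mem_span_singleton_self z))))
    rw [h3, zero_smul, add_zero] at h
    have h2 : c 2 = 0 := by
      by_contra h2
      refine hzW ((Submodule.smul_mem_iff _ h2).1 ?_)
      rw [eq_neg_of_add_eq_zero_right h]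
      exact neg_mem (add_mem (W.smul_mem _ hee) (W.smul_mem _ hwe))
    rw [h2, zero_smul, add_zero] at h
    have h1 : c 1 = 0 := by
      by_contra h1
      refine hey (-((c 1)⁻¹ * c 0)) ?_
      have := congrArg ((c 1)⁻¹ • ·) h
      simp only [smul_add, smul_smul, inv_mul_cancel₀ h1, one_smul, smul_zero] at this
      rw [neg_smul]; exact eq_neg_of_add_eq_zero_right this
    rw [h1, zero_smul, add_zero] at h
    refine hc (funext fun i => ?_)
    fin_cases i
    · exact (smul_eq_zero.1 h).resolve_right he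
    · exact h1
    · exact h2
    · exact h3
  have hyP : y * P = P * km lam μ s := by
    refine Matrix.ext_of_mulVec_single fun j => ?_
    rw [← mulVec_mulVec, ← mulVec_mulVec, hcol]
    have hs' : ∀ c : Fin 4 → K, P *ᵥ c = c 0 • e + c 1 • (y *ᵥ e) + c 2 • z + c 3 • u'' := fun c =>
      col4 _ _ _ _ c
    rw [hs', mulVec_single_one]
    fin_cases j <;> simp [km, hyye, hyu'', (hmemK z).1 hzK]
    module
  set δ := P.det
  set F : Matrix (Fin 4) (Fin 4) K := diagonal ![1, 1, δ⁻¹, 1]
  refine ⟨s * δ, mul_ne_zero hs hPd, ?_⟩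
  have h1 : y * (P * F) = P * F * km lam μ (s * δ) := by
    rw [← Matrix.mul_assoc, hyP, Matrix.mul_assoc, Matrix.mul_assoc P]
    congr 1
    ext i j
    fin_cases i <;> fin_cases j <;> simp [F, km, Matrix.mul_apply, Fin.sum_univ_four, Matrix.diagonal, mul_comm]
    field_simp
  have h2 : (P * F).det = 1 := by
    rw [det_mul, det_diagonal, Fin.prod_univ_four]; simp [δ, hPd]
  have := Cd.symm (one_ne_zero (α := K)) (⟨P * F, h2, h1⟩ : Cd 1 y (km lam μ (s * δ)))
  rwa [inv_one] at this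

set_option maxHeartbeats 1000000 in
/-- The exceptional classes of dimension four. -/
theorem four_exceptional [Fintype K] (hq : 4 ≤ Fintype.card K) {y G : Matrix (Fin 4) (Fin 4) K} (hy0 : y.det ≠ 0)
    {lam μ : K} (hy : RTwo y) (hann : (y - μ • 1) * (y - lam • 1) = 0) (hrk : (y - lam • 1).rank = 2)
    (hG : NonScalar G) (hdet : G.det = y.det ^ 4) : Prn (fun k => Cd 1 k y) 4 G := by
  classical
  obtain ⟨s, hs, hK₀⟩ := exists_km hy hann hrk
  have hdy : y.det = lam * μ * (lam * μ) := by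
    rw [← (hK₀.sim one_ne_zero).det_eq]
    simp [km, det_succ_row_zero, Fin.sum_univ_succ, Fin.succAbove]
  have hlam : lam ≠ 0 := fun h => hy0 (by rw [hdy, h]; ring)
  have hμ : μ ≠ 0 := fun h => hy0 (by rw [hdy, h]; ring)
  set a := μ ^ 3 with ha
  set e₀ := lam ^ 3 with he₀
  have ha0 : a ≠ 0 := pow_ne_zero _ hμ
  obtain ⟨v, hv, hvG⟩ := exists_moved hG
  obtain ⟨P₁, hP₁, hPv, hPw⟩ := exists_pair hv (w := a⁻¹ • G *ᵥ v) (fun c h => hvG (a * c) (by
    rw [← smul_smul, ← h, smul_smul, mul_inv_cancel₀ ha0, one_smul]))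
  have hP₁u : IsUnit P₁.det := by rw [hP₁]; exact isUnit_one
  set M := P₁⁻¹ * G * P₁ with hM
  have hM0 : ∀ i, M i 0 = a * (ev 1 : Fin 4 → K) i := by
    intro i
    have h : M *ᵥ ev 0 = a • ev 1 := by
      rw [hM, ← mulVec_mulVec, ← mulVec_mulVec, hPv, show G *ᵥ v = a • (P₁ *ᵥ ev 1) by
        rw [hPw, smul_smul, mul_inv_cancel₀ ha0, one_smul], mulVec_smul, mulVec_mulVec,
        Matrix.nonsing_inv_mul _ hP₁u, one_mulVec]
    have := congrFun h i
    rwa [ev, mulVec_single_one] at this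
  have hMd : M.det ≠ 0 := by
    rw [hM, det_mul, det_mul, det_nonsing_inv, Ring.inverse_eq_inv, hP₁, hdet]; simp [hy0]
  -- a completion with a non-zero entry
  obtain ⟨S, hS, hS0, G', hG'S, hG'0, h02⟩ : ∃ S : Matrix (Fin 4) (Fin 4) K, S.det = 1 ∧ S *ᵥ ev 0 = ev 0 ∧
      ∃ G', M * S = S * G' ∧ (∀ i, G' i 0 = a * (ev 1 : Fin 4 → K) i) ∧ G' 0 2 ≠ 0 := by
    by_cases h0 : M 0 2 ≠ 0
    · exact ⟨1, det_one, one_mulVec _, M, by rw [mul_one, one_mul], hM0, h0⟩
    push Not at h0
    have hsh : ∀ (k : Fin 3) (t : K), (shear k t).det = 1 ∧ shear k t *ᵥ ev 0 = ev 0 ∧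
        (shear k t)⁻¹ = shear k (-t) := fun k t => by
      refine ⟨by rw [shear, det_bord_upper, det_one, mul_one], ?_, Matrix.inv_eq_right_inv ?_⟩
      · rw [shear, ev, mulVec_single_one]; funext l; refine Fin.cases ?_ (fun l => ?_) l <;> simp
      · rw [shear, shear, bord_mul, ← bord_one]
        congr 1 <;> simp [bord_one, Pi.single_neg]
    have key : ∀ k : Fin 3, ((shear k (-1 : K) * M * shear k 1 : Matrix (Fin 4) (Fin 4) K) 0 2 ≠ 0) → k ≠ 0 → ∃ S : Matrix (Fin 4) (Fin 4) K,
        S.det = 1 ∧ S *ᵥ ev 0 = ev 0 ∧ ∃ G', M * S = S * G' ∧ (∀ i, G' i 0 = a * (ev 1 : Fin 4 → K) i) ∧ G' 0 2 ≠ 0 := by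
      intro k hne hk
      obtain ⟨h1, h2, h3⟩ := hsh k 1
      refine ⟨shear k 1, h1, h2, shear k (-1) * M * shear k 1, ?_, fun i => ?_, hne⟩
      · rw [← Matrix.mul_assoc (shear k 1) (shear k (-1) * M), ← Matrix.mul_assoc (shear k 1) (shear k (-1)),
          show shear k 1 * shear k (-1 : K) = 1 by rw [← h3, Matrix.mul_nonsing_inv _ (by rw [h1]; exact isUnit_one)],
          Matrix.one_mul]
      · have e : (shear k (-1) * M * shear k 1) *ᵥ ev 0 = a • ev 1 := by
          rw [← mulVec_mulVec, h2, ← mulVec_mulVec, show M *ᵥ ev 0 = a • ev 1 by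
            rw [ev, mulVec_single_one]; funext l; exact hM0 l, mulVec_smul]
          congr 1
          rw [shear, ev, mulVec_single_one, ← Fin.succ_zero_eq_one]
          funext l
          refine Fin.cases ?_ (fun l => ?_) l
          · rw [col_apply, bord_zero_succ, Pi.single_eq_of_ne (Ne.symm hk),
              Pi.single_eq_of_ne (Fin.succ_ne_zero _).symm]
          · rw [col_apply, bord_succ_succ, Matrix.one_apply, Pi.single_apply]
            by_cases hl : l = 0
            · subst hl; simp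
            · have hl1 : l.succ ≠ 1 := by rw [← Fin.succ_zero_eq_one]; exact fun h' => hl (Fin.succ_injective _ h')
              simp [hl, hl1]
        have := congrFun e i
        rwa [ev, mulVec_single_one] at this
    by_cases h3 : M 3 2 ≠ 0
    · refine key 2 ?_ (by decide)
      simp [shear, Matrix.mul_apply, Fin.sum_univ_succ, Matrix.one_apply, hM0, ev, h0, bord4]
      exact h3
    push Not at h3
    by_cases h2 : M 2 2 ≠ 0
    · refine key 1 ?_ (by decide)
      simp [shear, Matrix.mul_apply, Fin.sum_univ_succ, Matrix.one_apply, hM0, ev, h0, bord4]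
      exact h2
    push Not at h2
    refine absurd ?_ hMd
    refine Matrix.exists_mulVec_eq_zero_iff.1 ⟨![-(M 1 2), 0, a, 0], fun h => ha0 (by simpa using congrFun h 2), ?_⟩
    funext i
    fin_cases i <;> simp [mulVec, dotProduct, Fin.sum_univ_four, hM0, ev, h0, h2, h3]
    ring
  set P := P₁ * S with hPdef
  have hPd : P.det = 1 := by rw [hPdef, det_mul, hP₁, hS, one_mul]
  have hGP : G * P = P * G' := by
    rw [hPdef, Matrix.mul_assoc P₁ S, ← hG'S, hM]
    simp only [Matrix.mul_assoc]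
    rw [Matrix.mul_nonsing_inv_cancel_left _ _ hP₁u]
  -- the free parameter
  obtain ⟨t, ht, hminor⟩ : ∃ t : K, t ≠ 0 ∧
      G' 0 2 * (G' 2 3 - e₀ * (s * (t * t))) - G' 0 3 * (G' 2 2 - e₀ * lam) ≠ 0 := by
    obtain ⟨t₀, ht0, -, htt, -, -⟩ := fresh_pm' hq
    by_contra! hall
    have e1 := hall 1 one_ne_zero
    have e2 := hall t₀ ht0
    have e3 : (G' 0 2 * e₀ * s) * (t₀ * t₀ - 1) = 0 := by linear_combination e1 - e2
    exact mul_ne_zero (mul_ne_zero (mul_ne_zero h02 (pow_ne_zero _ hlam)) hs) (sub_ne_zero.2 htt) e3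
  set k₁ := km lam μ (s * (t * t)) with hk₁
  have hk₁y : Cd 1 k₁ y := by
    have h : Cd 1 k₁ (km lam μ s) := by
      refine ⟨diagonal ![1, 1, t, t⁻¹], by rw [det_diagonal, Fin.prod_univ_four]; simp [ht], ?_⟩
      ext i j
      fin_cases i <;> fin_cases j <;> simp [hk₁, km, Matrix.mul_apply, Fin.sum_univ_four, Matrix.diagonal, mul_comm]
      field_simp
    have := h.trans hK₀
    rwa [one_mul] at this
  have hk₁0 : ∀ i, k₁ i 0 = (ev 1 : Fin 4 → K) i := fun i => by
    fin_cases i <;> simp [hk₁, km, ev]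
  have hk₁d : k₁.det ≠ 0 := by rw [(hk₁y.sim one_ne_zero).det_eq]; exact hy0
  obtain ⟨β, G'', hq'⟩ := quot_form hk₁d hk₁0 hG'0
  -- the model
  set Y : Matrix (Fin 3) (Fin 3) K := lam • (1 + vecMulVec ![0, s / lam, (μ - lam) / lam] ![0, 0, 1]) with hY
  have hmodel : Cd 1 y (bord μ ![-1, 0, 0] 0 Y) := by
    have h : Cd 1 (km lam μ s) (bord μ ![-1, 0, 0] 0 Y) := by
      refine ⟨!![lam, 1, 0, 0; -1, 0, 0, 0; 0, 0, 1, 0; 0, 0, 0, 1], by
        simp [det_succ_row_zero, Fin.sum_univ_succ, Fin.succAbove], ?_⟩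
      ext i j
      refine Fin.cases ?_ (fun i => ?_) i <;> refine Fin.cases ?_ (fun j => ?_) j
      all_goals
        first
          | (fin_cases i <;> fin_cases j <;> simp [km, hY, Matrix.mul_apply, Fin.sum_univ_succ, vecMulVec_apply, Matrix.one_apply, bord4] <;> field_simp <;> ring)
          | (fin_cases j <;> simp [km, hY, Matrix.mul_apply, Fin.sum_univ_succ, vecMulVec_apply, Matrix.one_apply, bord4] <;> field_simp <;> ring)
          | (fin_cases i <;> simp [km, hY, Matrix.mul_apply, Fin.sum_univ_succ, vecMulVec_apply, Matrix.one_apply, bord4] <;> field_simp <;> ring)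
          | (simp [km, hY, Matrix.mul_apply, Fin.sum_univ_succ, vecMulVec_apply, Matrix.one_apply, bord4] <;> ring)
    have := (hK₀.symm one_ne_zero).trans h
    rwa [inv_one, mul_one] at this
  have hYd : Y.det = lam * lam * μ := by
    rw [hY, det_smul, det_one_add_uv, Fintype.card_fin]
    simp [dotProduct, Fin.sum_univ_three]
    field_simp
    ring
  have hG''d : G''.det = Y.det ^ 3 := by
    have h := congrArg Matrix.det hq'
    have hG'd : G'.det = y.det ^ 4 := by
      have := congrArg Matrix.det hGP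
      rw [det_mul G P, det_mul P G', hPd, mul_one, one_mul] at this
      rw [← this, hdet]
    rw [det_mul, det_nonsing_inv, Ring.inverse_eq_inv, (hk₁y.sim one_ne_zero).det_eq, hG'd, det_bord_upper,
      show y.det ^ 4 = y.det * y.det ^ 3 from pow_succ' _ _, inv_mul_cancel_left₀ hy0, hdy] at h
    refine (mul_left_cancel₀ ha0 ?_).symm
    rw [← h, hYd, ha]; ring
  set A : Matrix (Fin 2) (Fin 3) K := Matrix.of fun i l => k₁ (![0, 2] i) l.succ with hA
  set Sel : Matrix (Fin 3) (Fin 2) K := Matrix.of fun l j => if l = ![1, 2] j then 1 else 0 with hSel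
  have hprod : A * (G'' - e₀ • 1) * Sel =
      !![G' 0 2, G' 0 3; G' 2 2 - e₀ * lam, G' 2 3 - e₀ * (s * (t * t))] := by
    have e : G' = k₁ * bord a β 0 G'' := by
      rw [← hq', Matrix.mul_nonsing_inv_cancel_left _ _ (isUnit_of hk₁d)]
    ext i j
    rw [e]
    fin_cases i <;> fin_cases j <;>
      simp [hA, hSel, hk₁, km, Matrix.mul_apply, Fin.sum_univ_succ, Matrix.one_apply, bord4] <;> ring
  have hdet2 : (A * (G'' - e₀ • 1) * Sel).det ≠ 0 := by
    rw [hprod, det_fin_two]
    simpa using hminor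
  have hrk2 : 2 ≤ (G'' - e₀ • 1).rank := by
    have hfull : (A * (G'' - e₀ • 1) * Sel).rank = 2 := by
      rw [Matrix.rank_of_isUnit _ ((Matrix.isUnit_iff_isUnit_det _).2 (isUnit_of hdet2)), Fintype.card_fin]
    have h1 := rank_mul_le_left (A * (G'' - e₀ • 1)) Sel
    have h2 := rank_mul_le_right A (G'' - e₀ • 1)
    omega
  have hG''ns : NonScalar G'' := by
    rintro ⟨c, hc⟩
    refine hdet2 ?_
    rw [hc, ← sub_smul, Matrix.mul_smul, Matrix.mul_one, Matrix.smul_mul, det_smul,
      show (A * Sel).det = 0 by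
        rw [det_fin_two]; simp [hA, hSel, hk₁, km, Matrix.mul_apply, Fin.sum_univ_succ], mul_zero]
  have hY0 : Y.det ≠ 0 := by rw [hYd]; exact mul_ne_zero (mul_ne_zero hlam hlam) hμ
  have hp := rankone_three (four_of_card hq) hY0 hY (u := ![0, s / lam, (μ - lam) / lam]) (φ := ![0, 0, 1])
    (fun h => div_ne_zero hs hlam (by simpa using congrFun h 1)) (fun h => by simpa using congrFun h 2) hG''ns hG''d hrk2
  exact peel_core hy0 hmodel hPd hGP hk₁y hk₁0 hq' (hp.mono fun k hk => hk.sim one_ne_zero)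
where
  fresh_pm' (hq : 4 ≤ Fintype.card K) : ∃ v : K, v ≠ 0 ∧ v ≠ 1 ∧ v * v ≠ 1 ∧ True ∧ True := by
    classical
    obtain ⟨v, hv⟩ := fresh_of_card ({0, 1, -1} : Finset K) (lt_of_le_of_lt Finset.card_le_three (by omega))
    simp only [Finset.mem_insert, Finset.mem_singleton, not_or] at hv
    exact ⟨v, hv.1, hv.2.1, fun h => (mul_self_eq_one_iff.1 h).elim hv.2.1 hv.2.2, trivial, trivial⟩

end CfsgLib.Classical.Covering
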