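import Cfsg.Agent.Lib.Classical.Covering.Products

/-!
# Products without a common fixed vector
-/

set_option autoImplicit false

namespace CfsgLib.Classical.Covering

open Matrix CfsgLib.Classical.UnipotentGen CfsgLib.Classical.Sourour

variable {K : Type*} [Field K] {n m : ℕ}

/-- No common eigenvector with one common eigenvalue. -/
def NoFix (l : List (Matrix (Fin n) (Fin n) K)) : Prop :=
  ∀ (c : K) (u : Fin n → K), (∀ k ∈ l, k *ᵥ u = c • u) → u = 0

/-- A product of `m` members of `C` without a common fixed vector. -/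
def Prn (C : Matrix (Fin n) (Fin n) K → Prop) (m : ℕ) (G : Matrix (Fin n) (Fin n) K) : Prop :=
  ∃ l : List (Matrix (Fin n) (Fin n) K), l.length = m ∧ (∀ k ∈ l, C k) ∧ l.prod = G ∧ NoFix l

theorem Prn.prd {C : Matrix (Fin n) (Fin n) K → Prop} {G : Matrix (Fin n) (Fin n) K} (h : Prn C m G) :
    Prd C m G := by
  obtain ⟨l, hl, hC, hp, -⟩ := h
  exact ⟨l, hl, hC, hp⟩

theorem Prn.mono {C C' : Matrix (Fin n) (Fin n) K → Prop} (h : ∀ k, C k → C' k) {G : Matrix (Fin n) (Fin n) K}
    (hG : Prn C m G) : Prn C' m G := by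
  obtain ⟨l, hl, hlC, hp, hn⟩ := hG
  exact ⟨l, hl, fun k hk => h k (hlC k hk), hp, hn⟩

theorem Prn.of_rootfree {C : Matrix (Fin n) (Fin n) K → Prop} {G : Matrix (Fin n) (Fin n) K} (hm : m ≠ 0)
    (hC : ∀ k, C k → RootFree k) (h : Prd C m G) : Prn C m G := by
  obtain ⟨l, rfl, hlC, hp⟩ := h
  refine ⟨l, rfl, hlC, hp, fun c u hu => ?_⟩
  obtain ⟨k, hk⟩ := List.exists_mem_of_ne_nil l (fun e => hm (by simp [e]))
  by_contra h0
  exact (hC k (hlC k hk)).ne_smul h0 c (hu k hk)

theorem mulVec_prod_of_fix {l : List (Matrix (Fin n) (Fin n) K)} {c : K} {u : Fin n → K}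
    (h : ∀ k ∈ l, k *ᵥ u = c • u) : l.prod *ᵥ u = c ^ l.length • u := by
  induction l with
  | nil => simp
  | cons k l ih =>
    rw [List.prod_cons, ← mulVec_mulVec, ih fun k' hk' => h k' (by simp [hk']), mulVec_smul, h k (by simp),
      smul_smul, List.length_cons, pow_succ]

/-- Conjugating the members. -/
theorem Prn.map_conj {C C' : Matrix (Fin n) (Fin n) K → Prop} {P : Matrix (Fin n) (Fin n) K} (hP : P.det ≠ 0)
    (h : ∀ k k', k * P = P * k' → C k' → C' k) {G G' : Matrix (Fin n) (Fin n) K} (hG : G * P = P * G')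
    (hG' : Prn C m G') : Prn C' m G := by
  obtain ⟨l, hl, hlC, hp, hn⟩ := hG'
  have hPu := isUnit_of hP
  refine ⟨l.map fun k => P * k * P⁻¹, by simp [hl], ?_, ?_, ?_⟩
  · intro k hk
    obtain ⟨k', hk', rfl⟩ := List.mem_map.1 hk
    exact h _ k' (by rw [Matrix.nonsing_inv_mul_cancel_right _ _ hPu]) (hlC k' hk')
  · have e : ∀ l : List (Matrix (Fin n) (Fin n) K), (l.map fun k => P * k * P⁻¹).prod = P * l.prod * P⁻¹ := by
      intro l
      induction l with
      | nil => simp [Matrix.mul_nonsing_inv _ hPu]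
      | cons k l ih =>
        rw [List.map_cons, List.prod_cons, ih, List.prod_cons]
        simp only [Matrix.mul_assoc, Matrix.nonsing_inv_mul_cancel_left _ _ hPu]
    rw [e, hp, ← hG, Matrix.mul_nonsing_inv_cancel_right _ _ hPu]
  · intro c u hu
    have h1 : P⁻¹ *ᵥ u = 0 := hn c _ fun k hk => by
      have h2 := hu _ (List.mem_map.2 ⟨k, hk, rfl⟩)
      rw [← mulVec_mulVec, ← mulVec_mulVec] at h2
      have h3 := congrArg (P⁻¹ *ᵥ ·) h2
      simp only [mulVec_smul] at h3
      rwa [mulVec_mulVec, Matrix.nonsing_inv_mul _ hPu, one_mulVec] at h3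
    have h4 := congrArg (P *ᵥ ·) h1
    simp only [mulVec_mulVec, Matrix.mul_nonsing_inv _ hPu, one_mulVec, mulVec_zero] at h4
    exact h4

theorem RootFree.of_sim {A B : Matrix (Fin n) (Fin n) K} (h : Sim A B) (hB : RootFree B) : RootFree A := by
  obtain ⟨δ, hδ, P, hd, hP⟩ := h
  intro c hc
  refine hB c ?_
  have e : (A - c • 1) * P = P * (B - c • 1) := by
    rw [Matrix.sub_mul, Matrix.mul_sub, hP, Matrix.smul_mul, Matrix.mul_smul, one_mul, mul_one]
  have h2 := congrArg Matrix.det e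
  rw [det_mul, det_mul, hc, zero_mul, hd] at h2
  exact (mul_eq_zero.1 h2.symm).resolve_left hδ

end CfsgLib.Classical.Covering
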