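import Cfsg.Agent.Lib.Classical.Covering.RootFreeSL
import Cfsg.Agent.Lib.Classical.Covering.NoFix

/-!
# Matrices without eigenvalues in dimension four
-/

set_option autoImplicit false

namespace CfsgLib.Classical.Covering

open Matrix Polynomial CfsgLib.Classical.UnipotentGen CfsgLib.Classical.Sourour
open CfsgLib.Classical.RegularUnipotentProduct (Four)

variable {K : Type*} [Field K] {n m : ℕ}

theorem phi_two : (swapEven K 2).phi.det = 1 := by
  have e : (swapEven K 2).phi * fromBlocks 1 0 1 1 = fromBlocks 1 1 1 0 := by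
    simp [Swap.phi, swapEven, fromBlocks_multiply]
  have h := congrArg Matrix.det e
  rw [det_mul, det_fromBlocks_zero₁₂, det_fromBlocks_one₁₁] at h
  simpa [det_neg] using h

theorem det_of_frame {x E : Matrix (Fin (2 + 2)) (Fin (2 + 2)) K} {T B : Matrix (Fin 2) (Fin 2) K}
    (hE : E.det ≠ 0) (hxE : x * E = E * fin ((swapEven K 2).shape T B)) : x.det = T.det := by
  have h := congrArg Matrix.det hxE
  rw [det_mul, det_mul, det_fin, Swap.det_shape_sq, phi_two, one_mul,
    show (swapEven K 2).quot T B = T by simp [Swap.quot, swapEven], mul_comm] at h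
  exact mul_left_cancel₀ hE h

/-- A conjugate of a non-scalar matrix with a non-scalar product. -/
theorem exists_twist {T : Matrix (Fin 2) (Fin 2) K} (hT : NonScalar T) (hd : T.det ≠ 0) :
    ∃ P : Matrix (Fin 2) (Fin 2) K, P.det = 1 ∧ NonScalar (T * (P * T * P⁻¹)) ∨
      P = 1 ∧ NonScalar (T * (P * T * P⁻¹)) := by
  by_cases h0 : NonScalar (T * T)
  · exact ⟨1, Or.inr ⟨rfl, by simpa using h0⟩⟩
  obtain ⟨c, hc⟩ := not_not.1 h0
  by_contra! hall
  -- every such conjugate commutes like a multiple of `T`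
  have key : ∀ P : Matrix (Fin 2) (Fin 2) K, P.det = 1 → ∃ e, T * (P * T * P⁻¹) = e • 1 := fun P hP =>
    not_not.1 ((hall P).1 hP)
  have hz : ∀ P : Matrix (Fin 2) (Fin 2) K, P.det = 1 → ∃ e : K, P * T = e • (T * P) := by
    intro P hP
    obtain ⟨e, he⟩ := key P hP
    have hc0 : c ≠ 0 := fun h => by
      have := congrArg Matrix.det hc
      rw [det_mul, h, zero_smul, det_zero] at this
      exact hd (mul_self_eq_zero.1 this)
    refine ⟨e / c, ?_⟩
    have h1 : P * T * P⁻¹ = e • T⁻¹ := by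
      rw [← Matrix.nonsing_inv_mul_cancel_left T (P * T * P⁻¹) (isUnit_of hd), he, Matrix.mul_smul, mul_one]
    have h2 : T = c • T⁻¹ := by
      conv_lhs => rw [← Matrix.nonsing_inv_mul_cancel_left T T (isUnit_of hd), hc, Matrix.mul_smul, mul_one]
    rw [← Matrix.nonsing_inv_mul_cancel_right P (P * T) (isUnit_of (by rw [hP]; exact one_ne_zero)), h1,
      Matrix.smul_mul]
    conv_rhs => rw [h2, Matrix.smul_mul, smul_smul, div_mul_cancel₀ _ hc0]
  obtain ⟨e₁, h₁⟩ := hz !![1, 1; 0, 1] (by simp [det_fin_two])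
  obtain ⟨e₂, h₂⟩ := hz !![1, 0; 1, 1] (by simp [det_fin_two])
  have a := congrFun (congrFun h₁ 1) 0
  have b := congrFun (congrFun h₁ 1) 1
  have p := congrFun (congrFun h₁ 0) 0
  have q := congrFun (congrFun h₁ 0) 1
  have a' := congrFun (congrFun h₂ 0) 1
  have b' := congrFun (congrFun h₂ 0) 0
  have p' := congrFun (congrFun h₂ 1) 1
  have q' := congrFun (congrFun h₂ 1) 0
  simp [Matrix.mul_apply, Fin.sum_univ_two] at a b p q a' b' p' q'
  have hd' : T 0 0 * T 1 1 - T 0 1 * T 1 0 ≠ 0 := by rwa [← det_fin_two]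
  have h10 : T 1 0 = 0 := by
    by_contra h
    have he : e₁ = 1 := mul_right_cancel₀ h (by linear_combination -a)
    rw [he] at p
    exact h (by linear_combination p)
  have h01 : T 0 1 = 0 := by
    by_contra h
    have he : e₂ = 1 := mul_right_cancel₀ h (by linear_combination -a')
    rw [he] at p'
    exact h (by linear_combination p')
  rw [h10, h01, mul_zero, sub_zero] at hd'
  have he : e₁ = 1 := mul_right_cancel₀ (mul_ne_zero_iff.1 hd').2 (by rw [h10] at b; linear_combination -b)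
  refine hT ⟨T 0 0, ?_⟩
  rw [he, h01] at q
  ext i j
  fin_cases i <;> fin_cases j <;> simp [h01, h10]
  linear_combination q

/-- Every determinant-compatible non-scalar target, in the general linear group. -/
theorem gl_four [Fintype K] (hq : 4 ≤ Fintype.card K) {x : Matrix (Fin 4) (Fin 4) K} (hx : RootFree x)
    {g : Matrix (Fin 4) (Fin 4) K} (hdet : g.det = x.det ^ 4) (hg : NonScalar g ∨ g = x.det • 1) :
    Prd (fun y => Sim y x) 4 g := by
  classical
  have h4 := four_of_card hq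
  have hx0 := hx.det_ne_zero
  revert g
  refine (?_ : ∀ {g : Matrix (Fin (2 + 2)) (Fin (2 + 2)) K}, g.det = x.det ^ 4 →
    NonScalar g ∨ g = x.det • 1 → Prd (fun y => Sim y x) 4 g)
  intro g hdet hg
  obtain ⟨E, T, B, hEd, hxE⟩ := frame_even (s := 1) hx one_ne_zero
  have hE : E.det ≠ 0 := by rw [hEd]; exact one_ne_zero
  have hTd : x.det = T.det := det_of_frame hE hxE
  obtain ⟨P, hP, hns⟩ : ∃ P : Matrix (Fin 2) (Fin 2) K, P.det ≠ 0 ∧
      (NonScalar (T * (P * T * P⁻¹)) ∨ T * (P * T * P⁻¹) = x.det • 1) := by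
    by_cases hT : NonScalar T
    · obtain ⟨P, ⟨hP, h⟩ | ⟨rfl, h⟩⟩ := exists_twist hT (hTd ▸ hx0)
      · exact ⟨P, by rw [hP]; exact one_ne_zero, Or.inl h⟩
      · exact ⟨1, by simp, Or.inl h⟩
    · obtain ⟨c, hc⟩ := not_not.1 hT
      refine ⟨1, by simp, Or.inr ?_⟩
      rw [hTd, hc, det_smul, det_one, mul_one, Fintype.card_fin, one_mul, inv_one, mul_one, Matrix.smul_mul,
        Matrix.mul_smul, one_mul, smul_smul, pow_two]
  obtain ⟨v, hv⟩ := fresh_of_card (insert (0 : K) (roots2 x.det)) (lt_of_le_of_lt (Finset.card_insert_le _ _) (by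
    have := (card_roots2 x.det).1; omega))
  simp only [Finset.mem_insert, not_or] at hv
  have hvκ : v * v ≠ x.det := fun h => hv.2 (mem_roots2 h)
  obtain ⟨h, hh0, -, hk⟩ := even_two h4 (j := 0) hE hE hxE hxE hx0 hP hx0 hv.1 rfl hvκ hns
  set L := two (0 + 2) (0 + 2) v (x.det / v) with hL
  have hLg : Grouped L := grouped_two' fun e => hvκ (by
    calc v * v = v * (x.det / v) := by rw [← e]
      _ = x.det := mul_div_cancel₀ _ hv.1)
  have hL0 : ∀ i, L i ≠ 0 := fun i => by
    refine Fin.addCases (fun i => ?_) (fun i => ?_) i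
    · simp only [hL, two, Fin.append_left, cst]; exact hv.1
    · simp only [hL, two, Fin.append_right, cst]; exact div_ne_zero hx0 hv.1
  have hc : Cls x 2 L := cls_of_pair hh0 hk
  obtain ⟨p, q, rfl, hp, hq'⟩ := lu_any' (by omega) h4 hx0 hdet hg hLg hL0
  refine (hc p hp).mul (hc q (hq'.trans (sim_std' (grouped_const_div hLg hx0) hLg ?_)))
  rw [Fin.prod_univ_add, Fin.prod_univ_add]
  simp only [hL, two, Fin.append_left, Fin.append_right, cst, div_div_cancel₀ hx0]
  exact mul_comm _ _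

theorem two_cyclic {A : Matrix (Fin 2) (Fin 2) K} (h : A 1 0 ≠ 0) : Cyclic A :=
  Hess.cyclic fun i j => ⟨fun hij => absurd hij (by omega), fun hij => by
    obtain rfl : i = 1 := Fin.ext (by simp; omega)
    obtain rfl : j = 0 := Fin.ext (by simp; omega)
    exact h⟩

theorem two_cyclic' {A : Matrix (Fin 2) (Fin 2) K} (h : A 0 1 ≠ 0) : Cyclic A := by
  have := (two_cyclic (A := Aᵀ) h).transpose
  rwa [transpose_transpose] at this

/-- A split matrix times a regular unipotent one. -/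
theorem split_unipotent {S : Matrix (Fin 2) (Fin 2) K} (hS : NonScalar S) (hSd : S.det = 1) {f : K} (hf : f ≠ 0)
    (hff : f ≠ f⁻¹) :
    ∃ R : Matrix (Fin 2) (Fin 2) K, R.det = 1 ∧ Sim R (std ![f, f⁻¹]) ∧ Sim (R⁻¹ * S) (std (cst 2 (1 : K))) := by
  obtain ⟨Q, r, c, D, hQ, hc, hSQ⟩ := exists_corner hS f
  have hc0 : c 0 ≠ 0 := fun h => hc (funext fun i => by fin_cases i; exact h)
  set M : Matrix (Fin 2) (Fin 2) K := bord f r c D with hM
  have hMd : f * D 0 0 - r 0 * c 0 = 1 := by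
    have h := congrArg Matrix.det hSQ
    rw [det_mul, det_mul, hSd, one_mul] at h
    have h2 := (mul_eq_left₀ hQ).1 h.symm
    rw [det_fin_two] at h2
    exact h2
  have hM1 : M 1 0 = c 0 ∧ M 1 1 = D 0 0 ∧ M 0 1 = r 0 ∧ M 0 0 = f := ⟨rfl, rfl, rfl, rfl⟩
  obtain ⟨L, hL00, hL01, hL10, hL11, hLU⟩ : ∃ L : Matrix (Fin 2) (Fin 2) K, L 0 0 = f ∧ L 0 1 = 0 ∧
      (L 1 0 = c 0 ∨ L 1 0 = 0) ∧ L 1 1 = f⁻¹ ∧
      (L⁻¹ * M).charpoly = ∏ i, (X - C (cst 2 (1 : K) i)) ∧ Cyclic (L⁻¹ * M) := by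
    by_cases hr : r 0 = 0
    · refine ⟨!![f, 0; 0, f⁻¹], rfl, rfl, Or.inr rfl, rfl, ?_⟩
      have hd : D 0 0 = f⁻¹ := eq_inv_of_mul_eq_one_right (by rw [hr, zero_mul, sub_zero] at hMd; exact hMd)
      have e : (!![f, 0; 0, f⁻¹] : Matrix (Fin 2) (Fin 2) K)⁻¹ * M = !![1, 0; f * c 0, 1] := by
        rw [Matrix.inv_eq_right_inv (B := !![f⁻¹, 0; 0, f]) (by
          ext i j; fin_cases i <;> fin_cases j <;> simp [Matrix.mul_apply, Fin.sum_univ_two, hf])]
        ext i j
        fin_cases i <;> fin_cases j <;> simp [Matrix.mul_apply, Fin.sum_univ_two, hM1, hr, hd, hf]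
      rw [e]
      exact ⟨by simp [charpoly_fin_two, det_fin_two, trace_fin_two, cst, Fin.prod_univ_two, map_add]; ring,
        two_cyclic (by simp [hf, hc0])⟩
    · refine ⟨!![f, 0; c 0, f⁻¹], rfl, rfl, Or.inl rfl, rfl, ?_⟩
      have e : (!![f, 0; c 0, f⁻¹] : Matrix (Fin 2) (Fin 2) K)⁻¹ * M = !![1, r 0 / f; 0, 1] := by
        rw [Matrix.inv_eq_right_inv (B := !![f⁻¹, 0; -c 0, f]) (by
          ext i j; fin_cases i <;> fin_cases j <;> simp [Matrix.mul_apply, Fin.sum_univ_two, hf] <;> field_simp <;> ring)]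
        ext i j
        fin_cases i <;> fin_cases j <;> simp [Matrix.mul_apply, Fin.sum_univ_two, hM1, hf]
        · field_simp
        · ring
        · linear_combination hMd
      rw [e]
      exact ⟨by simp [charpoly_fin_two, det_fin_two, trace_fin_two, cst, Fin.prod_univ_two, map_add]; ring,
        two_cyclic' (by simp [hf, hr])⟩
  have hLd : L.det = 1 := by rw [det_fin_two, hL00, hL11, hL01]; simp [hf]
  have hgf : Grouped (![f, f⁻¹] : Fin 2 → K) := fun i j k hij hjk h => by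
    fin_cases i <;> fin_cases j <;> fin_cases k <;> simp_all
  have hLs : Sim L (std ![f, f⁻¹]) := by
    have hp : L.charpoly = ∏ i, (X - C (![f, f⁻¹] i)) := by
      simp [charpoly_fin_two, det_fin_two, trace_fin_two, hL00, hL01, hL11, Fin.prod_univ_two, map_add, hf]
      have : (C f : K[X]) * C f⁻¹ = 1 := by rw [← map_mul, mul_inv_cancel₀ hf, map_one]
      linear_combination -this
    refine sim_std_of hgf ?_ hp
    rcases hL10 with h | h
    · exact two_cyclic (by rw [h]; exact hc0)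
    · have e : L = std ![f, f⁻¹] := by
        ext i j
        fin_cases i <;> fin_cases j <;> simp [std, hL00, hL01, hL11, h, hff]
      rw [e]; exact (reg_std _).cyclic hgf
  have hu : Sim (L⁻¹ * M) (std (cst 2 (1 : K))) := sim_std_of (grouped_cst 1) hLU.2 hLU.1
  have hQu := isUnit_of hQ
  refine ⟨Q * L * Q⁻¹, ?_, (Cd.conj hQ L).sim hQ |>.trans hLs, ?_⟩
  · rw [det_mul, det_mul, det_nonsing_inv, Ring.inverse_eq_inv, hLd, mul_one, mul_inv_cancel₀ hQ]
  · refine (sim_of (P := Q) hQ ?_).trans hu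
    rw [Matrix.mul_inv_rev, Matrix.mul_inv_rev, Matrix.nonsing_inv_nonsing_inv _ hQu, Matrix.mul_assoc _ S Q, hSQ]
    simp only [Matrix.mul_assoc, hM]
    rw [Matrix.nonsing_inv_mul_cancel_left _ _ hQu]

/-- A frame from a cyclic vector. -/
theorem frame_cyclic {x : Matrix (Fin (2 + 2)) (Fin (2 + 2)) K} (hx : Cyclic x) :
    ∃ E T B, E.det ≠ 0 ∧ x * E = E * fin ((swapEven K 2).shape T B) ∧ NonScalar T := by
  classical
  obtain ⟨v, hv⟩ := hx
  set e : Fin 2 → Fin (2 + 2) → K := ![v, x *ᵥ (x *ᵥ v)] with he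
  set w : Fin 2 ⊕ Fin 2 → Fin (2 + 2) → K := Sum.elim e fun i => x *ᵥ e i with hw
  have hli : LinearIndependent K w := by
    rw [Fintype.linearIndependent_iff]
    intro g hg
    have h0 : kry x v *ᵥ ![g (Sum.inl 0), g (Sum.inr 0), g (Sum.inl 1), g (Sum.inr 1)] = 0 := by
      rw [kry_mulVec, ← hg, Fintype.sum_sum_type, Fin.sum_univ_two, Fin.sum_univ_two, Fin.sum_univ_four]
      simp only [hw, Sum.elim_inl, Sum.elim_inr, he, cons_val_zero, cons_val_one, Fin.val_zero, Fin.val_one,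
        pow_zero, pow_one, one_mulVec]
      rw [show ((2 : Fin (3 + 1)).val) = 2 from rfl, show ((3 : Fin (3 + 1)).val) = 3 from rfl, pow_succ' x 2,
        ← mulVec_mulVec, pow_two, ← mulVec_mulVec]
      simp
      abel
    have h1 := eq_zero_of_mulVec_eq_zero (det_kry_of_gen hv) h0
    have a := congrFun h1 0
    have b := congrFun h1 1
    have c := congrFun h1 2
    have d := congrFun h1 3
    simp at a b c d
    rintro (i | i) <;> fin_cases i <;> assumption
  have hd : (colMat w).det ≠ 0 := by rw [det_colMat]; exact colDet_ne_zero hli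
  obtain ⟨T, B, hxE⟩ := shape_of (swapEven K 2) x w hd id (fun i k => by simp [swapEven, Matrix.one_apply])
    (fun k => rfl)
  refine ⟨_, T, B, hd, hxE, fun ⟨t, ht⟩ => ?_⟩
  have hcol : ∀ l : Fin 2 ⊕ Fin 2, colMat w *ᵥ Pi.single (finSumFinEquiv l) 1 = w l := fun l => by
    rw [mulVec_single_one]; funext r; simp [colMat]
  have h2 := congrArg (fun M : Matrix (Fin (2 + 2)) (Fin (2 + 2)) K => M *ᵥ Pi.single (finSumFinEquiv (Sum.inr 0)) 1) hxE
  simp only [← mulVec_mulVec, hcol] at h2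
  have h3 : fin ((swapEven K 2).shape T B) *ᵥ Pi.single (finSumFinEquiv (Sum.inr (0 : Fin 2))) 1 =
      Pi.single (finSumFinEquiv (Sum.inl (1 : Fin 2))) 1 := by
    refine sub_eq_zero.1 (eq_zero_of_mulVec_eq_zero hd ?_)
    rw [mulVec_sub, ← h2, hcol, sub_eq_zero]
    simp [hw, he]
  have h4 := congrFun h3 (finSumFinEquiv (Sum.inl (1 : Fin 2)))
  rw [mulVec_single_one, Pi.single_eq_same, col_apply, fin, submatrix_apply, Equiv.symm_apply_apply,
    Equiv.symm_apply_apply, Swap.shape, fromBlocks_apply₁₂, ht] at h4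
  simp at h4

/-- Determinant one, cyclic: a list with a simple entry. -/
theorem sl_four_list [Fintype K] (hq : 4 ≤ Fintype.card K) {x : Matrix (Fin (2 + 2)) (Fin (2 + 2)) K}
    (hxc : Cyclic x) (hx1 : x.det = 1) :
    ∃ L : Fin (2 + 2) → K, Grouped L ∧ (∀ i, L i ≠ 0) ∧
      (∏ i, (X - C ((L i)⁻¹))) = ∏ i, (X - C (L i)) ∧ PCls (SC x) 2 L := by
  classical
  obtain ⟨f, hf0, hf1, -, hfi, hff⟩ := fresh_pm hq
  obtain ⟨E, T, B, hE, hxE, hT⟩ := frame_cyclic hxc
  have hTd : T.det = 1 := by rw [← det_of_frame hE hxE, hx1]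
  obtain ⟨P, hP, hns⟩ : ∃ P : Matrix (Fin 2) (Fin 2) K, P.det = 1 ∧ NonScalar (T * (P * T * P⁻¹)) := by
    obtain ⟨P, ⟨hP, h⟩ | ⟨rfl, h⟩⟩ := exists_twist hT (by rw [hTd]; exact one_ne_zero)
    · exact ⟨P, hP, h⟩
    · exact ⟨1, det_one, h⟩
  have hP0 : P.det ≠ 0 := by rw [hP]; exact one_ne_zero
  have hT'0 : (P * T * P⁻¹).det ≠ 0 := by
    rw [det_mul, det_mul, det_nonsing_inv, Ring.inverse_eq_inv, hP, hTd]; simp
  obtain ⟨R, hR, hRs, hWs⟩ := split_unipotent hns (by
    rw [det_mul, det_mul, det_mul, det_nonsing_inv, Ring.inverse_eq_inv, hP, hTd]; simp) hf0 hff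
  obtain ⟨h, hh0, hhd, Y, hk⟩ := (swapEven K 2).engine hE hE hxE hxE (P := P) (Q := R * P) (H1 := P) (H2 := R * P)
    (N := 0) hP0 (by rw [det_mul, hR, hP, one_mul]; exact one_ne_zero) (by simp [swapEven])
    (by simp [swapEven]) (by simp) (by simp [swapEven])
  have hh1 : h.det = 1 := by
    rw [phi_two, det_mul, hR, hP] at hhd
    simp only [one_mul, mul_one] at hhd
    exact (mul_eq_right₀ hE).1 hhd
  have hgf : Grouped (![f, f⁻¹] : Fin 2 → K) := fun i j k hij hjk h => by
    fin_cases i <;> fin_cases j <;> fin_cases k <;> simp_all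
  set L : Fin (2 + 2) → K := Fin.append ![f, f⁻¹] (cst 2 1) with hL
  have hdis : ∀ (i : Fin 2) (l : Fin 2), (![f, f⁻¹] : Fin 2 → K) i ≠ cst 2 1 l := fun i l => by
    fin_cases i
    · simpa [cst] using hf1
    · simpa [cst] using hfi
  have hLg : Grouped L := grouped_append hgf (grouped_cst 1) hdis
  have hks : Sim (h * x * h⁻¹ * x) (std L) := by
    refine hk.trans (join_std (a := 1) (b := 1) hgf (grouped_cst 1) hdis ?_ ?_ Y)
    · rwa [Matrix.mul_nonsing_inv_cancel_right _ _ (isUnit_of hP0)]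
    · rw [show (swapEven K 2).quot T B = T by simp [Swap.quot, swapEven]]
      refine (sim_of (P := P * T * P⁻¹) (B := R⁻¹ * (T * (P * T * P⁻¹))) hT'0 ?_).trans hWs
      rw [Matrix.mul_inv_rev]
      simp only [Matrix.mul_assoc]
  have hF : Full (std L) := by
    refine full_std (i₀ := Fin.castAdd 2 0) fun i hi => ?_
    revert hi
    refine Fin.addCases (fun i hi => ?_) (fun i hi => ?_) i
    · simp only [hL, Fin.append_left] at hi
      fin_cases i
      · rfl
      · exact absurd hi (by simpa using hff.symm)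
    · simp only [hL, Fin.append_left, Fin.append_right, cst] at hi
      exact absurd hi (by simpa using Ne.symm hf1)
  refine ⟨L, hLg, fun i => ?_, ?_, scls_of_mem hF hks (Prd.pair (by have := Cd.conj hh0 x; rwa [hh1] at this) (Cd.refl x))⟩
  · refine Fin.addCases (fun i => ?_) (fun i => ?_) i
    · simp only [hL, Fin.append_left]
      fin_cases i <;> simp [hf0]
    · simp only [hL, Fin.append_right, cst]; exact one_ne_zero
  · rw [Fin.prod_univ_add, Fin.prod_univ_add]
    simp only [hL, Fin.append_left, Fin.append_right, cst, Fin.prod_univ_two, cons_val_zero, cons_val_one, inv_inv,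
      inv_one]
    ring

/-- Matrices without eigenvalues and of determinant one, dimension four. -/
theorem sl_four [Fintype K] (hq : 4 ≤ Fintype.card K) {x : Matrix (Fin 4) (Fin 4) K} (hx : RootFree x)
    (hx1 : x.det = 1) {g : Matrix (Fin 4) (Fin 4) K} (hg1 : g.det = 1) (hg : NonScalar g ∨ g = 1) :
    Prd (SC x) 4 g := by
  rcases rootfree_small (n := 4) (by omega) hx with hF | hxc
  · exact (gl_four hq hx (by rw [hg1, hx1, one_pow]) (by rw [hx1, one_smul]; exact hg)).mono
      fun k hk => hF.any hk one_ne_zero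
  · obtain ⟨L, hLg, hL0, hLi, hc⟩ := sl_four_list hq (x := x) hxc hx1
    revert g
    refine (?_ : ∀ {g : Matrix (Fin (2 + 2)) (Fin (2 + 2)) K}, g.det = 1 → NonScalar g ∨ g = 1 → Prd (SC x) 4 g)
    intro g hg1 hg
    obtain ⟨p, q, rfl, hp, hq'⟩ := lu_any' (by omega) (four_of_card hq) one_ne_zero (by rw [hg1, one_pow])
      (by rwa [one_smul]) hLg hL0
    refine (hc p hp).mul (hc q (hq'.trans (sim_std' (grouped_const_div hLg one_ne_zero) hLg ?_)))
    simpa only [one_div] using hLi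

end CfsgLib.Classical.Covering
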