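import Mathlib

/-!
# Frames `e, x e` of a matrix without eigenvalues
-/

set_option autoImplicit false

namespace CfsgLib.Classical.Covering

open Matrix Module

variable {K : Type*} [Field K] {n j s : ℕ}

/-- No eigenvalue in the field. -/
def RootFree (x : Matrix (Fin n) (Fin n) K) : Prop := ∀ c : K, (x - c • 1).det ≠ 0

theorem RootFree.ne_smul {x : Matrix (Fin n) (Fin n) K} (hx : RootFree x) {v : Fin n → K} (hv : v ≠ 0) (c : K) :
    x *ᵥ v ≠ c • v := fun h => hx c (Matrix.exists_mulVec_eq_zero_iff.1 ⟨v, hv, by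
  rw [sub_mulVec, smul_mulVec, one_mulVec, h, sub_self]⟩)

/-- The vectors `e i` and `x (e i)` are independent. -/
def Good (x : Matrix (Fin n) (Fin n) K) (e : Fin j → Fin n → K) : Prop :=
  LinearIndependent K (Sum.elim e fun i => x *ᵥ e i)

/-- The span of a frame. -/
def fspan (x : Matrix (Fin n) (Fin n) K) (e : Fin j → Fin n → K) : Submodule K (Fin n → K) :=
  Submodule.span K (Set.range (Sum.elim e fun i => x *ᵥ e i))

theorem finrank_fspan_le (x : Matrix (Fin n) (Fin n) K) (e : Fin j → Fin n → K) :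
    finrank K (fspan x e) ≤ j + j := by
  have := finrank_range_le_card (R := K) (Sum.elim e fun i => x *ᵥ e i)
  exact this.trans (by simp)

theorem exists_notMem {Y : Submodule K (Fin n → K)} (h : finrank K Y < n) : ∃ v, v ∉ Y := by
  by_contra! hall
  rw [(Submodule.eq_top_iff').2 hall, finrank_top, finrank_fin_fun] at h
  omega

theorem exists_notMem_sup {Y : Submodule K (Fin n → K)} (h : finrank K Y + 2 ≤ n) (u : Fin n → K) :
    ∃ v, v ∉ Y ⊔ Submodule.span K {u} := by
  refine exists_notMem ?_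
  have h1 := Submodule.finrank_add_le_finrank_add_finrank Y (Submodule.span K {u})
  have h2 : finrank K (Submodule.span K {u}) ≤ 1 := (finrank_span_le_card {u}).trans (by simp)
  omega

/-- Extending a frame. -/
theorem exists_step_vec {x : Matrix (Fin n) (Fin n) K} (hx : RootFree x) {Y : Submodule K (Fin n → K)}
    (hY : finrank K Y + 2 ≤ n) :
    ∃ v, ∀ a b : K, a • v + b • (x *ᵥ v) ∈ Y → a = 0 ∧ b = 0 := by
  by_contra! hall
  have hs : ∀ v, v ∉ Y → ∃ c : K, x *ᵥ v - c • v ∈ Y := by
    intro v hv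
    obtain ⟨a, b, hmem, hab⟩ := hall v
    rcases eq_or_ne b 0 with rfl | hb
    · rcases eq_or_ne a 0 with rfl | ha
      · exact absurd rfl (hab rfl)
      · rw [zero_smul, add_zero] at hmem
        exact absurd ((Submodule.smul_mem_iff Y ha).1 hmem) hv
    · refine ⟨-(a / b), ?_⟩
      have := Y.smul_mem b⁻¹ hmem
      rwa [smul_add, smul_smul, smul_smul, inv_mul_cancel₀ hb, one_smul, add_comm, ← div_eq_inv_mul,
        ← sub_neg_eq_add, ← neg_smul] at this
  obtain ⟨v, hv⟩ := exists_notMem (Y := Y) (by omega)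
  obtain ⟨c, hc⟩ := hs v hv
  have hinv : ∀ y ∈ Y, x *ᵥ y ∈ Y := by
    intro y hy
    obtain ⟨v', hv'⟩ := exists_notMem_sup hY v
    have hv'Y : v' ∉ Y := fun h => hv' (Submodule.mem_sup_left h)
    have h1 : ∀ w, w ∉ Y → ∃ a : K, x *ᵥ y - a • w ∈ Y := by
      intro w hw
      obtain ⟨c₁, hc₁⟩ := hs w hw
      obtain ⟨c₂, hc₂⟩ := hs (w + y) (fun h => hw (by simpa using Y.sub_mem h hy))
      refine ⟨c₂ - c₁, ?_⟩
      have := Y.add_mem (Y.sub_mem hc₂ hc₁) (Y.smul_mem c₂ hy)
      convert this using 1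
      rw [mulVec_add]; module
    obtain ⟨a, ha⟩ := h1 v hv
    obtain ⟨a', ha'⟩ := h1 v' hv'Y
    have hdiff : a' • v' - a • v ∈ Y := by
      have := Y.sub_mem ha ha'
      convert this using 1
      module
    rcases eq_or_ne a' 0 with rfl | hne
    · simpa using ha'
    · refine absurd ?_ hv'
      have e : v' = a'⁻¹ • (a' • v' - a • v) + (a'⁻¹ * a) • v := by
        rw [smul_sub, smul_smul, smul_smul, inv_mul_cancel₀ hne, one_smul, sub_add_cancel]
      rw [e]
      exact Submodule.add_mem_sup (Y.smul_mem _ hdiff) (Submodule.smul_mem _ _ (Submodule.mem_span_singleton_self v))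
  have hall' : ∀ w, w ∉ Y → x *ᵥ w - c • w ∈ Y := by
    intro w hw
    obtain ⟨c', hc'⟩ := hs w hw
    rcases eq_or_ne c' c with rfl | hne
    · exact hc'
    exfalso
    by_cases hdep : w + v ∈ Y
    · have h2 : x *ᵥ (w + v) - c' • (w + v) ∈ Y := Y.sub_mem (hinv _ hdep) (Y.smul_mem _ hdep)
      have h3 := Y.sub_mem (Y.sub_mem h2 hc') hc
      rw [mulVec_add, show x *ᵥ w + x *ᵥ v - c' • (w + v) - (x *ᵥ w - c' • w) - (x *ᵥ v - c • v) = (c - c') • v by
        module] at h3
      exact hv ((Submodule.smul_mem_iff Y (sub_ne_zero.2 hne.symm)).1 h3)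
    · obtain ⟨c'', hc''⟩ := hs (w + v) hdep
      have h3 := Y.sub_mem (Y.sub_mem hc'' hc') hc
      rw [mulVec_add, show x *ᵥ w + x *ᵥ v - c'' • (w + v) - (x *ᵥ w - c' • w) - (x *ᵥ v - c • v) =
        (c' - c'') • w + (c - c'') • v by module] at h3
      obtain ⟨u, hu⟩ := exists_notMem_sup hY v
      rcases eq_or_ne c' c'' with e | e
      · rw [e, sub_self, zero_smul, zero_add] at h3
        exact hv ((Submodule.smul_mem_iff Y (sub_ne_zero.2 (e ▸ hne.symm))).1 h3)
      · -- `w` is a multiple of `v` modulo `Y`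
        set t := -((c' - c'')⁻¹ * (c - c''))
        have hwv : w - t • v ∈ Y := by
          have := Y.smul_mem (c' - c'')⁻¹ h3
          rw [smul_add, smul_smul, smul_smul, inv_mul_cancel₀ (sub_ne_zero.2 e), one_smul] at this
          rwa [neg_smul, sub_neg_eq_add]
        have h4 : x *ᵥ (w - t • v) - c' • (w - t • v) ∈ Y := Y.sub_mem (hinv _ hwv) (Y.smul_mem _ hwv)
        have h5 := Y.sub_mem (Y.sub_mem h4 hc') (Y.smul_mem (-t) hc)
        rw [mulVec_sub, mulVec_smul, show x *ᵥ w - t • (x *ᵥ v) - c' • (w - t • v) - (x *ᵥ w - c' • w) -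
          -t • (x *ᵥ v - c • v) = (t * (c' - c)) • v by module] at h5
        rcases eq_or_ne t 0 with ht | ht
        · rw [ht, zero_smul, sub_zero] at hwv; exact hw hwv
        · exact hv ((Submodule.smul_mem_iff Y (mul_ne_zero ht (sub_ne_zero.2 hne))).1 h5)
  have hrange : ∀ w, (x - c • 1) *ᵥ w ∈ Y := by
    intro w
    rw [sub_mulVec, smul_mulVec, one_mulVec]
    by_cases hw : w ∈ Y
    · exact Y.sub_mem (hinv w hw) (Y.smul_mem c hw)
    · exact hall' w hw
  refine hv ?_
  have hu : IsUnit (x - c • 1).det := isUnit_iff_ne_zero.2 (hx c)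
  have := hrange ((x - c • 1)⁻¹ *ᵥ v)
  rwa [mulVec_mulVec, Matrix.mul_nonsing_inv _ hu, one_mulVec] at this

theorem exists_good {x : Matrix (Fin n) (Fin n) K} (hx : RootFree x) :
    ∀ j, j + j ≤ n → ∃ e : Fin j → Fin n → K, Good x e := by
  intro j
  induction j with
  | zero => exact fun _ => ⟨fun i => i.elim0, linearIndependent_empty_type⟩
  | succ j ih =>
    intro hj
    obtain ⟨e, he⟩ := ih (by omega)
    obtain ⟨v, hv⟩ := exists_step_vec hx (Y := fspan x e) (by have := finrank_fspan_le x e; omega)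
    refine ⟨Fin.snoc e v, ?_⟩
    unfold Good
    rw [Fintype.linearIndependent_iff]
    intro g hg
    rw [Fintype.sum_sum_type, Fin.sum_univ_castSucc, Fin.sum_univ_castSucc] at hg
    simp only [Sum.elim_inl, Sum.elim_inr, Fin.snoc_castSucc, Fin.snoc_last] at hg
    have hmem : g (Sum.inl (Fin.last j)) • v + g (Sum.inr (Fin.last j)) • (x *ᵥ v) ∈ fspan x e := by
      have h1 : (∑ i : Fin j, g (Sum.inl i.castSucc) • e i) + ∑ i : Fin j, g (Sum.inr i.castSucc) • (x *ᵥ e i) ∈
          fspan x e :=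
        add_mem (Submodule.sum_mem _ fun i _ => Submodule.smul_mem _ _ (Submodule.subset_span ⟨Sum.inl i, rfl⟩))
          (Submodule.sum_mem _ fun i _ => Submodule.smul_mem _ _ (Submodule.subset_span ⟨Sum.inr i, rfl⟩))
      have e1 := eq_neg_of_add_eq_zero_left ((show (g (Sum.inl (Fin.last j)) • v + g (Sum.inr (Fin.last j)) • (x *ᵥ v)) +
        ((∑ i : Fin j, g (Sum.inl i.castSucc) • e i) + ∑ i : Fin j, g (Sum.inr i.castSucc) • (x *ᵥ e i)) = 0 by
          rw [← hg]; abel))
      rw [e1]
      exact neg_mem h1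
    obtain ⟨ha, hb⟩ := hv _ _ hmem
    rw [ha, hb, zero_smul, zero_smul, add_zero, add_zero] at hg
    unfold Good at he
    rw [Fintype.linearIndependent_iff] at he
    have h2 := he (Sum.elim (fun i => g (Sum.inl i.castSucc)) fun i => g (Sum.inr i.castSucc))
      (by rw [Fintype.sum_sum_type]; simpa using hg)
    rintro (i | i)
    · exact Fin.lastCases ha (fun i => h2 (Sum.inl i)) i
    · exact Fin.lastCases hb (fun i => h2 (Sum.inr i)) i

variable {t : ℕ}

/-- The matrix with prescribed columns. -/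
def colMat (w : Fin s ⊕ Fin t → Fin (s + t) → K) : Matrix (Fin (s + t)) (Fin (s + t)) K :=
  Matrix.of fun i l => w (finSumFinEquiv.symm l) i

/-- Its determinant, as an alternating map. -/
noncomputable def colDet (s t : ℕ) (K : Type*) [Field K] :
    (Fin (s + t) → K) [⋀^(Fin s ⊕ Fin t)]→ₗ[K] K :=
  (Matrix.detRowAlternating : (Fin (s + t) → K) [⋀^(Fin (s + t))]→ₗ[K] K).domDomCongr finSumFinEquiv.symm

theorem det_colMat (w : Fin s ⊕ Fin t → Fin (s + t) → K) : (colMat w).det = colDet s t K w := by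
  rw [← det_transpose]; rfl

theorem colDet_ne_zero {w : Fin s ⊕ Fin t → Fin (s + t) → K} (hw : LinearIndependent K w) :
    colDet s t K w ≠ 0 := by
  rw [← det_colMat, ← isUnit_iff_ne_zero, ← Matrix.isUnit_iff_isUnit_det,
    ← Matrix.linearIndependent_cols_iff_isUnit]
  exact hw.comp _ finSumFinEquiv.symm.injective

/-- Frames of every determinant in even dimension. -/
theorem exists_frame_even [Fintype K] {x : Matrix (Fin (s + 1 + (s + 1))) (Fin (s + 1 + (s + 1))) K}
    (hx : RootFree x) {δ : K} (hδ : δ ≠ 0) :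
    ∃ e : Fin (s + 1) → Fin (s + 1 + (s + 1)) → K, (colMat (Sum.elim e fun i => x *ᵥ e i)).det = δ := by
  classical
  obtain ⟨e, he⟩ := exists_good hx s (by omega)
  have hYr₀ : finrank K (fspan x e) + 2 ≤ s + 1 + (s + 1) := by have := finrank_fspan_le x e; omega
  set Y := fspan x e with hY
  have hYr : finrank K Y + 2 ≤ s + 1 + (s + 1) := hYr₀
  let W : (Fin (s + 1 + (s + 1)) → K) → (Fin (s + 1 + (s + 1)) → K) → Fin (s + 1) ⊕ Fin (s + 1) →
      Fin (s + 1 + (s + 1)) → K := fun u w => Sum.elim (Fin.snoc e u) (Fin.snoc (fun i => x *ᵥ e i) w)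
  set il : Fin (s + 1) ⊕ Fin (s + 1) := Sum.inl (Fin.last s)
  set ir : Fin (s + 1) ⊕ Fin (s + 1) := Sum.inr (Fin.last s)
  let β := fun u w => colDet (s + 1) (s + 1) K (W u w)
  have hWl : ∀ u w u', Function.update (W u w) il u' = W u' w := by
    intro u w u'
    funext i
    rcases i with i | i
    · refine Fin.lastCases ?_ (fun i => ?_) i <;> simp [W, il, Function.update_apply, Fin.ext_iff]
      intro h; omega
    · simp [W, il]
  have hWr : ∀ u w w', Function.update (W u w) ir w' = W u w' := by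
    intro u w w'
    funext i
    rcases i with i | i
    · simp [W, ir]
    · refine Fin.lastCases ?_ (fun i => ?_) i <;> simp [W, ir, Function.update_apply, Fin.ext_iff]
      intro h; omega
  have addl : ∀ u u' w, β (u + u') w = β u w + β u' w := fun u u' w => by
    simp only [β]
    rw [← hWl u w (u + u'), AlternatingMap.map_update_add, hWl, hWl]
  have smull : ∀ (a : K) u w, β (a • u) w = a * β u w := fun a u w => by
    simp only [β]
    rw [← hWl u w (a • u), AlternatingMap.map_update_smul, hWl, smul_eq_mul]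
  have addr : ∀ u w w', β u (w + w') = β u w + β u w' := fun u w w' => by
    simp only [β]
    rw [← hWr u w (w + w'), AlternatingMap.map_update_add, hWr, hWr]
  have smulr : ∀ (a : K) u w, β u (a • w) = a * β u w := fun a u w => by
    simp only [β]
    rw [← hWr u w (a • w), AlternatingMap.map_update_smul, hWr, smul_eq_mul]
  have hself : ∀ u, β u u = 0 := fun u =>
    AlternatingMap.map_eq_zero_of_eq _ _ (show W u u il = W u u ir by simp [W, il, ir]) (by simp [il, ir])
  have hYl : ∀ y ∈ Y, ∀ w, β y w = 0 := by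
    intro y hy w
    induction hy using Submodule.span_induction with
    | mem u hu =>
      obtain ⟨i | i, rfl⟩ := hu
      · refine AlternatingMap.map_eq_zero_of_eq _ _ (show W _ w il = W _ w (Sum.inl i.castSucc) by simp [W, il]) ?_
        simp [il, Fin.ext_iff]; omega
      · exact AlternatingMap.map_eq_zero_of_eq _ _ (show W _ w il = W _ w (Sum.inr i.castSucc) by simp [W, il])
          (by simp [il])
    | zero => simpa using smull 0 0 w
    | add u v _ _ h1 h2 => rw [addl, h1, h2, add_zero]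
    | smul a u _ h => rw [smull, h, mul_zero]
  have hanti : ∀ u w, β w u = -β u w := fun u w => by
    have h := hself (u + w)
    rw [addl, addr, addr, hself, hself] at h
    linear_combination h
  have hYr' : ∀ y ∈ Y, ∀ u, β u y = 0 := fun y hy u => by rw [hanti, hYl y hy, neg_zero]
  have hne : ∀ u w, (∀ a b : K, a • u + b • w ∈ Y → a = 0 ∧ b = 0) → β u w ≠ 0 := by
    intro u w huw
    refine colDet_ne_zero ?_
    rw [Fintype.linearIndependent_iff]
    intro g hg
    rw [Fintype.sum_sum_type, Fin.sum_univ_castSucc, Fin.sum_univ_castSucc] at hg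
    simp only [W, Sum.elim_inl, Sum.elim_inr, Fin.snoc_castSucc, Fin.snoc_last] at hg
    have h1 : (∑ i : Fin s, g (Sum.inl i.castSucc) • e i) + ∑ i : Fin s, g (Sum.inr i.castSucc) • (x *ᵥ e i) ∈ Y :=
      add_mem (Submodule.sum_mem _ fun i _ => Submodule.smul_mem _ _ (Submodule.subset_span ⟨Sum.inl i, rfl⟩))
        (Submodule.sum_mem _ fun i _ => Submodule.smul_mem _ _ (Submodule.subset_span ⟨Sum.inr i, rfl⟩))
    have e1 := eq_neg_of_add_eq_zero_left ((show (g (Sum.inl (Fin.last s)) • u + g (Sum.inr (Fin.last s)) • w) +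
      ((∑ i : Fin s, g (Sum.inl i.castSucc) • e i) + ∑ i : Fin s, g (Sum.inr i.castSucc) • (x *ᵥ e i)) = 0 by
        rw [← hg]; abel))
    obtain ⟨ha, hb⟩ := huw _ _ (e1 ▸ neg_mem h1)
    rw [ha, hb, zero_smul, zero_smul, add_zero, add_zero] at hg
    unfold Good at he
    rw [Fintype.linearIndependent_iff] at he
    have h2 := he (Sum.elim (fun i => g (Sum.inl i.castSucc)) fun i => g (Sum.inr i.castSucc))
      (by rw [Fintype.sum_sum_type]; simpa using hg)
    rintro (i | i)
    · exact Fin.lastCases ha (fun i => h2 (Sum.inl i)) i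
    · exact Fin.lastCases hb (fun i => h2 (Sum.inr i)) i
  suffices h : ∃ v, β v (x *ᵥ v) = δ by
    obtain ⟨v, hv⟩ := h
    refine ⟨Fin.snoc e v, ?_⟩
    rw [det_colMat, ← hv]
    simp only [β, W]
    congr 2
    funext i
    refine Fin.lastCases ?_ (fun i => ?_) i <;> simp
  by_cases hinv : ∀ y ∈ Y, x *ᵥ y ∈ Y
  · obtain ⟨v, hv⟩ := exists_step_vec hx hYr
    set Δ := β v (x *ᵥ v) with hΔ
    have hΔ0 : Δ ≠ 0 := hne _ _ hv
    -- `x² v` modulo the span
    set w2 := x *ᵥ (x *ᵥ v)
    set τ := β v w2 / Δ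
    set ν := β w2 (x *ᵥ v) / Δ
    have hval : ∀ α γ : K, β (α • v + γ • (x *ᵥ v)) (x *ᵥ (α • v + γ • (x *ᵥ v))) =
        Δ * (α * α + τ * α * γ - ν * (γ * γ)) := by
      intro α γ
      rw [mulVec_add, mulVec_smul, mulVec_smul, addl, addr, addr, smull, smull, smull, smull, smulr, smulr, smulr,
        smulr, hself, show β (x *ᵥ v) w2 = -β w2 (x *ᵥ v) from hanti _ _]
      have hb0 : β v (x *ᵥ v) ≠ 0 := hΔ0
      simp only [τ, ν, hΔ, w2]
      field_simp
      ring
    have haniso : ∀ α : K, α * α + τ * α - ν ≠ 0 := by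
      intro α h
      set u := α • v + (1 : K) • (x *ᵥ v) with hu
      have huY : u ∉ Y := fun h' => one_ne_zero (hv _ _ h').2
      have h0 : β u (x *ᵥ u) = 0 := by rw [hu, hval]; linear_combination Δ * h
      obtain ⟨a, b, hab, hne'⟩ : ∃ a b : K, a • u + b • (x *ᵥ u) ∈ Y ∧ (a = 0 → b ≠ 0) := by
        by_contra! hc
        exact hne u (x *ᵥ u) (fun a b h' => ⟨by
          by_contra ha
          obtain ⟨ha', -⟩ := hc a b h'
          exact ha ha', (hc a b h').2⟩) h0
      rcases eq_or_ne b 0 with rfl | hb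
      · rcases eq_or_ne a 0 with rfl | ha
        · exact hne' rfl rfl
        · rw [zero_smul, add_zero] at hab
          exact huY ((Submodule.smul_mem_iff Y ha).1 hab)
      set c := -(a / b)
      have hN : (x - c • 1) *ᵥ u ∈ Y := by
        have := Y.smul_mem b⁻¹ hab
        rw [smul_add, smul_smul, smul_smul, inv_mul_cancel₀ hb, one_smul, ← div_eq_inv_mul, add_comm ((a / b) • u)] at this
        simp only [c, sub_mulVec, smul_mulVec, one_mulVec, neg_smul, sub_neg_eq_add]
        rw [add_mulVec, smul_mulVec, one_mulVec]; exact this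
      -- `x - c` maps the span onto itself
      let f : Y →ₗ[K] Y := ((x - c • 1).mulVecLin.domRestrict Y).codRestrict Y fun y => by
        simp only [LinearMap.domRestrict_apply, mulVecLin_apply, sub_mulVec, smul_mulVec, one_mulVec]
        exact Y.sub_mem (hinv _ y.2) (Y.smul_mem c y.2)
      have hinj : Function.Injective f := by
        intro y z hyz
        have h1 : (x - c • 1) *ᵥ y.1 = (x - c • 1) *ᵥ z.1 := congrArg Subtype.val hyz
        exact Subtype.ext ((Matrix.mulVec_injective_iff_isUnit.2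
          ((Matrix.isUnit_iff_isUnit_det _).2 (isUnit_iff_ne_zero.2 (hx c)))) h1)
      obtain ⟨y, hy⟩ := (LinearMap.injective_iff_surjective.1 hinj) ⟨_, hN⟩
      have h1 : (x - c • 1) *ᵥ y.1 = (x - c • 1) *ᵥ u := congrArg Subtype.val hy
      have := (Matrix.mulVec_injective_iff_isUnit.2
        ((Matrix.isUnit_iff_isUnit_det _).2 (isUnit_iff_ne_zero.2 (hx c)))) h1
      exact huY (this ▸ y.2)
    obtain ⟨α, γ, hαγ⟩ : ∃ α γ : K, α * α + τ * α * γ - ν * (γ * γ) = δ / Δ := by
      by_cases hch : ringChar K = 2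
      · obtain ⟨r, hr⟩ := FiniteField.isSquare_of_char_two hch (δ / Δ)
        exact ⟨r, 0, by rw [hr]; ring⟩
      · have h2 : (2 : K) ≠ 0 := Ring.two_ne_zero hch
        have hodd : Fintype.card K % 2 = 1 := FiniteField.odd_card_of_char_ne_two hch
        set c₀ := -(ν + τ * τ / 4)
        have h4 : (4 : K) ≠ 0 := by
          rw [show (4 : K) = 2 * 2 by norm_num]; exact mul_ne_zero h2 h2
        have hc₀ : c₀ ≠ 0 := fun h => haniso (-τ / 2) (by
          have e : c₀ = (-τ / 2) * (-τ / 2) + τ * (-τ / 2) - ν := by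
            simp only [c₀]; field_simp; ring
          rw [← e, h])
        obtain ⟨a, b, hab⟩ := FiniteField.exists_root_sum_quadratic
          (f := Polynomial.X ^ 2) (g := Polynomial.C c₀ * Polynomial.X ^ 2 - Polynomial.C (δ / Δ))
          (Polynomial.degree_X_pow 2) (by
            rw [Polynomial.degree_sub_eq_left_of_degree_lt, Polynomial.degree_C_mul_X_pow 2 hc₀]
            · rfl
            · rw [Polynomial.degree_C_mul_X_pow 2 hc₀]
              exact lt_of_le_of_lt Polynomial.degree_C_le (by norm_num)) hodd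
        refine ⟨a - τ * b / 2, b, ?_⟩
        simp at hab
        simp only [c₀] at hab
        field_simp at hab ⊢
        linear_combination hab
    exact ⟨α • v + γ • (x *ᵥ v), by rw [hval, hαγ, mul_div_cancel₀ _ hΔ0]⟩
  · push Not at hinv
    obtain ⟨y, hy, hxy⟩ := hinv
    obtain ⟨v, hv⟩ := exists_notMem_sup hYr (x *ᵥ y)
    have hL : β v (x *ᵥ y) ≠ 0 := by
      refine hne _ _ fun a b hab => ?_
      rcases eq_or_ne a 0 with rfl | ha
      · refine ⟨rfl, ?_⟩
        rcases eq_or_ne b 0 with rfl | hb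
        · rfl
        · rw [zero_smul, zero_add] at hab
          exact absurd ((Submodule.smul_mem_iff Y hb).1 hab) hxy
      · refine absurd ?_ hv
        have e : v = a⁻¹ • (a • v + b • (x *ᵥ y)) + (-(a⁻¹ * b)) • (x *ᵥ y) := by
          rw [smul_add, smul_smul, smul_smul, inv_mul_cancel₀ ha, one_smul, neg_smul, add_neg_cancel_right]
        rw [e]
        exact Submodule.add_mem_sup (Y.smul_mem _ hab) (Submodule.smul_mem _ _ (Submodule.mem_span_singleton_self _))
    set t := (δ - β v (x *ᵥ v)) / β v (x *ᵥ y)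
    refine ⟨v + t • y, ?_⟩
    rw [mulVec_add, mulVec_smul, addl, smull, hYl y hy, mul_zero, add_zero, addr, smulr]
    simp only [t]
    rw [div_mul_cancel₀ _ hL]
    ring

/-- Frames of every determinant in odd dimension. -/
theorem exists_frame_odd {x : Matrix (Fin (s + (s + 1))) (Fin (s + (s + 1))) K}
    (hx : RootFree x) {δ : K} (hδ : δ ≠ 0) :
    ∃ (e : Fin s → Fin (s + (s + 1)) → K) (z : Fin (s + (s + 1)) → K),
      (colMat (Sum.elim e (Fin.cons z fun i => x *ᵥ e i))).det = δ := by
  classical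
  obtain ⟨e, he⟩ := exists_good hx s (by omega)
  obtain ⟨z, hz⟩ := exists_notMem (Y := fspan x e) (by have := finrank_fspan_le x e; omega)
  have hli : LinearIndependent K (Sum.elim e (Fin.cons z fun i => x *ᵥ e i)) := by
    rw [Fintype.linearIndependent_iff]
    intro g hg
    rw [Fintype.sum_sum_type, Fin.sum_univ_succ] at hg
    simp only [Sum.elim_inl, Sum.elim_inr, Fin.cons_zero, Fin.cons_succ] at hg
    have h1 : (∑ i : Fin s, g (Sum.inl i) • e i) + ∑ i : Fin s, g (Sum.inr i.succ) • (x *ᵥ e i) ∈ fspan x e :=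
      add_mem (Submodule.sum_mem _ fun i _ => Submodule.smul_mem _ _ (Submodule.subset_span ⟨Sum.inl i, rfl⟩))
        (Submodule.sum_mem _ fun i _ => Submodule.smul_mem _ _ (Submodule.subset_span ⟨Sum.inr i, rfl⟩))
    have e1 := eq_neg_of_add_eq_zero_left ((show g (Sum.inr 0) • z +
      ((∑ i : Fin s, g (Sum.inl i) • e i) + ∑ i : Fin s, g (Sum.inr i.succ) • (x *ᵥ e i)) = 0 by
        rw [← hg]; abel))
    have ha : g (Sum.inr 0) = 0 := by
      by_contra ha
      exact hz ((Submodule.smul_mem_iff _ ha).1 (e1 ▸ neg_mem h1))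
    rw [ha, zero_smul, zero_add] at hg
    unfold Good at he
    rw [Fintype.linearIndependent_iff] at he
    have h2 := he (Sum.elim (fun i => g (Sum.inl i)) fun i => g (Sum.inr i.succ))
      (by rw [Fintype.sum_sum_type]; simpa using hg)
    rintro (i | i)
    · exact h2 (Sum.inl i)
    · exact Fin.cases ha (fun i => h2 (Sum.inr i)) i
  have h0 := colDet_ne_zero hli
  refine ⟨e, (δ / colDet s (s + 1) K (Sum.elim e (Fin.cons z fun i => x *ᵥ e i))) • z, ?_⟩
  have hu : Sum.elim e (Fin.cons ((δ / colDet s (s + 1) K (Sum.elim e (Fin.cons z fun i => x *ᵥ e i))) • z)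
      fun i => x *ᵥ e i) = Function.update (Sum.elim e (Fin.cons z fun i => x *ᵥ e i)) (Sum.inr 0)
        ((δ / colDet s (s + 1) K (Sum.elim e (Fin.cons z fun i => x *ᵥ e i))) • z) := by
    funext i
    rcases i with i | i
    · simp
    · refine Fin.cases ?_ (fun i => ?_) i <;> simp [Function.update_apply, Fin.succ_ne_zero]
  rw [det_colMat, hu, AlternatingMap.map_update_smul, smul_eq_mul]
  have hz' : Function.update (Sum.elim e (Fin.cons z fun i => x *ᵥ e i)) (Sum.inr 0) z =
      Sum.elim e (Fin.cons z fun i => x *ᵥ e i) := Function.update_eq_self_iff.2 (by simp)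
  rw [hz', div_mul_cancel₀ _ h0]

end CfsgLib.Classical.Covering
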