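import Cfsg.Agent.Lib.Classical.Covering.Sim

/-!
# Upper triangular matrices with grouped diagonal
-/

set_option autoImplicit false

namespace CfsgLib.Classical.Covering

open Matrix Polynomial CfsgLib.Classical.UnipotentGen CfsgLib.Classical.Sourour

variable {K : Type*} [Field K] {n m : ℕ}

/-- Equal entries of the list are adjacent. -/
def Grouped (d : Fin n → K) : Prop := ∀ i j k : Fin n, i ≤ j → j ≤ k → d i = d k → d j = d i

/-- Upper triangular with diagonal `d` and non-zero entries between equal neighbours. -/
def Reg (d : Fin n → K) (U : Matrix (Fin n) (Fin n) K) : Prop :=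
  (∀ i, U i i = d i) ∧
    ∀ i j : Fin n, (j.val < i.val → U i j = 0) ∧ (j.val = i.val + 1 → d i = d j → U i j ≠ 0)

theorem UReg.reg {U : Matrix (Fin n) (Fin n) K} (hU : UReg U) : Reg (fun i => U i i) U :=
  ⟨fun _ => rfl, fun i j => ⟨(hU i j).1, fun h _ => (hU i j).2 h⟩⟩

theorem Reg.charpoly_eq {d : Fin n → K} {U : Matrix (Fin n) (Fin n) K} (hU : Reg d U) :
    U.charpoly = ∏ i, (X - C (d i)) := by
  rw [charpoly_of_isUpperTriangular U fun i j h => (hU.2 i j).1 h]
  simp only [hU.1]

theorem Reg.det_eq {d : Fin n → K} {U : Matrix (Fin n) (Fin n) K} (hU : Reg d U) : U.det = ∏ i, d i := by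
  rw [det_of_isUpperTriangular fun i j h => (hU.2 i j).1 h]
  simp only [hU.1]

theorem Reg.cyclic {d : Fin (m + 1) → K} {U : Matrix (Fin (m + 1)) (Fin (m + 1)) K} (hd : Grouped d)
    (hU : Reg d U) : Cyclic U := by
  classical
  let Low : Fin (m + 1) → (Fin (m + 1) → K) → Prop := fun j f =>
    (∀ i, i < j → f i = 0) ∧ f j = 1 ∧ f ᵥ* U = d j • f
  let φ : Fin (m + 1) → Fin (m + 1) → K := fun j => if h : ∃ f, Low j f then h.choose else Pi.single j 1
  have hφlow : ∀ j i, i < j → φ j i = 0 := by
    intro j i hi
    simp only [φ]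
    split_ifs with h
    · exact h.choose_spec.1 i hi
    · exact Pi.single_eq_of_ne hi.ne 1
  have hφdiag : ∀ j, φ j j = 1 := by
    intro j
    simp only [φ]
    split_ifs with h
    · exact h.choose_spec.2.1
    · exact Pi.single_eq_same j 1
  have hdet : (Matrix.of φ).det ≠ 0 := by
    rw [det_of_isUpperTriangular]
    · simp [hφdiag]
    · intro i j hij
      exact hφlow i j hij
  obtain ⟨v, hv⟩ : ∃ v, Matrix.of φ *ᵥ v = fun _ => 1 :=
    ⟨(Matrix.of φ)⁻¹ *ᵥ fun _ => 1, by rw [mulVec_mulVec, Matrix.mul_nonsing_inv _ (isUnit_of hdet), one_mulVec]⟩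
  refine ⟨v, fun f hf => ?_⟩
  have key : ∀ k : ℕ, ∀ f : Fin (m + 1) → K, (∀ i, i.val < m + 1 - k → f i = 0) →
      (∀ k : ℕ, f ⬝ᵥ (U ^ k *ᵥ v) = 0) → f = 0 := by
    intro k
    induction k with
    | zero => exact fun f h _ => funext fun i => h i (by omega)
    | succ k ih =>
      intro f h hann
      rcases Nat.lt_or_ge m k with hk | hk
      · exact ih f (fun i hi => absurd hi (by omega)) hann
      set j : Fin (m + 1) := ⟨m - k, by omega⟩
      by_contra hne
      have hfj : f j ≠ 0 := by
        intro h0
        refine hne (ih f (fun i hi => ?_) hann)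
        rcases Nat.lt_or_ge i.val (m - k) with h' | h'
        · exact h i (by omega)
        · rw [show i = j from Fin.ext (by simp [j]; omega)]; exact h0
      set f' := f ᵥ* U - d j • f with hf'
      have hf'0 : f' = 0 := by
        refine ih f' (fun i hi => ?_) fun l => ?_
        · have hij : i ≤ j := Fin.le_def.2 (by simp [j]; omega)
          simp only [hf', Pi.sub_apply, Pi.smul_apply, smul_eq_mul, vecMul, dotProduct]
          rw [Finset.sum_eq_single i]
          · rcases eq_or_lt_of_le hij with rfl | hlt
            · rw [hU.1]; ring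
            · rw [h i (by rw [Fin.lt_def] at hlt; simp [j] at hlt; omega)]; simp
          · intro l _ hl
            rcases Nat.lt_or_ge i.val l.val with hil | hil
            · rw [(hU.2 l i).1 hil, mul_zero]
            · rw [h l (by
                have : l.val ≠ i.val := fun e => hl (Fin.ext e)
                rw [Fin.le_def] at hij; simp [j] at hij; omega), zero_mul]
          · simp
        · rw [hf', sub_dotProduct, ← dotProduct_mulVec, mulVec_mulVec, ← pow_succ', smul_dotProduct, hann, hann,
            smul_zero, sub_zero]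
      have heig : f ᵥ* U = d j • f := sub_eq_zero.1 hf'0
      set g := (f j)⁻¹ • f with hg
      have hgL : Low j g := by
        refine ⟨fun i hi => ?_, by simp [hg, hfj], by rw [hg, smul_vecMul, heig, smul_comm]⟩
        rw [hg, Pi.smul_apply, h i (by rw [Fin.lt_def] at hi; simp [j] at hi; omega), smul_zero]
      have hex : ∃ f, Low j f := ⟨g, hgL⟩
      -- no later entry equals `d j`
      have hlater : ∀ i, j < i → d i ≠ d j := by
        intro i hi e
        have hj1 : m - k + 1 < m + 1 := by rw [Fin.lt_def] at hi; simp [j] at hi; omega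
        set j1 : Fin (m + 1) := ⟨m - k + 1, hj1⟩
        have e1 : d j1 = d j := hd j j1 i (Fin.le_def.2 (by simp [j, j1]))
          (Fin.le_def.2 (by rw [Fin.lt_def] at hi; simp [j, j1] at hi ⊢; omega)) e.symm
        have h1 := congrFun hgL.2.2 j1
        rw [vecMul, dotProduct, Finset.sum_eq_add j j1 (fun hh => by simp [j, j1, Fin.ext_iff] at hh)] at h1
        · rw [hgL.2.1, hU.1, e1, Pi.smul_apply, smul_eq_mul] at h1
          exact (hU.2 j j1).2 rfl e1.symm (by linear_combination h1)
        · rintro l - ⟨h1, h2⟩
          rcases Nat.lt_or_ge l.val (m - k) with hl | hl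
          · rw [hgL.1 l (Fin.lt_def.2 hl), zero_mul]
          · rw [(hU.2 l j1).1 (by
              have a1 : l.val ≠ m - k := fun e => h1 (Fin.ext e)
              have a2 : l.val ≠ m - k + 1 := fun e => h2 (Fin.ext e)
              simp [j1]; omega), mul_zero]
        · simp
        · simp
      have huniq : φ j = g := by
        have hφj : φ j = hex.choose := by simp only [φ, dif_pos hex]
        rw [hφj]
        set e := hex.choose with he'
        have he : Low j e := hex.choose_spec
        set w := e - g
        have hw : w ᵥ* U = d j • w := by rw [sub_vecMul, he.2.2, hgL.2.2, smul_sub]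
        have hw0 : ∀ i : Fin (m + 1), w i = 0 := by
          intro i
          induction hi : i.val using Nat.strong_induction_on generalizing i with
          | _ N ihN =>
            subst hi
            rcases lt_trichotomy i j with hij | hij | hij
            · simp [w, he.1 i hij, hgL.1 i hij]
            · simp [w, hij, he.2.1, hgL.2.1]
            · have h1 := congrFun hw i
              rw [vecMul, dotProduct, Finset.sum_eq_single i, hU.1, Pi.smul_apply, smul_eq_mul] at h1
              · have : w i * (d i - d j) = 0 := by linear_combination h1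
                exact (mul_eq_zero.1 this).resolve_right (sub_ne_zero.2 (hlater i hij))
              · intro l _ hl
                rcases Nat.lt_or_ge l.val i.val with h' | h'
                · rw [ihN l.val h' l rfl, zero_mul]
                · rw [(hU.2 l i).1 (lt_of_le_of_ne h' fun e => hl (Fin.ext e.symm)), mul_zero]
              · simp
        exact sub_eq_zero.1 (funext hw0)
      have h0 := hann 0
      rw [pow_zero, one_mulVec] at h0
      have h1 : φ j ⬝ᵥ v = 1 := congrFun hv j
      rw [huniq, hg, smul_dotProduct, h0, smul_zero] at h1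
      exact zero_ne_one h1
  exact key (m + 1) f (fun i hi => absurd hi (by omega)) hf

/-- The standard matrix with a given grouped diagonal. -/
noncomputable def std (d : Fin n → K) : Matrix (Fin n) (Fin n) K :=
  by classical exact Matrix.of fun i j => if i = j then d i else if j.val = i.val + 1 ∧ d i = d j then 1 else 0

theorem reg_std (d : Fin n → K) : Reg d (std d) := by
  classical
  refine ⟨fun i => by simp [std], fun i j => ⟨fun h => ?_, fun h e => ?_⟩⟩
  · simp only [std, of_apply]
    rw [if_neg (fun e => by subst e; omega), if_neg (fun e => by omega)]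
  · simp only [std, of_apply]
    rw [if_neg (fun e => by subst e; omega), if_pos ⟨h, e⟩]
    exact one_ne_zero

theorem diagonal_comm_std {d e : Fin n → K} (he : ∀ i j : Fin n, j.val = i.val + 1 → d i = d j → e i = e j) :
    diagonal e * std d = std d * diagonal e := by
  classical
  ext i j
  rw [diagonal_mul, mul_diagonal]
  simp only [std, of_apply]
  split_ifs with h1 h2
  · subst h1; ring
  · rw [he i j h2.1 h2.2]; ring
  · ring

/-- A simple diagonal entry gives every determinant in the centraliser. -/
theorem full_std {d : Fin n → K} {i₀ : Fin n} (h : ∀ i, d i = d i₀ → i = i₀) : Full (std d) := by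
  classical
  intro μ _
  refine ⟨diagonal (Function.update (fun _ => 1) i₀ μ), ?_, diagonal_comm_std fun i j hij e => ?_⟩
  · rw [det_diagonal, Finset.prod_update_of_mem (Finset.mem_univ i₀)]
    simp
  · rcases eq_or_ne i i₀ with rfl | hi
    · rw [h j e.symm] at hij; omega
    · have hj : j ≠ i₀ := fun hj => hi (h i (e.trans (by rw [hj])))
      simp [hi, hj]

theorem Reg.sim_std {d : Fin (m + 1) → K} {U : Matrix (Fin (m + 1)) (Fin (m + 1)) K} (hd : Grouped d)
    (hU : Reg d U) : Sim U (std d) :=
  sim_of_cyclic (hU.cyclic hd) ((reg_std d).cyclic hd) (by rw [hU.charpoly_eq, (reg_std d).charpoly_eq])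

/-- `Sim` to a matrix with the given list. -/
theorem sim_std_of {d : Fin (m + 1) → K} {A : Matrix (Fin (m + 1)) (Fin (m + 1)) K} (hd : Grouped d)
    (hA : Cyclic A) (hp : A.charpoly = ∏ i, (X - C (d i))) : Sim A (std d) :=
  sim_of_cyclic hA ((reg_std d).cyclic hd) (by rw [hp, (reg_std d).charpoly_eq])

section tri

variable {d : Fin n → K} {U : Matrix (Fin n) (Fin n) K}

theorem prefix_kill (hU : Reg d U) : ∀ (k : ℕ) (hk : k ≤ n), ∀ v : Fin n → K, (∀ i, k ≤ i.val → v i = 0) →
    (List.ofFn fun a : Fin k => U - d ⟨a.val, by omega⟩ • 1).prod *ᵥ v = 0 := by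
  intro k
  induction k with
  | zero =>
    intro _ v hv
    rw [show v = 0 from funext fun i => hv i (by omega), mulVec_zero]
  | succ k ih =>
    intro hk v hv
    rw [List.ofFn_succ', List.concat_eq_append, List.prod_append, List.prod_singleton, ← mulVec_mulVec]
    refine ih (by omega) _ fun i hi => ?_
    simp only [Fin.val_last]
    rw [sub_mulVec, smul_mulVec, one_mulVec, Pi.sub_apply, Pi.smul_apply, smul_eq_mul, mulVec, dotProduct]
    rcases Nat.lt_or_ge k i.val with h | h
    · rw [Finset.sum_eq_zero, hv i h, mul_zero, sub_zero]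
      intro l _
      rcases Nat.lt_or_ge k l.val with h' | h'
      · rw [hv l h', mul_zero]
      · rw [(hU.2 i l).1 (by omega), zero_mul]
    · have hik : (⟨k, by omega⟩ : Fin n) = i := Fin.ext (by simp only; omega)
      rw [hik]
      have hiv : i.val = k := by omega
      rw [Finset.sum_eq_single i, hU.1, sub_self]
      · intro l _ hl
        have : l.val ≠ k := fun e => hl (Fin.ext (e.trans hiv.symm))
        rcases Nat.lt_or_ge k l.val with h' | h'
        · rw [hv l h', mul_zero]
        · rw [(hU.2 _ l).1 (by omega), zero_mul]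
      · simp

theorem prefix_top (hd : Grouped d) (hU : Reg d U) : ∀ (k : ℕ) (hk : k ≤ n), ∀ (v : Fin n → K) (j : Fin n),
    k ≤ j.val → v j ≠ 0 → (∀ i, j < i → v i = 0) →
    (List.ofFn fun a : Fin k => U - d ⟨a.val, by omega⟩ • 1).prod *ᵥ v ≠ 0 := by
  intro k
  induction k with
  | zero => intro _ v j _ hj _ h; simp at h; exact hj (by rw [h]; rfl)
  | succ k ih =>
    intro hk v j hkj hj htop
    rw [List.ofFn_succ', List.concat_eq_append, List.prod_append, List.prod_singleton, ← mulVec_mulVec]
    simp only [Fin.val_last]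
    set c := d ⟨k, by omega⟩ with hc
    have hterm : ∀ i : Fin n, j ≤ i → ((U - c • 1) *ᵥ v) i = if i = j then (d j - c) * v j else 0 := by
      intro i hi
      rw [sub_mulVec, smul_mulVec, one_mulVec, Pi.sub_apply, Pi.smul_apply, smul_eq_mul, mulVec, dotProduct,
        Finset.sum_eq_single i]
      · rw [hU.1]
        split_ifs with h
        · subst h; ring
        · rw [htop i (lt_of_le_of_ne hi (Ne.symm h))]; ring
      · intro l _ hl
        rcases lt_or_gt_of_ne hl with h | h
        · rw [(hU.2 i l).1 h, zero_mul]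
        · rw [htop l (lt_of_le_of_lt hi h), mul_zero]
      · simp
    by_cases he : d j = c
    · have hk1 : j.val - 1 < n := by omega
      set j1 : Fin n := ⟨j.val - 1, hk1⟩
      have e1 : d j1 = d j := (hd ⟨k, by omega⟩ j1 j (Fin.le_def.2 (by simp [j1]; omega))
        (Fin.le_def.2 (by simp [j1])) he.symm).trans he.symm
      refine ih (by omega) _ j1 (by simp [j1]; omega) ?_ fun i hi => ?_
      · rw [sub_mulVec, smul_mulVec, one_mulVec, Pi.sub_apply, Pi.smul_apply, smul_eq_mul, mulVec, dotProduct,
          Finset.sum_eq_add j1 j (fun h => by simp [j1, Fin.ext_iff] at h; omega)]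
        · rw [hU.1, e1, he]
          have : U j1 j * v j ≠ 0 := mul_ne_zero ((hU.2 j1 j).2 (by simp [j1]; omega) e1) hj
          intro h; exact this (by linear_combination h)
        · rintro l - ⟨h1, h2⟩
          rcases Nat.lt_or_ge l.val j1.val with h | h
          · rw [(hU.2 j1 l).1 h, zero_mul]
          · rw [htop l ?_, mul_zero]
            have a1 : l.val ≠ j.val - 1 := fun e => h1 (Fin.ext e)
            have a2 : l.val ≠ j.val := fun e => h2 (Fin.ext e)
            simp [j1] at h; rw [Fin.lt_def]; omega
        · simp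
        · simp
      · have hle : j ≤ i := Fin.le_def.2 (by rw [Fin.lt_def] at hi; simp [j1] at hi; omega)
        rw [hterm i hle]
        split_ifs
        · rw [he, sub_self, zero_mul]
        · rfl
    · refine ih (by omega) _ j (by omega) ?_ fun i hi => ?_
      · rw [hterm j le_rfl, if_pos rfl]; exact mul_ne_zero (sub_ne_zero.2 he) hj
      · rw [hterm i hi.le, if_neg hi.ne']

/-- Conjugators between two such matrices are triangular. -/
theorem conj_upper (hd : Grouped d) (hU : Reg d U) {V Q : Matrix (Fin n) (Fin n) K} (hV : Reg d V)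
    (h : U * Q = Q * V) {i j : Fin n} (hij : j < i) : Q i j = 0 := by
  classical
  by_contra hne
  have hne' : (Finset.univ.filter fun l => Q l j ≠ 0).Nonempty := ⟨i, by simp [hne]⟩
  set t := (Finset.univ.filter fun l => Q l j ≠ 0).max' hne'
  have ht : Q t j ≠ 0 := by simpa using Finset.max'_mem _ hne'
  have htop : ∀ l, t < l → Q l j = 0 := fun l hl => by
    by_contra h'
    exact absurd (Finset.le_max' _ l (by simp [h'])) (not_le.2 hl)
  have hle : i ≤ t := Finset.le_max' _ i (by simp [hne])
  have hk : j.val + 1 ≤ n := j.isLt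
  have hcomm : ∀ (k : ℕ) (hk : k ≤ n), (List.ofFn fun a : Fin k => U - d ⟨a.val, by omega⟩ • 1).prod * Q =
      Q * (List.ofFn fun a : Fin k => V - d ⟨a.val, by omega⟩ • 1).prod := by
    intro k
    induction k with
    | zero => simp
    | succ k ih =>
      intro hk
      simp only [List.ofFn_succ', List.concat_eq_append, List.prod_append, List.prod_singleton, Fin.val_last,
        Fin.val_castSucc]
      rw [Matrix.mul_assoc, show (U - d ⟨k, by omega⟩ • 1) * Q = Q * (V - d ⟨k, by omega⟩ • 1) by
        rw [Matrix.sub_mul, Matrix.mul_sub, h, Matrix.smul_mul, Matrix.mul_smul, one_mul, mul_one],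
        ← Matrix.mul_assoc, ih (by omega), Matrix.mul_assoc]
  refine prefix_top hd hU (j.val + 1) hk (fun l => Q l j) t ?_ ht htop ?_
  · rw [Fin.le_def] at hle; rw [Fin.lt_def] at hij; omega
  have e1 : (fun l => Q l j) = Q *ᵥ Pi.single j 1 := by rw [mulVec_single_one]; rfl
  rw [e1, mulVec_mulVec, hcomm _ hk, ← mulVec_mulVec, prefix_kill hV _ hk _ fun l hl => ?_, mulVec_zero]
  exact Pi.single_eq_of_ne (fun e => by subst e; omega) 1

end tri

/-- The weight of a coordinate: the product of the entries joining it to the end of its group. -/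
noncomputable def wt (d : Fin (m + 1) → K) (U : Matrix (Fin (m + 1)) (Fin (m + 1)) K) (i : Fin (m + 1)) : K :=
  by classical exact ∏ p : Fin m, if i.val ≤ p.val ∧ d i = d p.succ then U p.castSucc p.succ else 1

/-- The determinant class of a grouped triangular matrix. -/
noncomputable def cls (d : Fin (m + 1) → K) (U : Matrix (Fin (m + 1)) (Fin (m + 1)) K) : K := ∏ i, wt d U i

theorem wt_ne_zero {d : Fin (m + 1) → K} {U : Matrix (Fin (m + 1)) (Fin (m + 1)) K} (hd : Grouped d)
    (hU : Reg d U) (i : Fin (m + 1)) : wt d U i ≠ 0 := by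
  classical
  refine Finset.prod_ne_zero_iff.2 fun p _ => ?_
  split_ifs with h
  · refine (hU.2 _ _).2 (by simp) ?_
    exact (hd i p.castSucc p.succ (Fin.le_def.2 (by simpa using h.1)) (Fin.le_def.2 (by simp)) h.2).trans h.2
  · exact one_ne_zero

theorem cls_ne_zero {d : Fin (m + 1) → K} {U : Matrix (Fin (m + 1)) (Fin (m + 1)) K} (hd : Grouped d)
    (hU : Reg d U) : cls d U ≠ 0 := Finset.prod_ne_zero_iff.2 fun i _ => wt_ne_zero hd hU i

theorem Reg.cd_std {d : Fin (m + 1) → K} {U : Matrix (Fin (m + 1)) (Fin (m + 1)) K} (hd : Grouped d)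
    (hU : Reg d U) : Cd (cls d U) U (std d) := by
  classical
  obtain ⟨δ, hδ, Q, hQd, hQ⟩ := hU.sim_std hd
  have hup : ∀ i j, j < i → Q i j = 0 := fun i j h => conj_upper hd hU (reg_std d) hQ h
  have hdetQ : Q.det = ∏ i, Q i i := det_of_isUpperTriangular fun i j h => hup i j h
  have hQii : ∀ i, Q i i ≠ 0 := fun i h => hδ (by
    rw [← hQd, hdetQ]; exact Finset.prod_eq_zero (Finset.mem_univ i) h)
  have hstep : ∀ p : Fin m, d p.castSucc = d p.succ →
      Q p.castSucc p.castSucc = U p.castSucc p.succ * Q p.succ p.succ := by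
    intro p hp
    have h := congrFun (congrFun hQ p.castSucc) p.succ
    rw [Matrix.mul_apply, Matrix.mul_apply,
      Finset.sum_eq_add p.castSucc p.succ (fun e => by simp [Fin.ext_iff] at e),
      Finset.sum_eq_add p.castSucc p.succ (fun e => by simp [Fin.ext_iff] at e)] at h
    · rw [hU.1, (reg_std d).1, show std d p.castSucc p.succ = 1 by
        simp [std, Fin.ext_iff, hp], ← hp] at h
      linear_combination -h
    all_goals first
      | (simp; done)
      | (rintro l - ⟨h1, h2⟩
         have a1 : l.val ≠ p.val := fun e => h1 (Fin.ext e)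
         have a2 : l.val ≠ p.val + 1 := fun e => h2 (Fin.ext e)
         rcases Nat.lt_or_ge l.val p.val with hl | hl
         · first
            | rw [(hU.2 _ l).1 (by simpa using hl), zero_mul]
            | rw [hup _ l (Fin.lt_def.2 (by simpa using hl)), zero_mul]
         · first
            | rw [hup l _ (Fin.lt_def.2 (by simp; omega)), mul_zero]
            | rw [((reg_std d).2 l _).1 (by simp; omega), mul_zero])
  set e : Fin (m + 1) → K := fun i => Q i i * (wt d U i)⁻¹
  have he : ∀ i j : Fin (m + 1), j.val = i.val + 1 → d i = d j → e i = e j := by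
    intro i j hij hdij
    obtain ⟨p, rfl, rfl⟩ : ∃ p : Fin m, p.castSucc = i ∧ p.succ = j :=
      ⟨⟨i.val, by omega⟩, Fin.ext rfl, Fin.ext hij.symm⟩
    have hw : wt d U p.castSucc = U p.castSucc p.succ * wt d U p.succ := by
      rw [wt, wt, ← Finset.mul_prod_erase _ _ (Finset.mem_univ p),
        ← Finset.mul_prod_erase (Finset.univ : Finset (Fin m)) _ (Finset.mem_univ p),
        if_pos ⟨by simp, hdij⟩, if_neg (fun h => by simp at h), one_mul]
      congr 1
      refine Finset.prod_congr rfl fun q hq => ?_
      have hqp : q.val ≠ p.val := fun e => (Finset.mem_erase.1 hq).1 (Fin.ext e)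
      refine if_congr ?_ rfl rfl
      simp only [Fin.val_castSucc, Fin.val_succ, hdij]
      exact and_congr (by omega) Iff.rfl
    have := (hU.2 p.castSucc p.succ).2 (by simp) hdij
    have := wt_ne_zero hd hU p.succ
    simp only [e, hstep p hdij, hw]
    field_simp
  have he0 : ∀ i, e i ≠ 0 := fun i => mul_ne_zero (hQii i) (inv_ne_zero (wt_ne_zero hd hU i))
  refine ⟨Q * diagonal fun i => (e i)⁻¹, ?_, ?_⟩
  · rw [det_mul, det_diagonal, hdetQ, ← Finset.prod_mul_distrib]
    refine Finset.prod_congr rfl fun i _ => ?_
    have := hQii i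
    have := wt_ne_zero hd hU i
    simp only [e]
    field_simp
  · rw [← Matrix.mul_assoc, hQ, Matrix.mul_assoc, ← diagonal_comm_std (fun i j h h' => by rw [he i j h h']),
      Matrix.mul_assoc]

/-- Scaling the first joining entry of a group scales the class. -/
theorem cls_scale {d : Fin (m + 1) → K} {U V : Matrix (Fin (m + 1)) (Fin (m + 1)) K} (hd : Grouped d) {p₀ : Fin m}
    (hp : d p₀.castSucc = d p₀.succ) (hfirst : ∀ i : Fin (m + 1), i.val < p₀.val → d i ≠ d p₀.castSucc) {t : K}
    (h0 : V p₀.castSucc p₀.succ = t * U p₀.castSucc p₀.succ)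
    (h : ∀ p : Fin m, p ≠ p₀ → d p.castSucc = d p.succ → V p.castSucc p.succ = U p.castSucc p.succ) :
    cls d V = t * cls d U := by
  classical
  rw [cls, cls, ← Finset.mul_prod_erase _ _ (Finset.mem_univ p₀.castSucc),
    ← Finset.mul_prod_erase (Finset.univ : Finset (Fin (m + 1))) _ (Finset.mem_univ p₀.castSucc), ← mul_assoc]
  congr 1
  · rw [wt, wt, ← Finset.mul_prod_erase _ _ (Finset.mem_univ p₀),
      ← Finset.mul_prod_erase (Finset.univ : Finset (Fin m)) _ (Finset.mem_univ p₀), if_pos ⟨by simp, hp⟩,
      if_pos ⟨by simp, hp⟩, h0, mul_assoc]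
    congr 2
    refine Finset.prod_congr rfl fun q hq => ?_
    split_ifs with hc
    · exact h q (Finset.mem_erase.1 hq).1
        ((hd p₀.castSucc q.castSucc q.succ (Fin.le_def.2 (by simpa using hc.1)) (Fin.le_def.2 (by simp)) hc.2).trans hc.2)
    · rfl
  · refine Finset.prod_congr rfl fun i hi => ?_
    refine Finset.prod_congr rfl fun q _ => ?_
    split_ifs with hc
    · refine h q (fun e => ?_) ?_
      · subst e
        rcases Nat.lt_or_ge i.val q.val with h' | h'
        · exact hfirst i h' (hc.2.trans hp.symm)
        · exact (Finset.mem_erase.1 hi).1 (Fin.ext (by simp; omega))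
      · exact (hd i q.castSucc q.succ (Fin.le_def.2 (by simpa using hc.1)) (Fin.le_def.2 (by simp)) hc.2).trans hc.2
    · rfl

/-- Two-valued lists. -/
theorem grouped_two (k : ℕ) (a b : K) : Grouped (fun i : Fin n => if i.val < k then a else b) := by
  intro i j l hij hjl h
  rw [Fin.le_def] at hij hjl
  simp only at h ⊢
  split_ifs at h ⊢ <;> first | rfl | exact h.symm | omega

end CfsgLib.Classical.Covering
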