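import Cfsg.Agent.Lib.Classical.Covering.Three
import Cfsg.Agent.Lib.Classical.Covering.Four
import Cfsg.Agent.Lib.Classical.Covering.Exceptional

/-!
# Non-scalar targets in all dimensions
-/

set_option autoImplicit false

namespace CfsgLib.Classical.Covering

open Matrix Module CfsgLib.Classical.UnipotentGen CfsgLib.Classical.Sourour

variable {K : Type*} [Field K] {n m : ℕ}

theorem finrank_ker_add (A : Matrix (Fin n) (Fin n) K) :
    finrank K (LinearMap.ker A.mulVecLin) + A.rank = n := by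
  have h := A.mulVecLin.finrank_range_add_finrank_ker
  rw [Module.finrank_fin_fun] at h
  rw [Matrix.rank]
  omega

theorem mem_ker_sub (y : Matrix (Fin n) (Fin n) K) (c : K) (v : Fin n → K) :
    v ∈ LinearMap.ker (y - c • 1).mulVecLin ↔ y *ᵥ v = c • v := by
  rw [LinearMap.mem_ker, mulVecLin_apply, sub_mulVec, smul_mulVec, one_mulVec, sub_eq_zero]

theorem rank_conj {A B P : Matrix (Fin n) (Fin n) K} (hP : P.det ≠ 0) (h : A * P = P * B) : A.rank = B.rank := by
  have hu := isUnit_of hP
  refine le_antisymm ?_ ?_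
  · rw [← Matrix.mul_nonsing_inv_cancel_right P A hu, h]
    exact (rank_mul_le_left _ _).trans (rank_mul_le_right _ _)
  · rw [← Matrix.nonsing_inv_mul_cancel_left P B hu, ← h]
    exact (rank_mul_le_right _ _).trans (rank_mul_le_left _ _)

theorem bord_sub (a c : K) (r : Fin m → K) (Y : Matrix (Fin m) (Fin m) K) :
    bord a r 0 Y - c • 1 = bord (a - c) r 0 (Y - c • 1) := by
  ext i j
  refine Fin.cases ?_ (fun i => ?_) i <;> refine Fin.cases ?_ (fun j => ?_) j <;>
    simp [Matrix.one_apply, Fin.succ_inj, Fin.succ_ne_zero, (Fin.succ_ne_zero _).symm]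

theorem bord_mulVec (a : K) (r : Fin m → K) (Z : Matrix (Fin m) (Fin m) K) (x : Fin (m + 1) → K) :
    bord a r 0 Z *ᵥ x = Fin.cons (a * x 0 + r ⬝ᵥ Fin.tail x) (Z *ᵥ Fin.tail x) := by
  funext i
  refine Fin.cases ?_ (fun i => ?_) i <;> simp [mulVec, dotProduct, Fin.sum_univ_succ, Fin.tail]

theorem bord_rank_le (a : K) (r : Fin m → K) (Z : Matrix (Fin m) (Fin m) K) :
    (bord a r 0 Z).rank ≤ Z.rank + 1 := by
  let inc : (Fin m → K) →ₗ[K] (Fin (m + 1) → K) :=
    { toFun := fun w => Fin.cons 0 w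
      map_add' := fun u v => by funext i; refine Fin.cases ?_ (fun i => ?_) i <;> simp
      map_smul' := fun c u => by funext i; refine Fin.cases ?_ (fun i => ?_) i <;> simp }
  have hle : LinearMap.range (bord a r 0 Z).mulVecLin ≤
      Submodule.map inc (LinearMap.range Z.mulVecLin) ⊔ Submodule.span K {Pi.single 0 1} := by
    rintro _ ⟨x, rfl⟩
    refine Submodule.mem_sup.2 ⟨inc (Z *ᵥ Fin.tail x), ⟨_, ⟨_, rfl⟩, rfl⟩,
      (a * x 0 + r ⬝ᵥ Fin.tail x) • Pi.single 0 1, Submodule.smul_mem _ _ (Submodule.mem_span_singleton_self _), ?_⟩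
    rw [mulVecLin_apply, bord_mulVec]
    funext i
    refine Fin.cases ?_ (fun i => ?_) i <;> simp [inc]
  have h1 := Submodule.finrank_mono hle
  have h2 := Submodule.finrank_add_le_finrank_add_finrank (Submodule.map inc (LinearMap.range Z.mulVecLin))
    (Submodule.span K {(Pi.single 0 1 : Fin (m + 1) → K)})
  have h3 := Submodule.finrank_map_le inc (LinearMap.range Z.mulVecLin)
  have h4 : finrank K (Submodule.span K {(Pi.single 0 1 : Fin (m + 1) → K)}) ≤ 1 :=
    (finrank_span_le_card _).trans (by simp)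
  simp only [Matrix.rank]
  omega

theorem bord_rank_le' {a : K} {r : Fin m → K} {Z : Matrix (Fin m) (Fin m) K}
    (h : ev 0 ∉ LinearMap.range (bord a r 0 Z).mulVecLin) : (bord a r 0 Z).rank ≤ Z.rank := by
  let tl : (Fin (m + 1) → K) →ₗ[K] (Fin m → K) :=
    { toFun := Fin.tail, map_add' := fun _ _ => rfl, map_smul' := fun _ _ => rfl }
  have hinj : Function.Injective (tl.domRestrict (LinearMap.range (bord a r 0 Z).mulVecLin)) := by
    refine (injective_iff_map_eq_zero _).2 fun w hw => Subtype.ext ?_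
    have hw' : Fin.tail w.1 = 0 := hw
    by_contra hne
    refine h ?_
    have hw0 : w.1 0 ≠ 0 := fun h0 => hne (funext fun i => by
      refine Fin.cases ?_ (fun i => ?_) i
      · exact h0
      · exact congrFun hw' i)
    have e : ev 0 = (w.1 0)⁻¹ • w.1 := by
      funext i
      refine Fin.cases ?_ (fun i => ?_) i
      · simp [ev, hw0]
      · have := congrFun hw' i
        simp [Fin.tail] at this
        simp [ev, this]
    rw [e]
    exact Submodule.smul_mem _ _ w.2
  have hle : LinearMap.range (tl.domRestrict (LinearMap.range (bord a r 0 Z).mulVecLin)) ≤ LinearMap.range Z.mulVecLin := by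
    rintro _ ⟨⟨w, x, rfl⟩, rfl⟩
    refine ⟨Fin.tail x, ?_⟩
    show Z *ᵥ Fin.tail x = Fin.tail (bord a r 0 Z *ᵥ x)
    rw [bord_mulVec, Fin.tail_cons]
  simp only [Matrix.rank]
  rw [← LinearMap.finrank_range_of_inj hinj]
  exact Submodule.finrank_mono hle

/-- Dimension three: cyclic unless a rank-one perturbation of a scalar. -/
theorem three_cases {y : Matrix (Fin 3) (Fin 3) K} (hy : NonScalar y) :
    Cyclic y ∨ ∃ c : K, (y - c • 1).rank ≤ 1 := by
  obtain ⟨e, he, hey⟩ := exists_moved hy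
  obtain ⟨P, hP, hP0, hP1⟩ := exists_pair (m := 0) he hey
  have hPu : IsUnit P.det := by rw [hP]; exact isUnit_one
  set M := P⁻¹ * y * P with hM
  have hyP : y * P = P * M := by
    rw [hM]; simp only [Matrix.mul_assoc]; rw [Matrix.mul_nonsing_inv_cancel_left _ _ hPu]
  have hsim : Sim y M := sim_of (by rw [hP]; exact one_ne_zero) hyP
  have hc : ∀ i, M i 0 = (ev 1 : Fin 3 → K) i := by
    intro i
    have h : M *ᵥ ev 0 = ev 1 := by
      rw [hM, ← mulVec_mulVec, ← mulVec_mulVec, hP0, ← hP1, mulVec_mulVec, Matrix.nonsing_inv_mul _ hPu, one_mulVec]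
    have := congrFun h i
    rwa [ev, mulVec_single_one] at this
  have h00 : M 0 0 = 0 := by simpa [ev] using hc 0
  have h10 : M 1 0 = 1 := by simpa [ev] using hc 1
  have h20 : M 2 0 = 0 := by simpa [ev] using hc 2
  by_cases hs : M 2 1 = 0
  swap
  · left
    refine Cyclic.of_sim hsim ⟨ev 0, gen_of_det_kry ?_⟩
    simpa [kry, det_fin_three, ev, pow_two, Matrix.mul_apply, Fin.sum_univ_three, h00, h10, h20] using hs
  obtain ⟨i₁, hi₁⟩ : ∃ t, M 0 1 = t := ⟨_, rfl⟩
  obtain ⟨p, hp⟩ : ∃ t, M 0 2 = t := ⟨_, rfl⟩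
  obtain ⟨j, hj⟩ : ∃ t, M 1 1 = t := ⟨_, rfl⟩
  obtain ⟨q, hq⟩ : ∃ t, M 1 2 = t := ⟨_, rfl⟩
  obtain ⟨r, hr⟩ : ∃ t, M 2 2 = t := ⟨_, rfl⟩
  by_cases hΔ : r * r - j * r - i₁ = 0
  · by_cases hb : p + r * q = 0
    · refine Or.inr ⟨r, ?_⟩
      rw [rank_conj (B := M - r • 1) (P := P) (by rw [hP]; exact one_ne_zero) (by
        rw [Matrix.sub_mul, Matrix.mul_sub, hyP, Matrix.smul_mul, Matrix.mul_smul, one_mul, mul_one])]
      rw [show M - r • 1 = vecMulVec ![-r, 1, 0] ![1, j - r, q] from ?_]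
      · exact rank_vecMulVec_le _ _
      ext a b
      fin_cases a <;> fin_cases b <;> simp [vecMulVec_apply, h00, h10, h20, hs, hi₁, hp, hj, hq, hr]
      · linear_combination -hΔ
      · linear_combination hb
    · left
      classical
      set α := if j = 2 * r then 0 else (1 - p - (j - r) * q) / (j - 2 * r) with hα
      have key : p + (j - r) * q + α * (j - 2 * r) ≠ 0 := by
        by_cases hj2 : j = 2 * r
        · rw [hα, if_pos hj2, hj2]
          exact fun h => hb (by linear_combination h)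
        · rw [hα, if_neg hj2, div_mul_cancel₀ _ (sub_ne_zero.2 hj2)]
          exact fun h => one_ne_zero (α := K) (by linear_combination h)
      refine Cyclic.of_sim hsim ⟨![α, 0, 1], gen_of_det_kry fun h => ?_⟩
      refine mul_ne_zero hb key ?_
      simp [kry, det_fin_three, pow_two, Matrix.mul_apply, mulVec, dotProduct, Fin.sum_univ_three, h00, h10, h20, hs,
        hi₁, hp, hj, hq, hr] at h
      linear_combination h - ((α + q) * (α + q)) * hΔ
  · left
    set u₀ := ((1 - p) * (j - r) + i₁ * q) / (r * r - j * r - i₁) with hu₀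
    set u₁ := (r * q - 1 + p) / (r * r - j * r - i₁) with hu₁
    have hu₀' : u₀ * (r * r - j * r - i₁) = (1 - p) * (j - r) + i₁ * q := div_mul_cancel₀ _ hΔ
    have hu₁' : u₁ * (r * r - j * r - i₁) = r * q - 1 + p := div_mul_cancel₀ _ hΔ
    have a0 : i₁ * u₁ + p = 1 + r * u₀ := by
      apply mul_right_cancel₀ hΔ
      linear_combination i₁ * hu₁' - r * hu₀'
    have a1 : u₀ + j * u₁ + q = r * u₁ := by
      apply mul_right_cancel₀ hΔ
      linear_combination hu₀' + (j - r) * hu₁'
    refine Cyclic.of_sim hsim ⟨![u₀, u₁, 1], gen_of_det_kry ?_⟩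
    have e1 : M *ᵥ ![u₀, u₁, 1] = ![1 + r * u₀, r * u₁, r] := by
      funext a
      fin_cases a <;> simp [mulVec, dotProduct, Fin.sum_univ_three, h00, h10, h20, hs, hi₁, hp, hj, hq, hr]
      · linear_combination a0
      · linear_combination a1
    have e2 : M ^ 2 *ᵥ ![u₀, u₁, 1] = ![r * (1 + r * u₀), 1 + r * (r * u₁), r * r] := by
      rw [pow_two, ← mulVec_mulVec, e1]
      funext a
      fin_cases a <;> simp [mulVec, dotProduct, Fin.sum_univ_three, h00, h10, h20, hs, hi₁, hp, hj, hq, hr]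
      · linear_combination r * a0
      · linear_combination r * a1
    rw [det_fin_three]
    simp [kry, e1, e2]
    intro h
    exact one_ne_zero (α := K) (by linear_combination h)

theorem eigen_model {y : Matrix (Fin (m + 2)) (Fin (m + 2)) K} {lam : K} {v : Fin (m + 2) → K} (hv : v ≠ 0)
    (he : y *ᵥ v = lam • v) :
    ∃ (P : Matrix (Fin (m + 2)) (Fin (m + 2)) K) (r : Fin (m + 1) → K) (Y : Matrix (Fin (m + 1)) (Fin (m + 1)) K),
      P *ᵥ ev 0 = v ∧ P.det = 1 ∧ Cd 1 y (bord lam r 0 Y) ∧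
      ∀ c : K, (y - c • 1) * P = P * bord (lam - c) r 0 (Y - c • 1) := by
  obtain ⟨P, r, Y, hP, hPv, hyP⟩ := eigen_form hv he
  refine ⟨P, r, Y, hPv, hP, ⟨P, hP, hyP⟩, fun c => ?_⟩
  rw [← bord_sub, Matrix.sub_mul, Matrix.mul_sub, hyP, Matrix.smul_mul, Matrix.mul_smul, one_mul, mul_one]

/-- The step for rooted matrices. -/
theorem step_rooted [Fintype K] (hq : 4 ≤ Fintype.card K) (hNice : Nice K (m + 3)) {y G : Matrix (Fin (m + 4)) (Fin (m + 4)) K}
    (hy0 : y.det ≠ 0) (hy : RTwo y) (hroot : ¬ RootFree y) (hG : NonScalar G) (hdet : G.det = y.det ^ (m + 4)) :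
    Prn (fun k => Cd 1 k y) (m + 4) G := by
  classical
  have hfin : ∀ (lam : K) (r : Fin (m + 3) → K) (Y : Matrix (Fin (m + 3)) (Fin (m + 3)) K),
      Cd 1 y (bord lam r 0 Y) → RTwo Y → Prn (fun k => Cd 1 k y) (m + 4) G := by
    intro lam r Y hmodel hY
    have hY0 : Y.det ≠ 0 := fun h => hy0 (by
      rw [(hmodel.sim one_ne_zero).det_eq, det_bord_upper, h, mul_zero])
    exact peel (m := m + 1) hy0 hy.nonScalar hG hdet hmodel fun G'' h1 h2 => hNice Y G'' hY0 hY h1 h2
  have hexc : ∀ lam μ : K, m = 0 → (y - μ • 1) * (y - lam • 1) = 0 → (y - lam • 1).rank = 2 →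
      Prn (fun k => Cd 1 k y) (m + 4) G := by
    rintro lam μ rfl hann hrk
    exact four_exceptional hq hy0 hy hann hrk hG hdet
  by_cases h2 : ∃ c : K, (y - c • 1).rank = 2
  · obtain ⟨c, hc⟩ := h2
    have hker : 2 ≤ finrank K (LinearMap.ker (y - c • 1).mulVecLin) := by
      have := finrank_ker_add (y - c • 1); omega
    by_cases hsub : LinearMap.ker (y - c • 1).mulVecLin ≤ LinearMap.range (y - c • 1).mulVecLin
    · have hle := Submodule.finrank_mono hsub
      have h1 := finrank_ker_add (y - c • 1)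
      rw [Matrix.rank] at hc h1
      obtain rfl : m = 0 := by omega
      have heq := Submodule.eq_of_le_of_finrank_le hsub (by omega)
      refine hexc c c rfl (Matrix.ext_of_mulVec_single fun i => ?_) (by rw [Matrix.rank]; exact hc)
      rw [zero_mulVec, ← mulVec_mulVec]
      have : (y - c • 1) *ᵥ Pi.single i 1 ∈ LinearMap.ker (y - c • 1).mulVecLin := by
        rw [heq]; exact ⟨_, rfl⟩
      rw [LinearMap.mem_ker, mulVecLin_apply] at this
      exact this
    obtain ⟨v, hvk, hvr⟩ := SetLike.not_le_iff_exists.1 hsub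
    have hv : v ≠ 0 := fun h => hvr (h ▸ Submodule.zero_mem _)
    obtain ⟨P, r, Y, hPv, hP, hmodel, hsubc⟩ := eigen_model (m := m + 2) hv ((mem_ker_sub y c v).1 hvk)
    have hP0 : P.det ≠ 0 := by rw [hP]; exact one_ne_zero
    by_cases hother : ∃ c', c' ≠ c ∧ (y - c' • 1).rank ≤ 2
    · obtain ⟨c', hne, hc'⟩ := hother
      obtain ⟨hle4, -⟩ := two_eigen hne hc' (le_of_eq hc)
      obtain rfl : m = 0 := by omega
      refine hexc c c' rfl (Matrix.ext_of_mulVec_single fun i => ?_) hc
      rw [zero_mulVec]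
      set A := LinearMap.ker (y - c • 1).mulVecLin
      set B := LinearMap.ker (y - c' • 1).mulVecLin
      have hdis : Disjoint A B := by
        rw [Submodule.disjoint_def]
        intro w hw hw'
        rw [mem_ker_sub] at hw hw'
        have : (c - c') • w = 0 := by rw [sub_smul, ← hw, ← hw', sub_self]
        exact (smul_eq_zero.1 this).resolve_left (sub_ne_zero.2 (Ne.symm hne))
      have htop : A ⊔ B = ⊤ := by
        refine Submodule.eq_top_of_finrank_eq ?_
        have hs := Submodule.finrank_sup_add_finrank_inf_eq A B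
        rw [hdis.eq_bot, finrank_bot, add_zero] at hs
        have hb : 2 ≤ finrank K B := by
          have := finrank_ker_add (y - c' • 1)
          show 2 ≤ finrank K (LinearMap.ker (y - c' • 1).mulVecLin)
          omega
        have := Submodule.finrank_le (A ⊔ B)
        rw [Module.finrank_fin_fun] at this ⊢
        omega
      obtain ⟨w₁, hw₁, w₂, hw₂, hw⟩ := Submodule.mem_sup.1 (htop ▸ Submodule.mem_top :
        (Pi.single i 1 : Fin (0 + 4) → K) ∈ A ⊔ B)
      have e1 : (y - c • 1) *ᵥ w₁ = 0 := hw₁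
      have e2 : (y - c' • 1) *ᵥ w₂ = 0 := hw₂
      have e3 : (y - c' • 1) * (y - c • 1) = (y - c • 1) * (y - c' • 1) := by
        simp only [Matrix.sub_mul, Matrix.mul_sub, Matrix.smul_mul, Matrix.mul_smul, one_mul, mul_one, smul_sub,
          smul_smul, mul_comm c c']
        abel
      rw [← hw, mulVec_add, ← mulVec_mulVec w₁, e1, mulVec_zero, e3, ← mulVec_mulVec, e2, mulVec_zero]
      exact zero_add 0
    push Not at hother
    refine hfin c r Y hmodel fun c' => ?_
    have hr := rank_conj hP0 (hsubc c')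
    by_cases he : c' = c
    · subst he
      rw [hc] at hr
      rw [hr]
      refine bord_rank_le' fun hmem => hvr ?_
      obtain ⟨w, hw⟩ := hmem
      refine ⟨P *ᵥ w, ?_⟩
      rw [mulVecLin_apply, mulVec_mulVec, hsubc, ← mulVec_mulVec]
      rw [mulVecLin_apply] at hw
      rw [hw, hPv]
    · have h3 := hother c' he
      rw [hr] at h3
      have := bord_rank_le (c - c') r (Y - c' • 1)
      omega
  · push Not at h2
    simp only [RootFree, not_forall, not_not] at hroot
    obtain ⟨lam, hlam⟩ := hroot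
    obtain ⟨v, hv, hyv⟩ := Matrix.exists_mulVec_eq_zero_iff.2 hlam
    rw [sub_mulVec, smul_mulVec, one_mulVec, sub_eq_zero] at hyv
    obtain ⟨P, r, Y, hPv, hP, hmodel, hsubc⟩ := eigen_model (m := m + 2) hv hyv
    refine hfin lam r Y hmodel fun c' => ?_
    have hr := rank_conj (by rw [hP]; exact one_ne_zero) (hsubc c')
    have h3 : 3 ≤ (y - c' • 1).rank := by
      have := hy c'
      have := h2 c'
      omega
    rw [hr] at h3
    have := bord_rank_le (lam - c') r (Y - c' • 1)
    omega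

theorem rankone_or_rtwo (y : Matrix (Fin n) (Fin n) K) :
    RTwo y ∨ ∃ c : K, (y - c • 1).rank ≤ 1 := by
  by_cases h : RTwo y
  · exact Or.inl h
  · simp only [RTwo, not_forall, not_le] at h
    obtain ⟨c, hc⟩ := h
    exact Or.inr ⟨c, by omega⟩

/-- The induction. -/
theorem nice_all [Fintype K] (hq : 4 ≤ Fintype.card K) : ∀ m : ℕ, Nice K (m + 3) := by
  intro m
  induction m with
  | zero =>
    intro y G hy0 hy hG hdet
    rcases three_cases hy.nonScalar with hc | ⟨c, hc⟩
    · exact (three_cyclic hq hc hy0 hG hdet).mono fun k hk => hk.1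
    · have := hy c; omega
  | succ m ih =>
    intro y G hy0 hy hG hdet
    by_cases hroot : RootFree y
    · refine Prn.of_rootfree (by omega) (fun k hk => RootFree.of_sim hk hroot) ?_
      rcases Nat.eq_zero_or_pos m with rfl | hm
      · exact gl_four hq hroot hdet (Or.inl hG)
      · exact gl_rootfree hq (by omega) hroot hdet (Or.inl hG)
    · exact (step_rooted hq ih hy0 hy hroot hG hdet).mono fun k hk => hk.sim one_ne_zero

theorem rankone_shape {y : Matrix (Fin n) (Fin n) K} (hy : NonScalar y) (hy0 : y.det ≠ 0) (hn : 2 ≤ n) {c : K}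
    (hc : (y - c • 1).rank ≤ 1) : ∃ u φ : Fin n → K, u ≠ 0 ∧ φ ≠ 0 ∧ y = c • (1 + vecMulVec u φ) := by
  obtain ⟨u, φ, hN, -⟩ := exists_vecMulVec_of_rank_le_one hc
  have hc0 : c ≠ 0 := by
    intro h
    rw [h, zero_smul, sub_zero] at hc
    exact hy0 (rank_lt_det_zero (by omega))
  refine ⟨c⁻¹ • u, φ, ?_, ?_, ?_⟩
  · intro h
    have hu : u = 0 := (smul_eq_zero.1 h).resolve_left (inv_ne_zero hc0)
    exact hy ⟨c, by rw [hu, zero_vecMulVec, sub_eq_zero] at hN; exact hN⟩
  · intro h
    exact hy ⟨c, by rw [h, vecMulVec_zero, sub_eq_zero] at hN; exact hN⟩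
  · rw [smul_vecMulVec, smul_add, smul_smul, mul_inv_cancel₀ hc0, one_smul, ← hN, add_sub_cancel]

/-- Non-scalar targets in the special linear group. -/
theorem sl_nonscalar [Fintype K] (hq : 4 ≤ Fintype.card K) {x g : Matrix (Fin (m + 3)) (Fin (m + 3)) K}
    (hx : NonScalar x) (hx1 : x.det = 1) (hg : NonScalar g) (hg1 : g.det = 1) : Prd (SC x) (m + 3) g := by
  have hx0 : x.det ≠ 0 := by rw [hx1]; exact one_ne_zero
  have hdet : g.det = x.det ^ (m + 3) := by rw [hg1, hx1, one_pow]
  rcases rankone_or_rtwo x with hR | ⟨c, hc⟩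
  swap
  · obtain ⟨u, φ, hu, hφ, hxe⟩ := rankone_shape hx hx0 (by omega) hc
    exact rankone_all hq hx0 hxe hu hφ hdet (Or.inl hg)
  rcases Nat.eq_zero_or_pos m with rfl | hm
  · rcases three_cases hx with hcy | ⟨c, hc⟩
    · exact ((three_cyclic hq hcy hx0 hg hdet).prd).mono fun k hk => hk.2 hx1
    · have := hR c; omega
  obtain ⟨j, rfl⟩ : ∃ j, m = j + 1 := ⟨m - 1, by omega⟩
  by_cases hroot : RootFree x
  · rcases Nat.eq_zero_or_pos j with rfl | hj
    · exact sl_four hq hroot hx1 hg1 (Or.inl hg)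
    · exact sl_rootfree hq (by omega) hroot hx1 hg1 (Or.inl hg)
  · exact (step_rooted hq (nice_all hq j) hx0 hR hroot hg hdet).prd

end CfsgLib.Classical.Covering
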