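import Cfsg.Agent.Lib.Classical.Covering.RegProd

/-!
# Joining triangular blocks
-/

set_option autoImplicit false

namespace CfsgLib.Classical.Covering

open Matrix Polynomial CfsgLib.Classical.UnipotentGen CfsgLib.Classical.Sourour

variable {K : Type*} [Field K] {a b n m : ℕ}

/-- A matrix indexed by a sum, on `Fin`. -/
def fin (M : Matrix (Fin a ⊕ Fin b) (Fin a ⊕ Fin b) K) : Matrix (Fin (a + b)) (Fin (a + b)) K :=
  M.submatrix finSumFinEquiv.symm finSumFinEquiv.symm

theorem fin_mul (M N : Matrix (Fin a ⊕ Fin b) (Fin a ⊕ Fin b) K) : fin (M * N) = fin M * fin N :=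
  (submatrix_mul_equiv M N _ _ _).symm

theorem det_fin (M : Matrix (Fin a ⊕ Fin b) (Fin a ⊕ Fin b) K) : (fin M).det = M.det :=
  det_submatrix_equiv_self _ _

theorem fin_one : fin (1 : Matrix (Fin a ⊕ Fin b) (Fin a ⊕ Fin b) K) = 1 := submatrix_one_equiv _

theorem fin_inv (M : Matrix (Fin a ⊕ Fin b) (Fin a ⊕ Fin b) K) : fin M⁻¹ = (fin M)⁻¹ :=
  (Matrix.inv_submatrix_equiv M _ _).symm

theorem sim_fin {M N P : Matrix (Fin a ⊕ Fin b) (Fin a ⊕ Fin b) K} (hP : P.det ≠ 0) (h : M * P = P * N) :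
    Sim (fin M) (fin N) :=
  sim_of (P := fin P) (by rwa [det_fin]) (by rw [← fin_mul, ← fin_mul, h])

theorem grouped_append {dR : Fin a → K} {dW : Fin b → K} (hR : Grouped dR) (hW : Grouped dW)
    (hne : ∀ i j, dR i ≠ dW j) : Grouped (Fin.append dR dW) := by
  intro i j k hij hjk h
  rw [Fin.le_def] at hij hjk
  revert hij hjk h
  refine Fin.addCases (fun i => ?_) (fun i => ?_) i <;> refine Fin.addCases (fun j => ?_) (fun j => ?_) j <;>
    refine Fin.addCases (fun k => ?_) (fun k => ?_) k <;> intro hij hjk h <;>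
    simp only [Fin.append_left, Fin.append_right, Fin.val_castAdd, Fin.val_natAdd] at h hij hjk ⊢
  all_goals first
    | omega
    | exact absurd h (hne _ _)
    | exact absurd h.symm (hne _ _)
    | exact hR i j k (Fin.le_def.2 (by omega)) (Fin.le_def.2 (by omega)) h
    | exact hW i j k (Fin.le_def.2 (by omega)) (Fin.le_def.2 (by omega)) h

theorem join_std {dR : Fin (a + 1) → K} {dW : Fin (b + 1) → K} (hdR : Grouped dR) (hdW : Grouped dW)
    (hne : ∀ i j, dR i ≠ dW j) {R : Matrix (Fin (a + 1)) (Fin (a + 1)) K}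
    {W : Matrix (Fin (b + 1)) (Fin (b + 1)) K} (hR : Sim R (std dR)) (hW : Sim W (std dW))
    (N : Matrix (Fin (a + 1)) (Fin (b + 1)) K) :
    Sim (fin (fromBlocks R N 0 W)) (std (Fin.append dR dW)) := by
  obtain ⟨δ, hδ, P, hP, hRP⟩ := hR
  obtain ⟨ε, hε, Q, hQ, hWQ⟩ := hW
  have hPu : IsUnit P.det := isUnit_of (hP ▸ hδ)
  refine (sim_fin (P := fromBlocks P 0 0 Q) (N := fromBlocks (std dR) (P⁻¹ * (N * Q)) 0 (std dW)) ?_ ?_).trans ?_
  · rw [det_fromBlocks_zero₂₁, hP, hQ]; exact mul_ne_zero hδ hε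
  · rw [fromBlocks_multiply, fromBlocks_multiply]
    congr 1 <;> simp [hRP, hWQ, Matrix.mul_nonsing_inv_cancel_left _ _ hPu]
  · refine Reg.sim_std (m := a + 1 + b) (grouped_append hdR hdW hne) ⟨fun i => ?_, fun i j => ?_⟩
    · refine Fin.addCases (m := a + 1) (n := b + 1) (fun i => ?_) (fun i => ?_) i
      · simp [fin, (reg_std dR).1]
      · simp [fin, (reg_std dW).1]
    · refine Fin.addCases (m := a + 1) (n := b + 1) (fun i => ?_) (fun i => ?_) i <;> refine Fin.addCases (m := a + 1) (n := b + 1) (fun j => ?_) (fun j => ?_) j <;>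
        simp only [fin, submatrix_apply, finSumFinEquiv_symm_apply_castAdd, finSumFinEquiv_symm_apply_natAdd,
          fromBlocks_apply₁₁, fromBlocks_apply₁₂, fromBlocks_apply₂₁, fromBlocks_apply₂₂, Fin.append_left,
          Fin.append_right, Fin.val_castAdd, Fin.val_natAdd]
      · exact (reg_std dR).2 i j
      · exact ⟨fun h => by omega, fun _ e => absurd e (hne i j)⟩
      · exact ⟨fun _ => rfl, fun h => by omega⟩
      · exact ⟨fun h => ((reg_std dW).2 i j).1 (by omega), fun h e => ((reg_std dW).2 i j).2 (by omega) e⟩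

theorem grouped_cons_cst (a μ : K) : Grouped (Fin.cons a (cst n μ) : Fin (n + 1) → K) := by
  intro i j k hij hjk h
  revert hij hjk h
  refine Fin.cases ?_ (fun i => ?_) i <;> refine Fin.cases ?_ (fun j => ?_) j <;>
    refine Fin.cases ?_ (fun k => ?_) k <;> intro hij hjk h <;> simp_all [cst]

theorem ker_std_cst {μ : K} {w : Fin (m + 1) → K} (hw : std (cst (m + 1) μ) *ᵥ w = μ • w) (i : Fin m) :
    w i.succ = 0 := by
  classical
  have h := congrFun hw i.castSucc
  rw [Pi.smul_apply, smul_eq_mul, mulVec, dotProduct,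
    Finset.sum_eq_add i.castSucc i.succ (fun e => by simp [Fin.ext_iff] at e)] at h
  · rw [(reg_std _).1, show std (cst (m + 1) μ) i.castSucc i.succ = 1 by simp [std, cst, Fin.ext_iff]] at h
    simp [cst] at h
    exact h
  · rintro l - ⟨h1, h2⟩
    have a1 : l.val ≠ i.val := fun e => h1 (Fin.ext e)
    have a2 : l.val ≠ i.val + 1 := fun e => h2 (Fin.ext e)
    rw [show std (cst (m + 1) μ) i.castSucc l = 0 from ?_, zero_mul]
    simp [std, Fin.ext_iff, a2, Ne.symm a1]
  · simp
  · simp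

/-- A head before a block with one eigenvalue. -/
theorem head_std {h μ : K} {C : Fin (m + 1) → K} {D : Matrix (Fin (m + 1)) (Fin (m + 1)) K}
    (hD : Sim D (std (cst (m + 1) μ))) (hcond : h = μ → ∃ w, D *ᵥ w = μ • w ∧ C ⬝ᵥ w ≠ 0) :
    Sim (bord h C 0 D) (std (Fin.cons h (cst (m + 1) μ))) := by
  obtain ⟨δ, hδ, P, hP, hDP⟩ := hD
  have hPu : IsUnit P.det := isUnit_of (hP ▸ hδ)
  refine (sim_of (P := bord 1 0 0 P) (B := bord h (C ᵥ* P) 0 (std (cst (m + 1) μ))) ?_ ?_).trans
    (Reg.sim_std (grouped_cons_cst h μ) ?_)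
  · rw [det_bord_upper, one_mul, hP]; exact hδ
  · rw [bord_mul, bord_mul]
    congr 1 <;> simp [hDP]
  · refine ⟨fun i => ?_, fun i j => ?_⟩
    · refine Fin.cases ?_ (fun i => ?_) i <;> simp [(reg_std _).1, cst]
    · refine Fin.cases ?_ (fun i => ?_) i <;> refine Fin.cases ?_ (fun j => ?_) j
      · exact ⟨fun h => absurd h (lt_irrefl _), fun h => by simp at h⟩
      · refine ⟨fun h => by simp at h, fun hj e => ?_⟩
        obtain rfl : j = 0 := Fin.ext (by simpa using hj)
        obtain ⟨w, hw, hCw⟩ := hcond (by simpa [cst] using e)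
        rw [bord_zero_succ]
        intro h0
        refine hCw ?_
        set w' := P⁻¹ *ᵥ w with hw'
        have h1 : std (cst (m + 1) μ) *ᵥ w' = μ • w' := by
          rw [hw', mulVec_mulVec, show std (cst (m + 1) μ) * P⁻¹ = P⁻¹ * D by
            rw [← Matrix.nonsing_inv_mul_cancel_left P (std (cst (m + 1) μ)) hPu, ← hDP,
              Matrix.mul_assoc, Matrix.mul_nonsing_inv_cancel_right _ _ hPu], ← mulVec_mulVec, hw, mulVec_smul]
        have h2 : w = P *ᵥ w' := by rw [hw', mulVec_mulVec, Matrix.mul_nonsing_inv _ hPu, one_mulVec]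
        rw [h2, dotProduct_mulVec, dotProduct, Fin.sum_univ_succ, h0, zero_mul, zero_add]
        exact Finset.sum_eq_zero fun i _ => by rw [ker_std_cst h1 i, mul_zero]
      · exact ⟨fun _ => rfl, fun h => by simp at h⟩
      · simp only [bord_succ_succ, Fin.val_succ, Fin.cons_succ]
        exact ⟨fun h => ((reg_std _).2 i j).1 (by omega), fun h e => ((reg_std _).2 i j).2 (by omega) e⟩

theorem std_transpose_sim {d : Fin (m + 1) → K} (hd : Grouped d) : Sim (std d)ᵀ (std d) :=
  sim_std_of hd ((reg_std d).cyclic hd).transpose (by rw [charpoly_transpose, (reg_std d).charpoly_eq])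

/-- A head before a block, lower triangular form. -/
theorem head_std_lower {h μ : K} {c : Fin (m + 1) → K} {D : Matrix (Fin (m + 1)) (Fin (m + 1)) K}
    (hD : Sim D (std (cst (m + 1) μ))) (hcond : h = μ → ∃ f, f ᵥ* D = μ • f ∧ f ⬝ᵥ c ≠ 0) :
    Sim (bord h 0 c D) (std (Fin.cons h (cst (m + 1) μ))) := by
  have hT : Sim (bord h c 0 Dᵀ) (std (Fin.cons h (cst (m + 1) μ))) := by
    refine head_std (hD.transpose.trans (std_transpose_sim (grouped_cst μ))) fun e => ?_
    obtain ⟨f, hf, hfc⟩ := hcond e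
    exact ⟨f, by rw [mulVec_transpose, hf], by rwa [dotProduct_comm]⟩
  have e : bord h 0 c D = (bord h c 0 Dᵀ)ᵀ := by
    ext i j
    refine Fin.cases ?_ (fun i => ?_) i <;> refine Fin.cases ?_ (fun j => ?_) j <;> simp
  rw [e]
  exact hT.transpose.trans (std_transpose_sim (grouped_cons_cst h μ))

end CfsgLib.Classical.Covering
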