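import Cfsg.Agent.Lib.Classical.Covering.NoFix

/-!
# Lifting a product from a quotient by an eigenline
-/

set_option autoImplicit false

namespace CfsgLib.Classical.Covering

open Matrix CfsgLib.Classical.UnipotentGen CfsgLib.Classical.Sourour

variable {K : Type*} [Field K] {n m : ℕ}

/-- The possible corners form a coset of a space orthogonal only to common fixed vectors. -/
theorem lift_space {lam : K} (hlam : lam ≠ 0) (r : Fin m → K) (Y : Matrix (Fin m) (Fin m) K) :
    ∀ l'' : List (Matrix (Fin m) (Fin m) K), (∀ k ∈ l'', Sim k Y) →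
    ∃ (β₀ : Fin m → K) (S : Submodule K (Fin m → K)),
      (∀ u, (∀ s ∈ S, s ⬝ᵥ u = 0) → ∀ k ∈ l'', k *ᵥ u = lam • u) ∧
      ∀ s ∈ S, ∃ l : List (Matrix (Fin (m + 1)) (Fin (m + 1)) K), l.length = l''.length ∧
        (∀ k ∈ l, Cd 1 k (bord lam r 0 Y)) ∧ (∀ Y' ∈ l'', ∃ b, bord lam b 0 Y' ∈ l) ∧
        l.prod = bord (lam ^ l''.length) (β₀ + s) 0 l''.prod := by
  intro l''
  induction l'' with
  | nil =>
    intro _
    refine ⟨0, ⊥, fun u _ k hk => absurd hk (by simp), fun s hs => ⟨[], rfl, by simp, by simp, ?_⟩⟩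
    rw [Submodule.mem_bot] at hs
    simp [hs, bord_one]
  | cons Yh rest ih =>
    intro hmem
    obtain ⟨β', S', horth, hach⟩ := ih fun k hk => hmem k (List.mem_cons_of_mem _ hk)
    obtain ⟨δ, hδ, h, hh, hYh⟩ := hmem Yh (by simp)
    have hhu : IsUnit h.det := isUnit_of (hh ▸ hδ)
    set G := rest.prod with hG
    set b₀ : Fin m → K := δ⁻¹ • (r ᵥ* h⁻¹) with hb₀
    let f : (Fin m → K) →ₗ[K] (Fin m → K) :=
      { toFun := fun z => (z ᵥ* (Yh - lam • 1)) ᵥ* G
        map_add' := fun z z' => by rw [add_vecMul, add_vecMul]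
        map_smul' := fun c z => by rw [smul_vecMul, smul_vecMul, RingHom.id_apply] }
    refine ⟨lam • β' + b₀ ᵥ* G, S'.map (lam • LinearMap.id) ⊔ LinearMap.range f, ?_, ?_⟩
    · intro u hu k hk
      have hrest : ∀ k ∈ rest, k *ᵥ u = lam • u := horth u fun s hs => by
        have := hu (lam • s) (Submodule.mem_sup_left ⟨s, hs, rfl⟩)
        rw [smul_dotProduct, smul_eq_mul] at this
        exact (mul_eq_zero.1 this).resolve_left hlam
      rcases List.mem_cons.1 hk with rfl | hk
      · have h0 : ∀ z : Fin m → K, z ⬝ᵥ ((k - lam • 1) *ᵥ (G *ᵥ u)) = 0 := fun z => by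
          have := hu (f z) (Submodule.mem_sup_right ⟨z, rfl⟩)
          simp only [f, LinearMap.coe_mk, AddHom.coe_mk] at this
          rwa [← dotProduct_mulVec, ← dotProduct_mulVec] at this
        have h1 : (k - lam • 1) *ᵥ (G *ᵥ u) = 0 := dotProduct_eq_zero _ fun z => by rw [dotProduct_comm]; exact h0 z
        rw [hG, mulVec_prod_of_fix hrest, mulVec_smul] at h1
        have h2 := (smul_eq_zero.1 h1).resolve_left (pow_ne_zero _ hlam)
        rwa [sub_mulVec, smul_mulVec, one_mulVec, sub_eq_zero] at h2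
      · exact hrest k hk
    · intro s hs
      obtain ⟨s₁, hs₁, s₂, ⟨z, rfl⟩, rfl⟩ := Submodule.mem_sup.1 hs
      obtain ⟨s', hs', rfl⟩ := hs₁
      obtain ⟨l, hl, hlC, hcov, hlp⟩ := hach s' hs'
      set b := b₀ + z ᵥ* (Yh - lam • 1) with hb
      refine ⟨bord lam b 0 Yh :: l, by simp [hl], ?_, ?_, ?_⟩
      · intro k hk
        rcases List.mem_cons.1 hk with rfl | hk
        · refine ⟨bord δ⁻¹ (z ᵥ* h) 0 h, by rw [det_bord_upper, hh, inv_mul_cancel₀ hδ], ?_⟩
          rw [bord_mul, bord_mul]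
          congr 1
          · simp [mul_comm]
          · rw [hb, hb₀, add_vecMul, smul_vecMul, vecMul_vecMul, Matrix.nonsing_inv_mul _ hhu, vecMul_one, vecMul_sub,
              vecMul_smul, vecMul_one, sub_vecMul, smul_vecMul, vecMul_vecMul, vecMul_vecMul, hYh]
            abel
          · simp
          · simp [hYh]
        · exact hlC k hk
      · intro Y' hY'
        rcases List.mem_cons.1 hY' with rfl | hY'
        · exact ⟨b, by simp⟩
        · obtain ⟨b', hb'⟩ := hcov Y' hY'
          exact ⟨b', List.mem_cons_of_mem _ hb'⟩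
      · rw [List.prod_cons, hlp, List.prod_cons, List.length_cons, bord_mul]
        congr 1
        · simp [pow_succ']
        · simp only [f, LinearMap.coe_mk, AddHom.coe_mk, LinearMap.smul_apply, LinearMap.id_apply, hb, add_vecMul,
            smul_add, hG]
          abel
        · simp
        · simp [hG]

/-- Without a common fixed vector every corner occurs. -/
theorem lift_all {lam : K} (hlam : lam ≠ 0) (r : Fin m → K) (Y : Matrix (Fin m) (Fin m) K)
    {l'' : List (Matrix (Fin m) (Fin m) K)} (hl : ∀ k ∈ l'', Sim k Y) (hn : NoFix l'') (β : Fin m → K) :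
    ∃ l : List (Matrix (Fin (m + 1)) (Fin (m + 1)) K), l.length = l''.length ∧
      (∀ k ∈ l, Cd 1 k (bord lam r 0 Y)) ∧ (∀ Y' ∈ l'', ∃ b, bord lam b 0 Y' ∈ l) ∧
      l.prod = bord (lam ^ l''.length) β 0 l''.prod := by
  obtain ⟨β₀, S, horth, hach⟩ := lift_space hlam r Y l'' hl
  have hS : S = ⊤ := by
    by_contra hne
    obtain ⟨f, hf, hfS⟩ := S.exists_le_ker_of_lt_top (lt_top_iff_ne_top.2 hne)
    set u : Fin m → K := fun i => f (Pi.single i 1)
    have hfu : ∀ s, f s = s ⬝ᵥ u := fun s => by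
      conv_lhs => rw [← Finset.univ_sum_single s]
      rw [map_sum, dotProduct]
      refine Finset.sum_congr rfl fun i _ => ?_
      rw [show Pi.single i (s i) = s i • (Pi.single i 1 : Fin m → K) by rw [← Pi.single_smul, smul_eq_mul, mul_one],
        map_smul, smul_eq_mul]
    have hu := hn lam u (horth u fun s hs => by rw [← hfu]; exact hfS hs)
    exact hf (LinearMap.ext fun s => by rw [hfu, hu, dotProduct_zero]; rfl)
  obtain ⟨l, h1, h2, h3, h4⟩ := hach (β - β₀) (hS ▸ Submodule.mem_top)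
  exact ⟨l, h1, h2, h3, by rw [h4, add_sub_cancel]⟩

/-- A vector of a block-triangular list fixed by all members lies on the line. -/
theorem lift_fix {lam : K} {l : List (Matrix (Fin (m + 1)) (Fin (m + 1)) K)} {l'' : List (Matrix (Fin m) (Fin m) K)}
    (hn : NoFix l'') (hcov : ∀ Y' ∈ l'', ∃ b, bord lam b 0 Y' ∈ l) {c : K} {u : Fin (m + 1) → K}
    (hu : ∀ k ∈ l, k *ᵥ u = c • u) : Fin.tail u = 0 := by
  refine hn c _ fun Y' hY' => ?_
  obtain ⟨b, hb⟩ := hcov Y' hY'
  funext i
  have := congrFun (hu _ hb) i.succ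
  simpa [mulVec, dotProduct, Fin.sum_univ_succ, Fin.tail] using this

end CfsgLib.Classical.Covering
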