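import Cfsg.Agent.Lib.Classical.Covering.Products

/-!
# Lists, frames and wrappers
-/

set_option autoImplicit false

namespace CfsgLib.Classical.Covering

open Matrix Polynomial Module CfsgLib.Classical.UnipotentGen CfsgLib.Classical.Sourour
open CfsgLib.Classical.RegularUnipotentProduct (Four)

variable {K : Type*} [Field K] {n m s t : ℕ}

/-- A head and two groups. -/
def lst (n k : ℕ) (h p r : K) : Fin n → K := fun i => if i.val = 0 then h else if i.val < k then p else r

theorem lst_ne_zero {k : ℕ} {h p r : K} (hh : h ≠ 0) (hp : p ≠ 0) (hr : r ≠ 0) (i : Fin n) : lst n k h p r i ≠ 0 := by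
  simp only [lst]; split_ifs <;> assumption

theorem grouped_lst {k : ℕ} (hk : 1 ≤ k) {h p r : K} (hpr : p ≠ r) (hhr : h ≠ r) :
    Grouped (lst n k h p r) := by
  intro i j l hij hjl e
  rw [Fin.le_def] at hij hjl
  simp only [lst] at e ⊢
  split_ifs at e ⊢ <;> first | rfl | exact e.symm | omega | exact absurd e hhr | exact absurd e hpr

theorem prod_if_lt {M : Type*} [CommMonoid M] (a b : M) :
    ∀ (n k : ℕ), k ≤ n → (∏ i : Fin n, if i.val < k then a else b) = a ^ k * b ^ (n - k) := by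
  intro n
  induction n with
  | zero =>
    intro k hk
    obtain rfl : k = 0 := by omega
    simp
  | succ n ih =>
    intro k hk
    rw [Fin.prod_univ_castSucc]
    simp only [Fin.val_castSucc, Fin.val_last]
    rcases Nat.lt_or_ge n k with h | h
    · obtain rfl : k = n + 1 := by omega
      rw [if_pos (Nat.lt_succ_self n), Finset.prod_congr rfl fun i _ => if_pos (show i.val < n + 1 by omega)]
      simp [pow_succ]
    · rw [ih k h, if_neg (by omega), Nat.succ_sub h, pow_succ, mul_assoc]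

theorem prod_lst {M : Type*} [CommMonoid M] (f : K → M) {k : ℕ} (hk : 1 ≤ k) (hkn : k ≤ n) (h p r : K) :
    ∏ i, f (lst n k h p r i) = f h * (f p ^ (k - 1) * f r ^ (n - k)) := by
  obtain ⟨m, rfl⟩ : ∃ m, n = m + 1 := ⟨n - 1, by omega⟩
  rw [Fin.prod_univ_succ]
  congr 1
  rw [show m + 1 - k = m - (k - 1) by omega, ← prod_if_lt (f p) (f r) m (k - 1) (by omega)]
  refine Finset.prod_congr rfl fun i _ => ?_
  simp only [lst, Fin.val_succ, if_neg (Nat.succ_ne_zero _)]
  rw [apply_ite f]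
  exact if_congr (by omega) rfl rfl

theorem lst_inv (n k : ℕ) (h p r : K) : (fun i => (lst n k h p r i)⁻¹) = lst n k h⁻¹ p⁻¹ r⁻¹ := by
  funext i; simp only [lst]; split_ifs <;> rfl

theorem lst_div (n k : ℕ) (κ h p r : K) : (fun i => κ / lst n k h p r i) = lst n k (κ / h) (κ / p) (κ / r) := by
  funext i; simp only [lst]; split_ifs <;> rfl

theorem cyclic_std' {d : Fin n → K} (hd : Grouped d) {h : Matrix (Fin n) (Fin n) K} (hh : Sim h (std d)) :
    Cyclic h := by
  rcases n with _ | m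
  · exact ⟨0, fun f _ => funext fun i => i.elim0⟩
  · exact cyclic_of_std hd hh

theorem sim_std' {d d' : Fin n → K} (hd : Grouped d) (hd' : Grouped d')
    (h : ∏ i, (X - C (d i)) = ∏ i, (X - C (d' i))) : Sim (std d) (std d') :=
  sim_of_cyclic (cyclic_std' hd (Sim.refl _)) (cyclic_std' hd' (Sim.refl _))
    (by rw [(reg_std d).charpoly_eq, (reg_std d').charpoly_eq, h])

theorem std_inv_sim {d : Fin n → K} (hd : Grouped d) (hd0 : ∀ i, d i ≠ 0) {a : Matrix (Fin n) (Fin n) K}
    (ha : Sim a (std d)) : Sim a⁻¹ (std fun i => (d i)⁻¹) := by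
  rcases n with _ | m
  · exact sim_of (P := 1) (by simp) (Subsingleton.elim _ _)
  · exact (Sim.inv (by rw [ha.det_eq, det_std]; exact Finset.prod_ne_zero_iff.2 fun i _ => hd0 i) ha).trans
      ((reg_std d).inv_sim hd hd0)

theorem lu_any' (hn : 2 ≤ n) (h4 : Four K) {g : Matrix (Fin n) (Fin n) K} {κ : K} (hκ : κ ≠ 0)
    (hdet : g.det = κ ^ n) (hg : NonScalar g ∨ g = κ • 1) {d : Fin n → K} (hd : Grouped d)
    (hd0 : ∀ i, d i ≠ 0) :
    ∃ a u : Matrix (Fin n) (Fin n) K, g = a * u ∧ Sim a (std d) ∧ Sim u (std fun i => κ / d i) := by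
  obtain ⟨m, rfl⟩ : ∃ m, n = m + 2 := ⟨n - 2, by omega⟩
  exact lu_any h4 hκ hdet hg hd hd0

theorem rootfree_split' (hn : 4 ≤ n) (h4 : Four K) {x : Matrix (Fin n) (Fin n) K} (hx : RootFree x)
    {d e : Fin n → K} (hd : Grouped d) (he : Grouped e) (hd0 : ∀ i, d i ≠ 0) (he0 : ∀ i, e i ≠ 0) {κ : K}
    (hde : ∀ i : Fin n, i.val ≠ 0 → d i * e i = κ)
    (hdet : x.det = (d ⟨0, by omega⟩ * e ⟨0, by omega⟩) * κ ^ (n - 1)) :
    ∃ a u : Matrix (Fin n) (Fin n) K, x = a * u ∧ Sim a (std d) ∧ Sim u (std e) := by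
  obtain ⟨m, rfl⟩ : ∃ m, n = m + 3 + 1 := ⟨n - 4, by omega⟩
  exact rootfree_split h4 hx hd he hd0 he0 (fun i => hde i.succ (by simp)) hdet

theorem prd_step' [Fintype K] (hK : 3 ≤ Fintype.card K) (hn : 3 ≤ n) {a b : ℕ}
    {C : Matrix (Fin n) (Fin n) K → Prop} {A : Matrix (Fin n) (Fin n) K} (hA : Cyclic A) (hA0 : A.det ≠ 0)
    (hAP : ∀ h, Sim h A → Prd C a h) {d : Fin n → K} (hd : Grouped d) (hd0 : ∀ i, d i ≠ 0)
    (hdP : ∀ h, Sim h (std d) → Prd C b h) {g : Matrix (Fin n) (Fin n) K}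
    (hg : Cyclic g) (hdet : g.det = A.det * ∏ i, d i) : Prd C (a + b) g := by
  obtain ⟨k, rfl⟩ : ∃ k, n = k + 2 := ⟨n - 2, by omega⟩
  exact prd_cyclic_step hK (by omega) hA hA0 hAP hd hd0 hdP hg hdet

/-- The shape of `x` in a frame. -/
theorem shape_of (S : Swap K s t) (x : Matrix (Fin (s + t)) (Fin (s + t)) K)
    (w : Fin s ⊕ Fin t → Fin (s + t) → K) (hw : (colMat w).det ≠ 0) (σ : Fin s → Fin t)
    (hJ : ∀ i k, S.J i k = if i = σ k then 1 else 0) (hxw : ∀ k, x *ᵥ w (Sum.inl k) = w (Sum.inr (σ k))) :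
    ∃ T B, x * colMat w = colMat w * fin (S.shape T B) := by
  classical
  set E := colMat w with hE
  have hEu := isUnit_of hw
  set Y := (E⁻¹ * x * E).submatrix finSumFinEquiv finSumFinEquiv with hY
  have hcol : ∀ l : Fin s ⊕ Fin t, E *ᵥ Pi.single (finSumFinEquiv l) 1 = w l := fun l => by
    rw [mulVec_single_one]; funext r; simp [hE, colMat]
  have hleft : ∀ (r : Fin s ⊕ Fin t) (k : Fin s), Y r (Sum.inl k) = if r = Sum.inr (σ k) then 1 else 0 := by
    intro r k
    have h1 : (E⁻¹ * x * E) *ᵥ Pi.single (finSumFinEquiv (Sum.inl k)) 1 =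
        Pi.single (finSumFinEquiv (Sum.inr (σ k))) 1 := by
      rw [← mulVec_mulVec, hcol, ← mulVec_mulVec, hxw, ← hcol, mulVec_mulVec, Matrix.nonsing_inv_mul _ hEu,
        one_mulVec]
    have h2 := congrFun h1 (finSumFinEquiv r)
    rw [mulVec_single_one, Pi.single_apply, col_apply] at h2
    rw [hY, submatrix_apply, h2]
    exact if_congr finSumFinEquiv.injective.eq_iff rfl rfl
  refine ⟨Y.toBlocks₁₂, Y.toBlocks₂₂, ?_⟩
  have hsh : S.shape Y.toBlocks₁₂ Y.toBlocks₂₂ = Y := by
    conv_rhs => rw [← fromBlocks_toBlocks Y]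
    rw [Swap.shape]
    congr 1
    · ext i k; simp [toBlocks₁₁, hleft]
    · ext i k; simp [toBlocks₂₁, hleft, hJ]
  rw [hsh, hY, fin, submatrix_submatrix]
  simp only [Equiv.self_comp_symm, submatrix_id_id]
  rw [Matrix.mul_assoc E⁻¹, Matrix.mul_nonsing_inv_cancel_left _ _ hEu]

/-- A frame of given determinant, even dimension. -/
theorem frame_even [Fintype K] {x : Matrix (Fin (s + 1 + (s + 1))) (Fin (s + 1 + (s + 1))) K} (hx : RootFree x)
    {δ : K} (hδ : δ ≠ 0) :
    ∃ E T B, E.det = δ ∧ x * E = E * fin ((swapEven K (s + 1)).shape T B) := by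
  obtain ⟨e, he⟩ := exists_frame_even hx hδ
  obtain ⟨T, B, h⟩ := shape_of (swapEven K (s + 1)) x _ (he ▸ hδ) id
    (fun i k => by simp [swapEven, Matrix.one_apply]) (fun k => rfl)
  exact ⟨_, T, B, he, h⟩

/-- A frame of given determinant, odd dimension. -/
theorem frame_odd {x : Matrix (Fin (s + (s + 1))) (Fin (s + (s + 1))) K} (hx : RootFree x)
    {δ : K} (hδ : δ ≠ 0) :
    ∃ E T B, E.det = δ ∧ x * E = E * fin ((swapOdd K s).shape T B) := by
  obtain ⟨e, z, he⟩ := exists_frame_odd hx hδ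
  obtain ⟨T, B, h⟩ := shape_of (swapOdd K s) x _ (he ▸ hδ) Fin.succ (fun i k => by simp [swapOdd]) (fun k => by simp)
  exact ⟨_, T, B, he, h⟩

/-- The quotient map of a frame of a matrix without eigenvalues has a first row off the axis. -/
theorem odd_w {x E E' : Matrix (Fin (s + (s + 1))) (Fin (s + (s + 1))) K}
    {T T' : Matrix (Fin s) (Fin (s + 1)) K} {B B' : Matrix (Fin (s + 1)) (Fin (s + 1)) K}
    (hx : RootFree x) (hE : E.det ≠ 0) (hE' : E'.det ≠ 0) (hxE : x * E = E * fin ((swapOdd K s).shape T B))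
    (hxE' : x * E' = E' * fin ((swapOdd K s).shape T' B')) :
    ∃ w : Fin s → K, (fun i : Fin s => ((swapOdd K s).quot T B *
      (bord 1 0 w 1 * (swapOdd K s).quot T' B' * (bord 1 0 w 1)⁻¹)) 0 i.succ) ≠ 0 := by
  classical
  set M := (swapOdd K s).quot T B
  set M' := (swapOdd K s).quot T' B'
  set C : Fin s → K := fun i => M 0 i.succ with hCdef
  have hMM := (swapOdd K s).det_quot_mul hE hE' hxE hxE'
  have hM'u : IsUnit M'.det := isUnit_of fun h => pow_ne_zero 2 hx.det_ne_zero (by rw [← hMM, h, mul_zero])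
  have hM0 : ∀ l, M 0 l = B 0 l := fun l => by
    simp [M, Swap.quot, swapOdd, Matrix.mul_apply, Fin.sum_univ_succ, (Fin.succ_ne_zero _).symm]
  have hC : C ≠ 0 := by
    intro h0
    set c := B 0 0
    have hd : (x - c • 1) * E = E * fin ((swapOdd K s).shape T B - c • 1) := by
      rw [Matrix.sub_mul, hxE, Matrix.smul_mul, one_mul,
        show fin ((swapOdd K s).shape T B - c • 1) = fin ((swapOdd K s).shape T B) - c • 1 from ?_, Matrix.mul_sub,
        Matrix.mul_smul, mul_one]
      ext i k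
      simp [fin, Matrix.one_apply]
    have := congrArg Matrix.det hd
    rw [det_mul, det_mul, det_fin, show ((swapOdd K s).shape T B - c • 1).det = 0 from
      Matrix.det_eq_zero_of_row_eq_zero (Sum.inr 0) fun l => ?_, mul_zero] at this
    · exact (mul_ne_zero (hx c) hE) this
    rcases l with l | l
    · simp [Swap.shape, swapOdd, Matrix.one_apply, (Fin.succ_ne_zero _).symm]
    · refine Fin.cases ?_ (fun l => ?_) l
      · simp [Swap.shape, c]
      · have := congrFun h0 l
        simp only [hCdef, hM0, Pi.zero_apply] at this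
        simp [Swap.shape, Matrix.one_apply, this, (Fin.succ_ne_zero _).symm]
  by_contra hall
  push Not at hall
  set η : Fin (s + 1) → K := ev 0 ᵥ* M'⁻¹
  have hev : ∀ N : Matrix (Fin (s + 1)) (Fin (s + 1)) K, ev 0 ᵥ* N = fun l => N 0 l := fun N => by
    rw [ev, single_one_vecMul]; rfl
  have key : ∀ w, ∃ lam : K, ev 0 ᵥ* (M * bord 1 0 w 1) = lam • η := by
    intro w
    set H1 : Matrix (Fin (s + 1)) (Fin (s + 1)) K := bord 1 0 w 1 with hH1
    have hH1u : IsUnit H1.det := by rw [hH1, det_bord_lower, det_one, one_mul]; exact isUnit_one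
    have hrow : ev 0 ᵥ* H1 = ev 0 := by
      rw [hev, hH1]; funext l; refine Fin.cases ?_ (fun l => ?_) l <;> simp [ev, Fin.succ_ne_zero]
    set Z := M * (H1 * M' * H1⁻¹) with hZ
    refine ⟨Z 0 0, ?_⟩
    have hZr : ev 0 ᵥ* Z = Z 0 0 • ev 0 := by
      rw [hev]; funext l; refine Fin.cases ?_ (fun l => ?_) l
      · simp [ev]
      · simpa [ev, Fin.succ_ne_zero] using congrFun (hall w) l
    have e : M * H1 = Z * H1 * M'⁻¹ := by
      rw [hZ]
      simp only [Matrix.mul_assoc]
      rw [← Matrix.mul_assoc H1⁻¹ H1, Matrix.nonsing_inv_mul _ hH1u, one_mul, Matrix.mul_nonsing_inv _ hM'u,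
        Matrix.mul_one]
    rw [e, ← vecMul_vecMul, ← vecMul_vecMul, hZr, smul_vecMul, hrow, smul_vecMul]
  obtain ⟨i, hi⟩ : ∃ i, C i ≠ 0 := Function.ne_iff.1 hC
  obtain ⟨l₁, h₁⟩ := key 0
  obtain ⟨l₂, h₂⟩ := key (Pi.single i 1)
  rw [hev] at h₁ h₂
  have f : ∀ w l, (M * bord 1 0 w 1) 0 l = if h : l = 0 then M 0 0 + C ⬝ᵥ w else M 0 l := by
    intro w l
    refine Fin.cases ?_ (fun l => ?_) l
    · simp [Matrix.mul_apply, Fin.sum_univ_succ, dotProduct, hCdef]
    · simp [Matrix.mul_apply, Fin.sum_univ_succ, Fin.succ_ne_zero, Matrix.one_apply]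
  have g1 := congrFun h₁ i.succ
  have g2 := congrFun h₂ i.succ
  rw [f, dif_neg (Fin.succ_ne_zero i), Pi.smul_apply, smul_eq_mul] at g1 g2
  have hη : η i.succ ≠ 0 := fun h => hi (by rw [hCdef]; simp only; rw [g1, h, mul_zero])
  have hll : l₁ = l₂ := mul_right_cancel₀ hη (g1.symm.trans g2)
  have z1 := congrFun h₁ 0
  have z2 := congrFun h₂ 0
  rw [f, dif_pos rfl, Pi.smul_apply, smul_eq_mul] at z1 z2
  rw [dotProduct_zero, add_zero] at z1
  rw [dotProduct_single, mul_one, ← hll, ← z1] at z2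
  exact hi (by linear_combination z2)

/-- Two big eigenspaces. -/
theorem two_eigen {Z : Matrix (Fin n) (Fin n) K} {a b : K} (hab : a ≠ b) (ha : (Z - a • 1).rank ≤ 2)
    (hb : (Z - b • 1).rank ≤ 2) :
    n ≤ 4 ∧ (n = 4 → Z.det = a * a * (b * b) ∧ ∀ c, c ≠ a → c ≠ b → (Z - c • 1).det ≠ 0) := by
  classical
  set A := LinearMap.ker (Z - a • 1).mulVecLin with hA
  set B := LinearMap.ker (Z - b • 1).mulVecLin with hB
  have hker : ∀ c : K, finrank K (LinearMap.ker (Z - c • 1).mulVecLin) + (Z - c • 1).rank = n := fun c => by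
    have := (Z - c • 1).mulVecLin.finrank_range_add_finrank_ker
    rw [Module.finrank_fin_fun] at this
    rw [Matrix.rank]; omega
  have hmem : ∀ (c : K) v, v ∈ LinearMap.ker (Z - c • 1).mulVecLin ↔ Z *ᵥ v = c • v := fun c v => by
    rw [LinearMap.mem_ker, mulVecLin_apply, sub_mulVec, smul_mulVec, one_mulVec, sub_eq_zero]
  have hdis : Disjoint A B := by
    rw [Submodule.disjoint_def]
    intro v hv hv'
    rw [hA, hmem] at hv
    rw [hB, hmem] at hv'
    have : (a - b) • v = 0 := by rw [sub_smul, ← hv, ← hv', sub_self]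
    exact (smul_eq_zero.1 this).resolve_left (sub_ne_zero.2 hab)
  have hsum := Submodule.finrank_sup_add_finrank_inf_eq A B
  rw [hdis.eq_bot, finrank_bot, add_zero] at hsum
  have hle : finrank K ↥(A ⊔ B) ≤ n := (Submodule.finrank_le _).trans (Module.finrank_fin_fun K).le
  have h1 := hker a
  have h2 := hker b
  rw [← hA] at h1
  rw [← hB] at h2
  refine ⟨by omega, fun h4 => ?_⟩
  subst h4
  have hA2 : finrank K A = 2 := by omega
  have hB2 : finrank K B = 2 := by omega
  let bA := Module.finBasisOfFinrankEq K A hA2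
  let bB := Module.finBasisOfFinrankEq K B hB2
  let w : Fin 2 ⊕ Fin 2 → Fin 4 → K := Sum.elim (fun i => (bA i).1) fun i => (bB i).1
  have hli : LinearIndependent K w := by
    refine LinearIndependent.sum_type ?_ ?_ ?_
    · exact bA.linearIndependent.map' A.subtype A.ker_subtype
    · exact bB.linearIndependent.map' B.subtype B.ker_subtype
    · refine hdis.mono ?_ ?_ <;> rw [Submodule.span_le] <;> rintro _ ⟨i, rfl⟩
      · exact (bA i).2
      · exact (bB i).2
  let E : Matrix (Fin 4) (Fin 4) K := colMat (s := 2) (t := 2) w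
  have hE : E.det ≠ 0 := by
    show (colMat (s := 2) (t := 2) w).det ≠ 0
    rw [det_colMat]
    exact colDet_ne_zero hli
  let d : Fin 4 → K := fun l => Sum.elim (fun _ => a) (fun _ => b) ((finSumFinEquiv (m := 2) (n := 2)).symm l)
  have hEd : Z * E = E * diagonal d := by
    refine Matrix.ext_of_mulVec_single fun l => ?_
    rw [← mulVec_mulVec, ← mulVec_mulVec, diagonal_mulVec_single, mul_one,
      show E *ᵥ Pi.single l 1 = w (finSumFinEquiv.symm l) by rw [mulVec_single_one]; rfl,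
      show Pi.single l (d l) = d l • (Pi.single l 1 : Fin 4 → K) by rw [← Pi.single_smul, smul_eq_mul, mul_one],
      mulVec_smul, show E *ᵥ Pi.single l 1 = w (finSumFinEquiv.symm l) by rw [mulVec_single_one]; rfl]
    rcases h : (finSumFinEquiv (m := 2) (n := 2)).symm l with i | i
    · simp only [w, d, h, Sum.elim_inl]; exact (hmem a _).1 (bA i).2
    · simp only [w, d, h, Sum.elim_inr]; exact (hmem b _).1 (bB i).2
  refine ⟨?_, fun c hca hcb => ?_⟩
  · have := congrArg Matrix.det hEd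
    rw [det_mul, det_mul, det_diagonal, mul_comm E.det] at this
    rw [mul_right_cancel₀ hE this,
      ← Equiv.prod_comp (finSumFinEquiv (m := 2) (n := 2)) d, Fintype.prod_sum_type]
    simp [d, Fin.prod_univ_two]
    ring
  · have e : (Z - c • 1) * E = E * diagonal (fun l => d l - c) := by
      rw [Matrix.sub_mul, hEd, Matrix.smul_mul, one_mul,
        show diagonal (fun l => d l - c) = diagonal d - c • (1 : Matrix (Fin 4) (Fin 4) K) by
          rw [smul_one_eq_diagonal, diagonal_sub], Matrix.mul_sub, Matrix.mul_smul, mul_one]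
    intro h0
    have := congrArg Matrix.det e
    rw [det_mul, det_mul, h0, zero_mul, det_diagonal] at this
    refine (mul_ne_zero hE (Finset.prod_ne_zero_iff.2 fun l _ => ?_)) this.symm
    rcases h : (finSumFinEquiv (m := 2) (n := 2)).symm l with i | i
    · simp only [d, h, Sum.elim_inl, ne_eq, sub_eq_zero]; exact Ne.symm hca
    · simp only [d, h, Sum.elim_inr, ne_eq, sub_eq_zero]; exact Ne.symm hcb

end CfsgLib.Classical.Covering
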