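import Cfsg.Agent.Lib.Classical.Covering.Sim

/-!
# A matrix that is not a product of `n - 1` transvections up to a scalar
-/

set_option autoImplicit false

namespace CfsgLib.Classical.Covering

open Matrix Polynomial CfsgLib.Classical.UnipotentGen CfsgLib.Classical.Sourour

variable {K : Type*} [Field K] {m : ℕ}

theorem det_comp (p : K[X]) : (comp (m := m) p).det = (-1) ^ (m + 1) * p.coeff 0 := by
  rw [Matrix.det_succ_row_zero, Finset.sum_eq_single (Fin.last m)]
  · have e : (comp (m := m) p).submatrix Fin.succ (Fin.last m).succAbove = 1 := by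
      ext i j
      have := j.isLt
      simp [comp, Fin.succAbove_last, Matrix.one_apply, Fin.ext_iff, (show j.val ≠ m by omega)]
    rw [e, det_one, mul_one]
    simp [comp, pow_succ]
  · intro j _ hj
    have : j.val ≠ m := fun h => hj (Fin.ext h)
    simp [comp, this]
  · simp

/-- A matrix of determinant one without eigenvalues. -/
theorem exists_rootFree [Fintype K] :
    ∃ g : Matrix (Fin (m + 2)) (Fin (m + 2)) K, g.det = 1 ∧ ∀ r : K, ∀ v : Fin (m + 2) → K, g *ᵥ v = r • v → v = 0 := by
  classical
  set c : K := (-1) ^ (m + 2) with hc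
  obtain ⟨a, ha⟩ := fresh_of_card ((Finset.univ.erase (0 : K)).image fun r => -(r ^ (m + 2) + c) / r)
    (lt_of_le_of_lt Finset.card_image_le (by rw [Finset.card_erase_of_mem (Finset.mem_univ _), Finset.card_univ]
                                             exact Nat.sub_lt Fintype.card_pos Nat.one_pos))
  set p : K[X] := X ^ (m + 2) + C a * X + C c with hp
  have hcoeff : ∀ i : ℕ, i < m + 2 → p.coeff i = if i = 0 then c else if i = 1 then a else 0 := by
    intro i hi
    rw [hp, coeff_add, coeff_add, coeff_X_pow, coeff_C_mul, coeff_X, coeff_C, if_neg (by omega), zero_add]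
    rcases i with _ | _ | i <;> simp
  set g := comp (m := m + 1) p with hg
  refine ⟨g, ?_, fun r v hv => ?_⟩
  · rw [hg, det_comp, hcoeff 0 (by omega), if_pos rfl, hc, ← mul_pow, neg_mul_neg, one_mul, one_pow]
  by_contra hne
  have hdet : (g - r • 1).det = 0 := Matrix.exists_mulVec_eq_zero_iff.1
    ⟨v, hne, by rw [sub_mulVec, smul_mulVec, one_mulVec, hv, sub_self]⟩
  obtain ⟨f, hf0, hf⟩ := Matrix.exists_vecMul_eq_zero_iff.2 hdet
  rw [vecMul_sub, vecMul_smul, vecMul_one, sub_eq_zero] at hf
  have hstep : ∀ j : Fin (m + 1), f j.succ = r * f j.castSucc := by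
    intro j
    have := congrFun hf j.castSucc
    rw [vecMul, dotProduct, Finset.sum_eq_single j.succ] at this
    · have hj := j.isLt
      simpa [hg, comp, (show j.val ≠ m + 1 by omega)] using this
    · intro b _ hb
      have h1 : b.val ≠ j.val + 1 := fun h => hb (Fin.ext (by simpa using h))
      have hj := j.isLt
      simp [hg, comp, h1, (show j.val ≠ m + 1 by omega)]
    · simp
  have hpow : ∀ j : Fin (m + 2), f j = r ^ j.val * f 0 := by
    intro j
    induction j using Fin.induction with
    | zero => simp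
    | succ j ih => rw [hstep, ih, Fin.val_succ, Fin.val_castSucc, pow_succ']; ring
  have hf00 : f 0 ≠ 0 := fun h => hf0 (funext fun j => by rw [hpow, h, mul_zero]; rfl)
  have hlast := congrFun hf (Fin.last (m + 1))
  rw [vecMul, dotProduct, Fin.sum_univ_succ, Fin.sum_univ_succ, Finset.sum_eq_zero fun i _ => by
    simp [hg, comp, hcoeff (i.val + 1 + 1) (by omega)]] at hlast
  have h1 : f (Fin.succ 0) = r * f 0 := by rw [hpow]; simp
  simp only [hg, comp, of_apply, Fin.val_last, if_true, Fin.val_zero, Fin.val_succ, hcoeff 0 (by omega),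
    hcoeff (0 + 1) (by omega), h1, Pi.smul_apply, smul_eq_mul, hpow (Fin.last (m + 1))] at hlast
  simp at hlast
  have h0 : c + a * r + r ^ (m + 2) = 0 := by
    apply mul_right_cancel₀ hf00
    linear_combination -hlast
  by_cases hr : r = 0
  · subst hr
    rw [mul_zero, add_zero, zero_pow (by omega), add_zero, hc] at h0
    exact pow_ne_zero _ (neg_ne_zero.2 one_ne_zero) h0
  · refine ha (Finset.mem_image.2 ⟨r, Finset.mem_erase.2 ⟨hr, Finset.mem_univ _⟩, ?_⟩)
    rw [div_eq_iff hr]
    linear_combination -h0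

/-- A product of `m` conjugates of a transvection in dimension `m + 1` fixes a vector. -/
theorem prod_transvection_fix (P : Fin m → Matrix (Fin (m + 1)) (Fin (m + 1)) K) (hP : ∀ i, IsUnit (P i).det)
    (u : Fin (m + 1) → K) (φ : Fin (m + 1) → K) :
    ∃ v : Fin (m + 1) → K, v ≠ 0 ∧
      (List.ofFn fun i => P i * (1 + vecMulVec u φ) * (P i)⁻¹).prod *ᵥ v = v := by
  classical
  let A : Matrix (Fin (m + 1)) (Fin (m + 1)) K :=
    Matrix.of (Fin.snoc (fun i => φ ᵥ* (P i)⁻¹) (0 : Fin (m + 1) → K))
  obtain ⟨v, hv, hAv⟩ := Matrix.exists_mulVec_eq_zero_iff.2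
    (Matrix.det_eq_zero_of_row_eq_zero (A := A) (Fin.last m) (fun j => by simp [A]))
  refine ⟨v, hv, ?_⟩
  have hfix : ∀ k ∈ (List.ofFn fun i => P i * (1 + vecMulVec u φ) * (P i)⁻¹), k *ᵥ v = v := by
    intro k hk
    obtain ⟨i, rfl⟩ := List.mem_ofFn.1 hk
    have h := congrFun hAv i.castSucc
    simp only [A, mulVec, of_apply, Fin.snoc_castSucc, Pi.zero_apply] at h
    rw [← dotProduct_mulVec] at h
    rw [Matrix.mul_add, Matrix.mul_one, Matrix.add_mul, Matrix.mul_nonsing_inv _ (hP i), add_mulVec, one_mulVec,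
      ← mulVec_mulVec, ← mulVec_mulVec, vecMulVec_mulVec, h]
    simp
  have : ∀ l : List (Matrix (Fin (m + 1)) (Fin (m + 1)) K), (∀ k ∈ l, k *ᵥ v = v) → l.prod *ᵥ v = v := by
    intro l
    induction l with
    | nil => simp
    | cons k l ih =>
      intro h
      rw [List.prod_cons, ← mulVec_mulVec, ih fun k' hk' => h k' (by simp [hk']), h k (by simp)]
  exact this _ hfix

end CfsgLib.Classical.Covering
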