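import Cfsg.Agent.Lib.Classical.Covering.Engine
import Cfsg.Agent.Lib.Classical.Covering.Frame

/-!
# Split cyclic elements among the products of two conjugates of a matrix without eigenvalues
-/

set_option autoImplicit false

namespace CfsgLib.Classical.Covering

open Matrix CfsgLib.Classical.UnipotentGen CfsgLib.Classical.Sourour
open CfsgLib.Classical.RegularUnipotentProduct (Four)

variable {K : Type*} [Field K] {s t m : ℕ}

/-- Two groups. -/
def two (a b : ℕ) (v μ : K) : Fin (a + b) → K := Fin.append (cst a v) (cst b μ)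

theorem grouped_two' {a b : ℕ} {v μ : K} (h : v ≠ μ) : Grouped (two a b v μ) :=
  grouped_append (grouped_cst v) (grouped_cst μ) fun _ _ => h

theorem Swap.det_shape_sq (S : Swap K s t) (T : Matrix (Fin s) (Fin t) K) (B : Matrix (Fin t) (Fin t) K) :
    (S.shape T B).det = S.phi.det * (S.quot T B).det := by
  have e : S.shape T B = S.phi * fromBlocks 1 (S.Jᵀ * B) 0 (S.quot T B) := by
    rw [Swap.phi, fromBlocks_multiply, Swap.shape, Swap.quot]
    congr 1
    · simp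
    · simp [Matrix.mul_add, ← Matrix.mul_assoc, S.tJJ, S.tJE0]
    · simp
    · rw [Matrix.mul_add, ← Matrix.mul_assoc, ← Matrix.mul_assoc, ← Matrix.mul_assoc, S.E0J, Matrix.zero_mul,
        zero_add, ← Matrix.add_mul, S.sumJ, one_mul]
  rw [e, det_mul, det_fromBlocks_zero₂₁, det_one, one_mul]

theorem Swap.det_quot_mul (S : Swap K s t) {x E E' : Matrix (Fin (s + t)) (Fin (s + t)) K}
    {T T' : Matrix (Fin s) (Fin t) K} {B B' : Matrix (Fin t) (Fin t) K}
    (hE : E.det ≠ 0) (hE' : E'.det ≠ 0) (hxE : x * E = E * fin (S.shape T B))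
    (hxE' : x * E' = E' * fin (S.shape T' B')) :
    (S.quot T B).det * (S.quot T' B').det = x.det ^ 2 := by
  have h1 := congrArg Matrix.det hxE
  have h2 := congrArg Matrix.det hxE'
  rw [det_mul, det_mul, det_fin, S.det_shape_sq, mul_comm] at h1
  rw [det_mul, det_mul, det_fin, S.det_shape_sq, mul_comm] at h2
  have h3 := mul_left_cancel₀ hE h1
  have h4 := mul_left_cancel₀ hE' h2
  have h5 := congrArg Matrix.det S.phi_sq
  rw [det_mul, det_one] at h5
  calc (S.quot T B).det * (S.quot T' B').det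
      = (S.phi.det * S.phi.det) * ((S.quot T B).det * (S.quot T' B').det) := by rw [h5, one_mul]
    _ = x.det ^ 2 := by rw [pow_two]; nth_rewrite 1 [h3]; rw [h4]; ring

theorem det_smul_inv (c : K) (hc : c ≠ 0) {M : Matrix (Fin m) (Fin m) K} (h : M.det = c ^ m) : (c⁻¹ • M).det = 1 := by
  rw [det_smul, Fintype.card_fin, h, inv_pow, inv_mul_cancel₀ (pow_ne_zero _ hc)]

theorem inv_smul_mul {v : K} (hv : v ≠ 0) {A : Matrix (Fin m) (Fin m) K} (hA : A.det ≠ 0) :
    (v • A).det ≠ 0 ∧ (v • A)⁻¹ = v⁻¹ • A⁻¹ := by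
  have h : (v • A) * (v⁻¹ • A⁻¹) = 1 := by
    rw [Matrix.smul_mul, Matrix.mul_smul, smul_smul, mul_inv_cancel₀ hv, one_smul,
      Matrix.mul_nonsing_inv _ (isUnit_of hA)]
  exact ⟨by rw [det_smul]; exact mul_ne_zero (pow_ne_zero _ hv) hA, Matrix.inv_eq_right_inv h⟩

theorem RU.det {A : Matrix (Fin (m + 1)) (Fin (m + 1)) K} (hA : RU A) : A.det = 1 := by
  rw [Sim.det_eq hA, (reg_std _).det_eq]; simp [cst]

/-- The swap in even dimension. -/
def swapEven (K : Type*) [Field K] (s : ℕ) : Swap K s s :=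
  ⟨1, 0, by simp, by simp, by simp, by simp⟩

/-- Two groups of values from two frames, in even dimension. -/
theorem even_two (h4 : Four K) {j : ℕ} {x E E' : Matrix (Fin (j + 2 + (j + 2))) (Fin (j + 2 + (j + 2))) K}
    {T T' B B' : Matrix (Fin (j + 2)) (Fin (j + 2)) K}
    (hE : E.det ≠ 0) (hE' : E'.det ≠ 0) (hxE : x * E = E * fin ((swapEven K (j + 2)).shape T B))
    (hxE' : x * E' = E' * fin ((swapEven K (j + 2)).shape T' B')) (hx : x.det ≠ 0)
    {P : Matrix (Fin (j + 2)) (Fin (j + 2)) K} (hP : P.det ≠ 0) {κ v : K} (hκ : κ ≠ 0) (hv : v ≠ 0)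
    (hκd : κ ^ (j + 2) = x.det ^ 2) (hvκ : v * v ≠ κ)
    (hns : NonScalar (T * (P * T' * P⁻¹)) ∨ T * (P * T' * P⁻¹) = κ • 1) :
    ∃ h : Matrix (Fin (j + 2 + (j + 2))) (Fin (j + 2 + (j + 2))) K, h.det ≠ 0 ∧
      h.det * E'.det = E.det * ((swapEven K (j + 2)).phi.det * (P.det * (v ^ (j + 2) * P.det))) ∧
      Sim (h * x * h⁻¹ * x) (std (two (j + 2) (j + 2) v (κ / v))) := by
  have hPu := isUnit_of hP
  set Z := T * (P * T' * P⁻¹) with hZ
  have hquot : ∀ T B, (swapEven K (j + 2)).quot T B = T := fun T B => by simp [Swap.quot, swapEven]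
  have hTT : T.det * T'.det = x.det ^ 2 := by
    have := (swapEven K (j + 2)).det_quot_mul hE hE' hxE hxE'
    rwa [hquot, hquot] at this
  have hT' : T'.det ≠ 0 := fun h => pow_ne_zero 2 hx (by rw [← hTT, h, mul_zero])
  have hZd : Z.det = κ ^ (j + 2) := by
    rw [hZ, det_mul, det_mul, det_mul, det_nonsing_inv, Ring.inverse_eq_inv, hκd, ← hTT]
    field_simp
  have hSd : (κ⁻¹ • Z).det = 1 := det_smul_inv κ hκ hZd
  obtain ⟨A, B₀, hA, hB, hAB⟩ := reg_prod' h4 hSd (by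
    rcases hns with h | h
    · left
      rintro ⟨c, hc⟩
      exact h ⟨κ * c, by rw [← smul_smul, ← hc, smul_smul, mul_inv_cancel₀ hκ, one_smul]⟩
    · right; rw [h, smul_smul, inv_mul_cancel₀ hκ, one_smul])
  have hA0 : A.det ≠ 0 := by rw [hA.det]; exact one_ne_zero
  obtain ⟨hR, hRi⟩ := inv_smul_mul hv hA0
  obtain ⟨h, hh0, hhd, Y, hY⟩ := (swapEven K (j + 2)).engine hE hE' hxE hxE' (P := P) (Q := v • A * P) (H1 := P)
    (H2 := v • A * P) (N := 0) hP (by rw [det_mul]; exact mul_ne_zero hR hP) (by simp [swapEven])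
    (by simp [swapEven]) (by simp) (by simp [swapEven])
  refine ⟨h, hh0, ?_, hY.trans ?_⟩
  · rw [hhd, det_mul, det_smul, hA.det, Fintype.card_fin, mul_one]
  · refine join_std (grouped_cst v) (grouped_cst (κ / v)) (fun _ _ e => hvκ ?_) ?_ ?_ Y
    · simp only [cst] at e
      calc v * v = v * (κ / v) := by rw [← e]
        _ = κ := mul_div_cancel₀ κ hv
    · rw [Matrix.mul_nonsing_inv_cancel_right _ _ hPu]
      exact hA.smul hv
    · rw [hquot, hquot]
      refine (sim_of (P := P * T' * P⁻¹) (B := (κ / v) • B₀) ?_ ?_).trans (hB.smul (div_ne_zero hκ hv))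
      · rw [det_mul, det_mul, det_nonsing_inv, Ring.inverse_eq_inv]
        exact mul_ne_zero (mul_ne_zero hP hT') (inv_ne_zero hP)
      · rw [Matrix.mul_assoc (P * T' * (v • A * P)⁻¹) T, ← hZ, show Z = κ • (A * B₀) by
          rw [← hAB, smul_smul, mul_inv_cancel₀ hκ, one_smul], Matrix.mul_inv_rev, hRi]
        simp only [Matrix.mul_smul, Matrix.smul_mul, smul_smul, Matrix.mul_assoc,
          Matrix.nonsing_inv_mul_cancel_left _ _ (isUnit_of hA0)]
        rw [mul_comm, div_eq_mul_inv, mul_comm]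

/-- The corner for a prescribed covector, with a non-scalar complement. -/
theorem corner_row {j : ℕ} {Z : Matrix (Fin (j + 2 + 1)) (Fin (j + 2 + 1)) K}
    (hC : (fun i : Fin (j + 2) => Z 0 i.succ) ≠ 0) {a κ : K} (ha : a ≠ 0) (hκ : κ ≠ 0)
    (hdet : Z.det = a * κ ^ (j + 2)) :
    ∃ (p c : Fin (j + 2) → K) (S : Matrix (Fin (j + 2)) (Fin (j + 2)) K), S.det = 1 ∧ NonScalar S ∧
      Z * bord 1 0 p 1 =
        bord 1 0 p 1 * bord a (fun i => Z 0 i.succ) c (κ • S + a⁻¹ • vecMulVec c fun i => Z 0 i.succ) := by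
  classical
  set C : Fin (j + 2) → K := fun i => Z 0 i.succ with hCdef
  set c₀ : Fin (j + 2) → K := fun i => Z i.succ 0
  set D₀ : Matrix (Fin (j + 2)) (Fin (j + 2)) K := fun i k => Z i.succ k.succ
  have hZb : Z = bord (Z 0 0) C c₀ D₀ := eq_bord Z
  have hcorner : ∀ p : Fin (j + 2) → K, Z 0 0 + C ⬝ᵥ p = a →
      Z * bord 1 0 p 1 = bord 1 0 p 1 * bord a C (c₀ + D₀ *ᵥ p - a • p) (D₀ - vecMulVec p C) := by
    intro p hp
    conv_lhs => rw [hZb]
    rw [bord_mul, bord_mul]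
    congr 1 <;> simp [hp]
  have hdetS : ∀ (p c : Fin (j + 2) → K) (S : Matrix (Fin (j + 2)) (Fin (j + 2)) K),
      Z * bord 1 0 p 1 = bord 1 0 p 1 * bord a C c (κ • S + a⁻¹ • vecMulVec c C) → S.det = 1 := by
    intro p c S h
    have h1 := congrArg Matrix.det h
    have h2 := bord_eq_mul C c one_ne_zero ha (1 : Matrix (Fin (j + 2)) (Fin (j + 2)) K) (κ • S)
    rw [Matrix.one_mul, one_mul] at h2
    rw [det_mul, det_mul, det_bord_lower, det_one, one_mul, mul_one, h2, det_mul, det_bord_lower,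
      det_bord_upper, det_one, one_mul, one_mul, one_mul, det_smul, Fintype.card_fin, hdet] at h1
    exact (mul_eq_left₀ (pow_ne_zero _ hκ)).1 (mul_left_cancel₀ ha h1).symm
  obtain ⟨i₀, hi₀⟩ : ∃ i, C i ≠ 0 := Function.ne_iff.1 hC
  set p₀ : Fin (j + 2) → K := Pi.single i₀ ((a - Z 0 0) / C i₀) with hp₀
  have hp : Z 0 0 + C ⬝ᵥ p₀ = a := by
    rw [hp₀, dotProduct_single, mul_div_cancel₀ _ hi₀, add_sub_cancel]
  set c₁ := c₀ + D₀ *ᵥ p₀ - a • p₀ with hc₁
  set D₁ := D₀ - vecMulVec p₀ C with hD₁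
  have h₁ : Z * bord 1 0 p₀ 1 = bord 1 0 p₀ 1 * bord a C c₁ D₁ := hcorner p₀ hp
  set S₁ := κ⁻¹ • (D₁ - a⁻¹ • vecMulVec c₁ C) with hS₁
  have e₁ : κ • S₁ + a⁻¹ • vecMulVec c₁ C = D₁ := by
    rw [hS₁, smul_smul, mul_inv_cancel₀ hκ, one_smul, sub_add_cancel]
  have hd₁ : S₁.det = 1 := hdetS p₀ c₁ S₁ (by rw [e₁]; exact h₁)
  by_cases hns : NonScalar S₁
  · exact ⟨p₀, c₁, S₁, hd₁, hns, by rw [e₁]; exact h₁⟩
  obtain ⟨μ, hμ⟩ := not_not.1 hns
  have hμ0 : μ ≠ 0 := fun h => one_ne_zero (α := K) (by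
    rw [← hd₁, hμ, h, zero_smul, det_zero])
  obtain ⟨d, hd0, hdC⟩ := exists_orth (show 2 ≤ j + 2 by omega) hC
  rw [dotProduct_comm] at hdC
  have hD₁d : D₁ *ᵥ d = (κ * μ) • d := by
    rw [← e₁, add_mulVec, hμ, smul_smul, smul_mulVec, one_mulVec, smul_mulVec, vecMulVec_mulVec, hdC]
    simp
  have hp' : Z 0 0 + C ⬝ᵥ (p₀ + d) = a := by rw [dotProduct_add, hdC, add_zero, hp]
  set c₂ := c₀ + D₀ *ᵥ (p₀ + d) - a • (p₀ + d) with hc₂
  set D₂ := D₀ - vecMulVec (p₀ + d) C with hD₂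
  have h₂ : Z * bord 1 0 (p₀ + d) 1 = bord 1 0 (p₀ + d) 1 * bord a C c₂ D₂ := hcorner _ hp'
  set S₂ := κ⁻¹ • (D₂ - a⁻¹ • vecMulVec c₂ C) with hS₂
  have e₂ : κ • S₂ + a⁻¹ • vecMulVec c₂ C = D₂ := by
    rw [hS₂, smul_smul, mul_inv_cancel₀ hκ, one_smul, sub_add_cancel]
  have hS₂e : S₂ = μ • (1 - a⁻¹ • vecMulVec d C) := by
    have hD₀d : D₀ *ᵥ d = (κ * μ) • d := by
      rw [← hD₁d, hD₁, sub_mulVec, vecMulVec_mulVec, hdC]; simp
    have hc₂' : c₂ = c₁ + (κ * μ - a) • d := by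
      rw [hc₂, hc₁, mulVec_add, hD₀d, smul_add, sub_smul]; abel
    have hD₂' : D₂ = κ • μ • (1 : Matrix (Fin (j + 2)) (Fin (j + 2)) K) + a⁻¹ • vecMulVec c₁ C - vecMulVec d C := by
      rw [← hμ, e₁, hD₂, hD₁, add_vecMulVec]; abel
    rw [hS₂, hD₂', hc₂']
    ext i k
    simp [vecMulVec_apply]
    field_simp
    ring
  refine ⟨p₀ + d, c₂, S₂, hdetS _ _ _ (by rw [e₂]; exact h₂), ?_, by rw [e₂]; exact h₂⟩
  rintro ⟨u, hu⟩
  rw [hS₂e] at hu
  obtain ⟨i₁, hi₁⟩ : ∃ i, d i ≠ 0 := Function.ne_iff.1 hd0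
  -- a rank one matrix is not scalar
  have h1 := congrArg (fun M : Matrix (Fin (j + 2)) (Fin (j + 2)) K => M *ᵥ d) hu
  simp only [smul_mulVec, sub_mulVec, one_mulVec, vecMulVec_mulVec, hdC] at h1
  simp only [MulOpposite.op_zero, zero_smul, smul_zero, sub_zero] at h1
  have hu' : u = μ := by
    have := congrFun h1 i₁
    simp only [Pi.smul_apply, smul_eq_mul] at this
    exact (mul_right_cancel₀ hi₁ this).symm
  have h2 := congrFun (congrFun hu i₁) i₀
  rw [hu'] at h2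
  simp [vecMulVec_apply, hμ0, ha, hi₀, hi₁, mul_sub] at h2

theorem rank_two (u φ u' φ' : Fin m → K) : (vecMulVec u φ + vecMulVec u' φ').rank ≤ 2 := by
  have e : vecMulVec u φ + vecMulVec u' φ' = (Matrix.of ![u, u'])ᵀ * Matrix.of ![φ, φ'] := by
    ext i k
    simp [Matrix.mul_apply, Fin.sum_univ_two, vecMulVec_apply]
  rw [e]
  exact (rank_mul_le_left _ _).trans ((rank_le_card_width _).trans (by simp))

/-- The rank criterion for a coupled head. -/
theorem coupled_ok {a κ : K} {C c : Fin m → K} {S : Matrix (Fin m) (Fin m) K}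
    (h3 : 3 ≤ (bord a C c (κ • S + a⁻¹ • vecMulVec c C) - κ • 1).rank) :
    2 ≤ (Sᵀ - 1).rank ∨ C ∉ LinearMap.range (Sᵀ - 1).mulVecLin := by
  by_contra! h
  obtain ⟨h1, hC⟩ := h
  obtain ⟨u, φ, hN, hu⟩ := exists_vecMulVec_of_rank_le_one (show (Sᵀ - 1).rank ≤ 1 by omega)
  obtain ⟨γ, hγ⟩ : ∃ γ : K, C = γ • u := by
    obtain ⟨z, hz⟩ := hC
    refine ⟨φ ⬝ᵥ z, ?_⟩
    rw [← hz, mulVecLin_apply, hN, vecMulVec_mulVec, op_smul_eq_smul]
  have hS : S = 1 + vecMulVec φ u := by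
    have := congrArg transpose hN
    rw [transpose_sub, transpose_transpose, transpose_one, transpose_vecMulVec] at this
    rw [← this, add_sub_cancel]
  have : (bord a C c (κ • S + a⁻¹ • vecMulVec c C) - κ • 1).rank ≤ 2 := by
    rw [show bord a C c (κ • S + a⁻¹ • vecMulVec c C) - κ • 1 =
      vecMulVec (Fin.cons (a - κ) c) (Pi.single 0 1) + vecMulVec (Fin.cons γ (κ • φ + (a⁻¹ * γ) • c)) (Fin.cons 0 u) from ?_]
    · exact rank_two _ _ _ _
    ext i k
    refine Fin.cases ?_ (fun i => ?_) i <;> refine Fin.cases ?_ (fun k => ?_) k <;>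
      simp [vecMulVec_apply, hS, hγ, Fin.succ_ne_zero, (Fin.succ_ne_zero _).symm, Matrix.one_apply]
    split_ifs <;> ring
  omega

/-- The swap in odd dimension. -/
def swapOdd (K : Type*) [Field K] (s : ℕ) : Swap K s (s + 1) where
  J := Matrix.of fun i k => if i = k.succ then 1 else 0
  E0 := bord 1 0 0 0
  tJJ := by
    ext i k
    simp [Matrix.mul_apply, Fin.sum_univ_succ, Matrix.one_apply, Fin.succ_inj, (Fin.succ_ne_zero _).symm, eq_comm]
  E0J := by
    ext i k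
    refine Fin.cases ?_ (fun i => ?_) i <;>
      simp [Matrix.mul_apply, Fin.sum_univ_succ, (Fin.succ_ne_zero _).symm]
  tJE0 := by
    ext i k
    refine Fin.cases ?_ (fun k => ?_) k <;>
      simp [Matrix.mul_apply, Fin.sum_univ_succ, (Fin.succ_ne_zero _).symm]
  sumJ := by
    ext i k
    refine Fin.cases ?_ (fun i => ?_) i <;> refine Fin.cases ?_ (fun k => ?_) k <;>
      simp [Matrix.mul_apply, Fin.sum_univ_succ, Matrix.one_apply, Fin.succ_inj, Fin.succ_ne_zero,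
        (Fin.succ_ne_zero _).symm]

theorem bord_mul_J {a : K} {r c : Fin s → K} {D : Matrix (Fin s) (Fin s) K} (hr : r = 0) :
    bord a r c D * (swapOdd K s).J = (swapOdd K s).J * D := by
  ext i k
  refine Fin.cases ?_ (fun i => ?_) i <;>
    simp [swapOdd, hr, Matrix.mul_apply, Fin.sum_univ_succ, Fin.succ_inj, (Fin.succ_ne_zero _).symm]

/-- Two groups and a head from two frames, in odd dimension. -/
theorem odd_two (h4 : Four K) {j : ℕ} {x E E' : Matrix (Fin (j + 2 + (j + 2 + 1))) (Fin (j + 2 + (j + 2 + 1))) K}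
    {T T' : Matrix (Fin (j + 2)) (Fin (j + 2 + 1)) K} {B B' : Matrix (Fin (j + 2 + 1)) (Fin (j + 2 + 1)) K}
    (hE : E.det ≠ 0) (hE' : E'.det ≠ 0) (hxE : x * E = E * fin ((swapOdd K (j + 2)).shape T B))
    (hxE' : x * E' = E' * fin ((swapOdd K (j + 2)).shape T' B')) (hx : x.det ≠ 0)
    {w : Fin (j + 2) → K} {κ v a : K} (hκ : κ ≠ 0) (hv : v ≠ 0) (hκd : a * κ ^ (j + 2) = x.det ^ 2)
    (hvκ : v * v ≠ κ) (hva : v ≠ a)
    (hC : (fun i : Fin (j + 2) => ((swapOdd K (j + 2)).quot T B *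
      (bord 1 0 w 1 * (swapOdd K (j + 2)).quot T' B' * (bord 1 0 w 1)⁻¹)) 0 i.succ) ≠ 0)
    (hrk : a = κ / v → 3 ≤ ((swapOdd K (j + 2)).quot T B *
      (bord 1 0 w 1 * (swapOdd K (j + 2)).quot T' B' * (bord 1 0 w 1)⁻¹) - κ • 1).rank) :
    ∃ h : Matrix (Fin (j + 2 + (j + 2 + 1))) (Fin (j + 2 + (j + 2 + 1))) K, h.det ≠ 0 ∧
      h.det * E'.det = E.det * ((swapOdd K (j + 2)).phi.det * v ^ (j + 2)) ∧
      Sim (h * x * h⁻¹ * x) (std (Fin.append (cst (j + 2) v) (Fin.cons a (cst (j + 2) (κ / v))))) := by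
  classical
  set S₀ := swapOdd K (j + 2)
  set M := S₀.quot T B
  set M' := S₀.quot T' B'
  set H1 : Matrix (Fin (j + 2 + 1)) (Fin (j + 2 + 1)) K := bord 1 0 w 1 with hH1
  have hH1d : H1.det = 1 := by rw [hH1, det_bord_lower, det_one, one_mul]
  have hH1u : IsUnit H1.det := by rw [hH1d]; exact isUnit_one
  set Mz := H1 * M' * H1⁻¹ with hMz
  set Z := M * Mz with hZ
  have ha : a ≠ 0 := fun h => pow_ne_zero 2 hx (by rw [← hκd, h, zero_mul])
  have hMM : M.det * M'.det = x.det ^ 2 := S₀.det_quot_mul hE hE' hxE hxE'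
  have hM' : M'.det ≠ 0 := fun h => pow_ne_zero 2 hx (by rw [← hMM, h, mul_zero])
  have hMzd : Mz.det = M'.det := by
    rw [hMz, det_mul, det_mul, det_nonsing_inv, Ring.inverse_eq_inv, hH1d]; simp
  obtain ⟨p, c, S, hSd, hSns, hZP⟩ := corner_row hC ha hκ (Z := Z) (by rw [hZ, det_mul, hMzd, hMM, hκd])
  set C : Fin (j + 2) → K := fun i => Z 0 i.succ with hCdef
  set P0 : Matrix (Fin (j + 2 + 1)) (Fin (j + 2 + 1)) K := bord 1 0 p 1 with hP0
  have hP0d : P0.det = 1 := by rw [hP0, det_bord_lower, det_one, one_mul]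
  have hP0u : IsUnit P0.det := by rw [hP0d]; exact isUnit_one
  obtain ⟨A, B₀, hA, hB, hAB, hw⟩ : ∃ A B₀ : Matrix (Fin (j + 2)) (Fin (j + 2)) K, RU A ∧ RU B₀ ∧ S = A * B₀ ∧
      (a = κ / v → ∃ w, B₀ *ᵥ w = w ∧ C ⬝ᵥ w ≠ 0) := by
    by_cases hac : a = κ / v
    · have h3 := hrk hac
      have hgood : 2 ≤ (Sᵀ - 1).rank ∨ C ∉ LinearMap.range (Sᵀ - 1).mulVecLin := by
        refine coupled_ok (a := a) (κ := κ) (c := c) ?_
        have e : Z - κ • 1 = P0 * (bord a C c (κ • S + a⁻¹ • vecMulVec c C) - κ • 1) * P0⁻¹ := by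
          rw [Matrix.mul_sub, Matrix.sub_mul, ← hZP, Matrix.mul_nonsing_inv_cancel_right _ _ hP0u, Matrix.mul_smul,
            Matrix.smul_mul, mul_one, Matrix.mul_nonsing_inv _ hP0u]
        rw [e] at h3
        exact h3.trans ((rank_mul_le_left _ _).trans (rank_mul_le_right _ _))
      obtain ⟨A', B', hA', hB', hAB', f, hf, hfc⟩ := reg_prod h4 (S := Sᵀ) (by rw [det_transpose, hSd])
        (Or.inl fun ⟨u, hu⟩ => hSns ⟨u, by rw [← transpose_transpose S, hu, transpose_smul, transpose_one]⟩) hC hgood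
      refine ⟨B'ᵀ, A'ᵀ, hB'.transpose, hA'.transpose, ?_, fun _ => ⟨f, ?_, ?_⟩⟩
      · rw [← transpose_mul, ← hAB', transpose_transpose]
      · rw [mulVec_transpose, hf]
      · rwa [dotProduct_comm]
    · obtain ⟨A, B₀, hA, hB, h⟩ := reg_prod' h4 hSd (Or.inl hSns)
      exact ⟨A, B₀, hA, hB, h, fun e => absurd e hac⟩
  have hA0 : A.det ≠ 0 := by rw [hA.det]; exact one_ne_zero
  obtain ⟨hR, hRi⟩ := inv_smul_mul hv hA0
  -- the middle factor
  set Hi : Matrix (Fin (j + 2 + 1)) (Fin (j + 2 + 1)) K := bord 1 0 (a⁻¹ • c) (v • A) with hHi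
  have hHid : Hi.det = v ^ (j + 2) := by
    rw [hHi, det_bord_lower, det_smul, hA.det, Fintype.card_fin, one_mul, mul_one]
  have hHiu : IsUnit Hi.det := by rw [hHid]; exact isUnit_iff_ne_zero.2 (pow_ne_zero _ hv)
  set H2 := P0 * Hi * P0⁻¹ * H1 with hH2
  have hH2d : H2.det = v ^ (j + 2) := by
    rw [hH2, det_mul, det_mul, det_mul, det_nonsing_inv, Ring.inverse_eq_inv, hP0d, hH1d, hHid]; simp
  have hP0i : P0⁻¹ = bord 1 0 (-p) 1 := Matrix.inv_eq_right_inv (by
    rw [hP0, bord_mul, ← bord_one]; congr 1 <;> simp [bord_one])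
  set N : Matrix (Fin (j + 2)) (Fin (j + 2 + 1)) K := Matrix.of fun i k => if k = 0 then w i else 0 with hN
  obtain ⟨u, hu⟩ : ∃ u, H2 = bord 1 0 u (v • A) := by
    refine ⟨fun i => H2 i.succ 0, ?_⟩
    rw [hH2, hP0i, hP0, hHi, hH1, bord_mul, bord_mul, bord_mul]
    congr 1 <;> simp [bord_one]
  obtain ⟨h, hh0, hhd, Y, hY⟩ := S₀.engine hE hE' hxE hxE' (P := 1) (Q := v • A) (H1 := H1) (H2 := H2) (N := N)
    (by rw [det_one]; exact one_ne_zero) (by rw [hH2d]; exact pow_ne_zero _ hv)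
    (by rw [hH1, bord_mul_J rfl])
    (by
      rw [hu, hH1]
      ext i k
      refine Fin.cases ?_ (fun i => ?_) i <;> refine Fin.cases ?_ (fun k => ?_) k <;>
        simp [S₀, swapOdd, hN, Matrix.mul_apply, Fin.sum_univ_succ, Fin.succ_ne_zero, Fin.succ_inj,
          (Fin.succ_ne_zero _).symm, Matrix.one_apply])
    (by
      ext i k
      simp [S₀, swapOdd, hN, Matrix.mul_apply, Fin.sum_univ_succ, Fin.succ_ne_zero, (Fin.succ_ne_zero _).symm])
    (by rw [hu, bord_mul_J rfl])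
  refine ⟨h, hh0, ?_, hY.trans ?_⟩
  · rw [hhd, det_one, one_mul, hH2d]
  · refine join_std (a := j + 1) (b := j + 2) (grouped_cst v) (grouped_cons_cst a (κ / v)) (fun _ k => ?_) ?_ ?_ Y
    · refine Fin.cases ?_ (fun k => ?_) k
      · simpa [cst] using hva
      · simp only [cst, Fin.cons_succ]
        exact fun e => hvκ (by
          calc v * v = v * (κ / v) := by rw [← e]
            _ = κ := mul_div_cancel₀ κ hv)
    · rw [inv_one, mul_one]
      exact hA.smul hv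
    · have hMz0 : Mz.det ≠ 0 := by rw [hMzd]; exact hM'
      refine (sim_of (P := Mz * P0) (B := bord a C 0 ((κ / v) • B₀)) ?_ ?_).trans
        (head_std (hB.smul (div_ne_zero hκ hv)) fun e => ?_)
      · rw [det_mul, hP0d, mul_one]; exact hMz0
      · show H1 * M' * H2⁻¹ * M * (Mz * P0) = _
        have e1 : H1 * M' * H2⁻¹ = Mz * (P0 * Hi⁻¹ * P0⁻¹) := by
          rw [hH2, hMz, Matrix.mul_inv_rev (P0 * Hi * P0⁻¹), Matrix.mul_inv_rev (P0 * Hi), Matrix.mul_inv_rev P0,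
            Matrix.nonsing_inv_nonsing_inv _ hP0u]
          simp only [Matrix.mul_assoc]
        have e2 : Hi⁻¹ * bord a C c (κ • S + a⁻¹ • vecMulVec c C) = bord a C 0 ((κ / v) • B₀) := by
          have : bord a C c (κ • S + a⁻¹ • vecMulVec c C) = Hi * bord a C 0 ((κ / v) • B₀) := by
            rw [hHi, bord_mul]
            congr 1
            · simp
            · simp
            · simp [smul_smul, mul_inv_cancel₀ ha]
            · rw [hAB, Matrix.smul_mul, Matrix.mul_smul, smul_smul, mul_div_cancel₀ _ hv, smul_vecMulVec]; exact add_comm _ _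
          rw [this, Matrix.nonsing_inv_mul_cancel_left _ _ hHiu]
        rw [e1, ← e2]
        simp only [Matrix.mul_assoc]
        rw [← Matrix.mul_assoc M Mz P0, ← hZ, hZP, Matrix.nonsing_inv_mul_cancel_left _ _ hP0u]
      · obtain ⟨w', hw', hCw'⟩ := hw e
        exact ⟨w', by rw [smul_mulVec, hw'], hCw'⟩

/-- A head and two groups from one frame, in even dimension. -/
theorem even_head (h4 : Four K) {j : ℕ}
    {x E : Matrix (Fin (j + 2 + 1 + (j + 2 + 1))) (Fin (j + 2 + 1 + (j + 2 + 1))) K}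
    {T B : Matrix (Fin (j + 2 + 1)) (Fin (j + 2 + 1)) K}
    (hE : E.det ≠ 0) (hxE : x * E = E * fin ((swapEven K (j + 2 + 1)).shape T B)) (hx : x.det ≠ 0)
    {κ v b : K} (hκ : κ ≠ 0) (hv : v ≠ 0) (hκd : (v * b) * κ ^ (j + 2) = x.det ^ 2)
    (hvκ : v * v ≠ κ) (hvb : v ≠ b) (hbκ : b ≠ κ / v) (hns : NonScalar (T * T)) (hrk : 3 ≤ (T * T - κ • 1).rank) :
    ∃ h : Matrix (Fin (j + 2 + 1 + (j + 2 + 1))) (Fin (j + 2 + 1 + (j + 2 + 1))) K, h.det ≠ 0 ∧
      Sim (h * x * h⁻¹ * x) (std (Fin.append (cst (j + 2 + 1) v) (Fin.cons b (cst (j + 2) (κ / v))))) := by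
  classical
  set S₀ := swapEven K (j + 2 + 1)
  have hquot : S₀.quot T B = T := by simp [S₀, Swap.quot, swapEven]
  have hTT : T.det * T.det = x.det ^ 2 := by
    have := S₀.det_quot_mul hE hE hxE hxE
    rwa [hquot] at this
  have hb : b ≠ 0 := fun h => pow_ne_zero 2 hx (by rw [← hκd, h, mul_zero, zero_mul])
  have hT0 : T.det ≠ 0 := fun h => pow_ne_zero 2 hx (by rw [← hTT, h, mul_zero])
  have hvb0 : v * b ≠ 0 := mul_ne_zero hv hb
  obtain ⟨P, r, c, S, hP, hd, hTP, hc, hSns⟩ := exists_corner_schur hns (by rw [det_mul, hTT]; exact pow_ne_zero 2 hx) hvb0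
  set S' := κ⁻¹ • S with hS'
  have hSS : S = κ • S' := by rw [hS', smul_smul, mul_inv_cancel₀ hκ, one_smul]
  have hS'd : S'.det = 1 := det_smul_inv κ hκ (mul_left_cancel₀ hvb0 (by rw [← hd, det_mul, hTT, hκd]))
  have hS'ns : NonScalar S' := fun ⟨u, hu⟩ => hSns (by omega) ⟨κ * u, by rw [hSS, hu, smul_smul]⟩
  have hPu := isUnit_of hP
  have hgood : 2 ≤ (S' - 1).rank ∨ c ∉ LinearMap.range (S' - 1).mulVecLin := by
    have h := coupled_ok (a := v * b) (κ := κ) (C := c) (c := r) (S := S'ᵀ)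
    rw [transpose_transpose] at h
    refine h ?_
    have e : bord (v * b) c r (κ • S'ᵀ + (v * b)⁻¹ • vecMulVec r c) - κ • 1 =
        (bord (v * b) r c (S + (v * b)⁻¹ • vecMulVec c r) - κ • 1)ᵀ := by
      ext i k
      refine Fin.cases ?_ (fun i => ?_) i <;> refine Fin.cases ?_ (fun k => ?_) k <;>
        simp [hSS, vecMulVec_apply, Matrix.one_apply, Fin.succ_inj, (Fin.succ_ne_zero _).symm, Fin.succ_ne_zero,
          eq_comm (a := i), mul_comm (r _)]
    rw [e, rank_transpose]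
    have e2 : T * T - κ • 1 = P * (bord (v * b) r c (S + (v * b)⁻¹ • vecMulVec c r) - κ • 1) * P⁻¹ := by
      rw [Matrix.mul_sub, Matrix.sub_mul, ← hTP, Matrix.mul_nonsing_inv_cancel_right _ _ hPu, Matrix.mul_smul,
        Matrix.smul_mul, mul_one, Matrix.mul_nonsing_inv _ hPu]
    rw [e2] at hrk
    exact hrk.trans ((rank_mul_le_left _ _).trans (rank_mul_le_right _ _))
  obtain ⟨A, B₀, hA, hB₀, hAB, f, hf, hfc⟩ := reg_prod h4 hS'd (Or.inl hS'ns) hc hgood
  set L := bord v 0 (b⁻¹ • c) (v • A) with hL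
  set U := bord b (v⁻¹ • r) 0 ((κ / v) • B₀) with hU
  have hLU : bord (v * b) r c (S + (v * b)⁻¹ • vecMulVec c r) = L * U := by
    rw [hL, hU, ← bord_eq_mul r c hv hb, Matrix.smul_mul, Matrix.mul_smul, smul_smul, mul_div_cancel₀ _ hv, ← hAB,
      ← hSS]
  have hLd : L.det ≠ 0 := by
    rw [hL, det_bord_lower, det_smul, hA.det, mul_one]
    exact mul_ne_zero hv (pow_ne_zero _ hv)
  set R := P * L * P⁻¹ with hR
  have hRd : R.det ≠ 0 := by
    rw [hR, det_mul, det_mul, det_nonsing_inv, Ring.inverse_eq_inv]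
    exact mul_ne_zero (mul_ne_zero hP hLd) (inv_ne_zero hP)
  obtain ⟨h, hh0, -, Y, hY⟩ := S₀.engine hE hE hxE hxE (P := 1) (Q := R) (H1 := 1)
    (H2 := R) (N := 0) (by rw [det_one]; exact one_ne_zero) hRd (by simp [S₀, swapEven])
    (by simp [S₀, swapEven]) (by simp) (by simp [S₀, swapEven])
  refine ⟨h, hh0, hY.trans ?_⟩
  refine join_std (a := j + 2) (b := j + 2) (grouped_cst v) (grouped_cons_cst b (κ / v)) (fun _ k => ?_) ?_ ?_ Y
  · refine Fin.cases ?_ (fun k => ?_) k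
    · simpa [cst] using hvb
    · simp only [cst, Fin.cons_succ]
      exact fun e => hvκ (by
        calc v * v = v * (κ / v) := by rw [← e]
          _ = κ := mul_div_cancel₀ κ hv)
  · rw [inv_one, mul_one]
    have hcst : (Fin.cons v (cst (j + 2) v) : Fin (j + 2 + 1) → K) = cst (j + 2 + 1) v := by
      funext i; refine Fin.cases ?_ (fun i => ?_) i <;> simp [cst]
    rw [← hcst]
    refine (sim_of (P := P) (B := L) hP ?_).trans (head_std_lower (hA.smul hv) fun _ => ⟨f, ?_, ?_⟩)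
    · rw [hR, Matrix.nonsing_inv_mul_cancel_right _ _ hPu]
    · rw [vecMul_smul, hf]
    · rw [dotProduct_smul]
      exact mul_ne_zero (inv_ne_zero hb) hfc
  · rw [hquot, Matrix.one_mul]
    refine (sim_of (P := T * P) (B := U) ?_ ?_).trans (head_std (hB₀.smul (div_ne_zero hκ hv)) fun e => absurd e hbκ)
    · rw [det_mul]; exact mul_ne_zero hT0 hP
    · have hRu := isUnit_of hRd
      have e1 : R⁻¹ * (T * (T * P)) = P * U := by
        rw [← Matrix.mul_assoc T T P, hTP, hLU, ← Matrix.mul_assoc P L, show P * L = R * P by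
          rw [hR, Matrix.nonsing_inv_mul_cancel_right _ _ hPu], Matrix.mul_assoc R P,
          Matrix.nonsing_inv_mul_cancel_left _ _ hRu]
      simp only [Matrix.mul_assoc]
      rw [e1]

end CfsgLib.Classical.Covering
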