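import Cfsg.Agent.Lib.Classical.Covering.Lift

/-!
# One step of the induction: peeling an eigenvalue
-/

set_option autoImplicit false

namespace CfsgLib.Classical.Covering

open Matrix CfsgLib.Classical.UnipotentGen CfsgLib.Classical.Sourour

variable {K : Type*} [Field K] {n m : ℕ}

/-- No perturbation by a scalar has rank below two. -/
def RTwo (y : Matrix (Fin n) (Fin n) K) : Prop := ∀ c : K, 2 ≤ (y - c • 1).rank

theorem RTwo.nonScalar {y : Matrix (Fin n) (Fin n) K} (hy : RTwo y) : NonScalar y := fun ⟨c, hc⟩ => by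
  have h := hy c
  rw [hc, sub_self, Matrix.rank_zero] at h
  omega

/-- Every admissible non-scalar matrix is a product of `m` conjugates, without a common fixed vector. -/
def Nice (K : Type*) [Field K] (m : ℕ) : Prop :=
  ∀ y G : Matrix (Fin m) (Fin m) K, y.det ≠ 0 → RTwo y → NonScalar G → G.det = y.det ^ m →
    Prn (fun k => Sim k y) m G

theorem one_ne_succ_one (m : ℕ) : (1 : Fin (m + 3)) ≠ (1 : Fin (m + 2)).succ := by
  rw [← Fin.succ_zero_eq_one]
  exact fun h => zero_ne_one (Fin.succ_injective _ h)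

theorem scale_col (P : Matrix (Fin (n + 1)) (Fin (n + 1)) K) (l : Fin (n + 1)) {δ : K} (hP : P.det ≠ 0) :
    (P * diagonal (Function.update (1 : Fin (n + 1) → K) l (δ / P.det))).det = δ := by
  rw [det_mul, det_diagonal, Finset.prod_update_of_mem (Finset.mem_univ l)]
  simp only [Pi.one_apply, Finset.prod_const_one, mul_one]
  rw [mul_div_cancel₀ _ hP]

/-- A basis of determinant one starting with a given vector. -/
theorem exists_first {v : Fin (m + 2) → K} (hv : v ≠ 0) :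
    ∃ P : Matrix (Fin (m + 2)) (Fin (m + 2)) K, P.det = 1 ∧ P *ᵥ ev 0 = v := by
  obtain ⟨P, hP, hcol⟩ := exists_col hv
  refine ⟨P * diagonal (Function.update (1 : Fin (m + 2) → K) 1 (1 / P.det)), scale_col P 1 hP, ?_⟩
  rw [ev, ← mulVec_mulVec, diagonal_mulVec_single, Function.update_of_ne (by simp : (0 : Fin (m + 2)) ≠ 1),
    Pi.one_apply, one_mul, mulVec_single_one]
  funext i; exact hcol i

/-- A basis of determinant one starting with two given independent vectors. -/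
theorem exists_pair {v w : Fin (m + 3) → K} (hv : v ≠ 0) (hw : ∀ c : K, w ≠ c • v) :
    ∃ P : Matrix (Fin (m + 3)) (Fin (m + 3)) K, P.det = 1 ∧ P *ᵥ ev 0 = v ∧ P *ᵥ ev 1 = w := by
  obtain ⟨P₀, hP₀, hP₀v⟩ := exists_first hv
  have hP₀u : IsUnit P₀.det := by rw [hP₀]; exact isUnit_one
  set x := P₀⁻¹ *ᵥ w with hx
  have hxw : P₀ *ᵥ x = w := by rw [hx, mulVec_mulVec, Matrix.mul_nonsing_inv _ hP₀u, one_mulVec]
  have htail : Fin.tail x ≠ 0 := fun h0 => hw (x 0) (by
    rw [← hxw, ← hP₀v, ← mulVec_smul]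
    congr 1
    funext i
    refine Fin.cases ?_ (fun i => ?_) i
    · simp [ev]
    · have := congrFun h0 i
      simpa [ev, Fin.tail] using this)
  obtain ⟨P₁, hP₁, hcol⟩ := exists_col htail
  set Q : Matrix (Fin (m + 3)) (Fin (m + 3)) K := P₀ * bord 1 (Pi.single 0 (x 0)) 0 P₁ with hQ
  have hQd : Q.det ≠ 0 := by rw [hQ, det_mul, hP₀, det_bord_upper, one_mul, one_mul]; exact hP₁
  have hQ0 : Q *ᵥ ev 0 = v := by
    rw [hQ, ← mulVec_mulVec, show bord 1 (Pi.single 0 (x 0)) 0 P₁ *ᵥ ev 0 = ev 0 from ?_, hP₀v]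
    rw [ev, mulVec_single_one]; funext i; refine Fin.cases ?_ (fun i => ?_) i <;> simp
  have hQ1 : Q *ᵥ ev 1 = w := by
    rw [hQ, ← mulVec_mulVec, show bord 1 (Pi.single 0 (x 0)) 0 P₁ *ᵥ ev 1 = x from ?_, hxw]
    rw [ev, mulVec_single_one, ← Fin.succ_zero_eq_one]; funext i; refine Fin.cases ?_ (fun i => ?_) i
    · rw [col_apply, bord_zero_succ, Pi.single_eq_same]
    · rw [col_apply, bord_succ_succ]; exact hcol i
  have h20 : (0 : Fin (m + 3)) ≠ (1 : Fin (m + 2)).succ := (Fin.succ_ne_zero _).symm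
  have h21 := one_ne_succ_one m
  refine ⟨Q * diagonal (Function.update (1 : Fin (m + 3) → K) (1 : Fin (m + 2)).succ (1 / Q.det)), scale_col Q _ hQd, ?_, ?_⟩
  · rw [ev, ← mulVec_mulVec, diagonal_mulVec_single, Function.update_of_ne h20, Pi.one_apply, one_mul]
    exact hQ0
  · rw [ev, ← mulVec_mulVec, diagonal_mulVec_single, Function.update_of_ne h21, Pi.one_apply, one_mul]
    exact hQ1

theorem eigen_form {y : Matrix (Fin (m + 2)) (Fin (m + 2)) K} {lam : K} {v : Fin (m + 2) → K} (hv : v ≠ 0)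
    (he : y *ᵥ v = lam • v) :
    ∃ (P : Matrix (Fin (m + 2)) (Fin (m + 2)) K) (r : Fin (m + 1) → K) (Y : Matrix (Fin (m + 1)) (Fin (m + 1)) K),
      P.det = 1 ∧ P *ᵥ ev 0 = v ∧ y * P = P * bord lam r 0 Y := by
  obtain ⟨P, hP, hPv⟩ := exists_first hv
  have hPu : IsUnit P.det := by rw [hP]; exact isUnit_one
  set M := P⁻¹ * y * P with hM
  have hcol : ∀ i, M i 0 = lam * (ev 0 : Fin (m + 2) → K) i := by
    intro i
    have e : M *ᵥ ev 0 = lam • ev 0 := by
      rw [hM, ← mulVec_mulVec, ← mulVec_mulVec, hPv, he, ← hPv, mulVec_smul, mulVec_mulVec,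
        Matrix.nonsing_inv_mul _ hPu, one_mulVec]
    have := congrFun e i
    rwa [ev, mulVec_single_one] at this
  refine ⟨P, fun j => M 0 j.succ, fun i j => M i.succ j.succ, hP, hPv, ?_⟩
  have e : bord lam (fun j => M 0 j.succ) 0 (fun i j => M i.succ j.succ) = M := by
    ext i j
    refine Fin.cases ?_ (fun i => ?_) i <;> refine Fin.cases ?_ (fun j => ?_) j
    · show lam = M 0 0
      rw [hcol]; simp [ev]
    · rfl
    · show (0 : K) = M i.succ 0
      rw [hcol]; simp [ev, Fin.succ_ne_zero]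
    · rfl
  rw [e, hM]
  simp only [Matrix.mul_assoc]
  rw [Matrix.mul_nonsing_inv_cancel_left _ _ hPu]

theorem quot_scalar_rows {K₀ G : Matrix (Fin (m + 3)) (Fin (m + 3)) K} {a c : K} {β : Fin (m + 2) → K}
    (hu : IsUnit K₀.det) (hK : ∀ i, K₀ i 0 = (ev 1 : Fin (m + 3) → K) i)
    (hG : ∀ i, G i 0 = a * (ev 1 : Fin (m + 3) → K) i) (h : K₀⁻¹ * G = bord a β 0 (c • 1)) :
    ∀ i, i ≠ 1 → ∀ j, G i j = c * K₀ i j := by
  intro i hi j
  have hi0 : K₀ i 0 = 0 := by rw [hK, ev, Pi.single_eq_of_ne hi]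
  refine Fin.cases ?_ (fun j => ?_) j
  · rw [hG, hi0, ev, Pi.single_eq_of_ne hi, mul_zero, mul_zero]
  · have e : G = K₀ * bord a β 0 (c • 1) := by rw [← h, Matrix.mul_nonsing_inv_cancel_left _ _ hu]
    rw [e, Matrix.mul_apply, Fin.sum_univ_succ, hi0, zero_mul, zero_add]
    simp [Matrix.one_apply]
    ring

/-- The peeling step, the first factor given. -/
theorem peel_core {y G : Matrix (Fin (m + 3)) (Fin (m + 3)) K} (hy0 : y.det ≠ 0) {lam : K} {r : Fin (m + 2) → K}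
    {Y : Matrix (Fin (m + 2)) (Fin (m + 2)) K} (hmodel : Cd 1 y (bord lam r 0 Y))
    {P G' k₁ : Matrix (Fin (m + 3)) (Fin (m + 3)) K} (hP : P.det = 1) (hG' : G * P = P * G') (hk₁y : Cd 1 k₁ y)
    (hk₁0 : ∀ i, k₁ i 0 = (ev 1 : Fin (m + 3) → K) i) {β : Fin (m + 2) → K}
    {G'' : Matrix (Fin (m + 2)) (Fin (m + 2)) K} (hq : k₁⁻¹ * G' = bord (lam ^ (m + 2)) β 0 G'')
    (hp : Prn (fun k => Sim k Y) (m + 2) G'') :
    Prn (fun k => Cd 1 k y) (m + 3) G := by
  have hdY : y.det = lam * Y.det := by rw [(hmodel.sim one_ne_zero).det_eq, det_bord_upper]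
  have hlam : lam ≠ 0 := fun h => hy0 (by rw [hdY, h, zero_mul])
  have hk₁u : IsUnit k₁.det := isUnit_of (by rw [(hk₁y.sim one_ne_zero).det_eq]; exact hy0)
  obtain ⟨l'', hl'', hlC'', hlp'', hnf⟩ := hp
  obtain ⟨l, hll, hlC, hcov, hlp⟩ := lift_all hlam r Y hlC'' hnf β
  rw [hl'', hlp'', ← hq] at hlp
  refine Prn.map_conj (C := fun k => Cd 1 k y) (G' := G') (P := P) (by rw [hP]; exact one_ne_zero)
    (fun k k' e hk => ?_) hG' ?_
  · have := Cd.trans (⟨P, hP, e⟩ : Cd 1 k k') hk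
    rwa [one_mul] at this
  refine ⟨k₁ :: l, by simp [hll, hl''], ?_, ?_, ?_⟩
  · intro k hk
    rcases List.mem_cons.1 hk with rfl | hk
    · exact hk₁y
    · have := (hlC k hk).trans (hmodel.symm one_ne_zero)
      rwa [inv_one, one_mul] at this
  · rw [List.prod_cons, hlp, Matrix.mul_nonsing_inv_cancel_left _ _ hk₁u]
  · intro c u hu
    have htail := lift_fix hnf hcov fun k hk => hu k (List.mem_cons_of_mem _ hk)
    have h1 := congrFun (hu k₁ (by simp)) 1
    rw [mulVec, dotProduct, Fin.sum_univ_succ, Finset.sum_eq_zero fun i _ => by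
      rw [show u i.succ = 0 from congrFun htail i, mul_zero], hk₁0, ev, Pi.single_eq_same, one_mul, add_zero,
      Pi.smul_apply, show u 1 = 0 from congrFun htail 0, smul_zero] at h1
    exact funext fun i => Fin.cases h1 (fun i => congrFun htail i) i

theorem quot_form {k G' : Matrix (Fin (m + 3)) (Fin (m + 3)) K} {a : K} (hk : k.det ≠ 0)
    (hk0 : ∀ i, k i 0 = (ev 1 : Fin (m + 3) → K) i) (hG'0 : ∀ i, G' i 0 = a * (ev 1 : Fin (m + 3) → K) i) :
    ∃ β G'', k⁻¹ * G' = bord a β 0 G'' := by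
  have hku := isUnit_of hk
  refine ⟨fun j => (k⁻¹ * G') 0 j.succ, fun i j => (k⁻¹ * G') i.succ j.succ, ?_⟩
  have e : (k⁻¹ * G') *ᵥ ev 0 = a • ev 0 := by
    rw [← mulVec_mulVec, show G' *ᵥ ev 0 = a • (k *ᵥ ev 0) from ?_, mulVec_smul, mulVec_mulVec,
      Matrix.nonsing_inv_mul _ hku, one_mulVec]
    simp only [ev, mulVec_single_one]
    funext i
    simp [hG'0, hk0, ev]
  ext i j
  refine Fin.cases ?_ (fun j => ?_) j
  · have := congrFun e i
    rw [ev, mulVec_single_one, col_apply] at this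
    rw [this]
    refine Fin.cases ?_ (fun i => ?_) i <;> simp [ev] <;> rfl
  · refine Fin.cases ?_ (fun i => ?_) i <;> rfl

set_option maxHeartbeats 1000000 in
/-- The peeling step. -/
theorem peel {y G : Matrix (Fin (m + 3)) (Fin (m + 3)) K} (hy0 : y.det ≠ 0)
    (hy : NonScalar y) (hG : NonScalar G) (hdet : G.det = y.det ^ (m + 3)) {lam : K} {r : Fin (m + 2) → K}
    {Y : Matrix (Fin (m + 2)) (Fin (m + 2)) K} (hmodel : Cd 1 y (bord lam r 0 Y))
    (hN : ∀ G'', NonScalar G'' → G''.det = Y.det ^ (m + 2) → Prn (fun k => Sim k Y) (m + 2) G'') :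
    Prn (fun k => Cd 1 k y) (m + 3) G := by
  classical
  have hdY : y.det = lam * Y.det := by rw [(hmodel.sim one_ne_zero).det_eq, det_bord_upper]
  have hlam : lam ≠ 0 := fun h => hy0 (by rw [hdY, h, zero_mul])
  set a := lam ^ (m + 2) with ha
  have ha0 : a ≠ 0 := pow_ne_zero _ hlam
  obtain ⟨v, hv, hvG⟩ := exists_moved hG
  obtain ⟨e, he, hey⟩ := exists_moved hy
  obtain ⟨P, hP, hPv, hPw⟩ := exists_pair hv (w := a⁻¹ • G *ᵥ v) (fun c h => hvG (a * c) (by
    rw [← smul_smul, ← h, smul_smul, mul_inv_cancel₀ ha0, one_smul]))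
  obtain ⟨Pe, hPe, hPe0, hPe1⟩ := exists_pair he hey
  have hPu : IsUnit P.det := by rw [hP]; exact isUnit_one
  have hPeu : IsUnit Pe.det := by rw [hPe]; exact isUnit_one
  set G' := P⁻¹ * G * P with hG'
  have hG'0 : ∀ i, G' i 0 = a * (ev 1 : Fin (m + 3) → K) i := by
    intro i
    have h : G' *ᵥ ev 0 = a • ev 1 := by
      rw [hG', ← mulVec_mulVec, ← mulVec_mulVec, hPv, show G *ᵥ v = a • (P *ᵥ ev 1) by
        rw [hPw, smul_smul, mul_inv_cancel₀ ha0, one_smul], mulVec_smul, mulVec_mulVec,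
        Matrix.nonsing_inv_mul _ hPu, one_mulVec]
    have := congrFun h i
    rwa [ev, mulVec_single_one] at this
  have hG'd : G'.det = y.det ^ (m + 3) := by
    rw [hG', det_mul, det_mul, det_nonsing_inv, Ring.inverse_eq_inv, hP, hdet]; simp
  set K₀ := Pe⁻¹ * y * Pe with hK₀
  have hK₀0 : ∀ i, K₀ i 0 = (ev 1 : Fin (m + 3) → K) i := by
    intro i
    have h : K₀ *ᵥ ev 0 = ev 1 := by
      rw [hK₀, ← mulVec_mulVec, ← mulVec_mulVec, hPe0, ← hPe1, mulVec_mulVec, Matrix.nonsing_inv_mul _ hPeu,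
        one_mulVec]
    have := congrFun h i
    rwa [ev, mulVec_single_one] at this
  have hK₀y : Cd 1 K₀ y := by
    have := Cd.conj (show Pe⁻¹.det ≠ 0 by rw [det_nonsing_inv, Ring.inverse_eq_inv, hPe, inv_one]; exact one_ne_zero) y
    rwa [det_nonsing_inv, Ring.inverse_eq_inv, hPe, inv_one, Matrix.nonsing_inv_nonsing_inv _ hPeu, ← hK₀] at this
  set T : Matrix (Fin (m + 3)) (Fin (m + 3)) K := bord 1 (Pi.single 1 1) 0 1 with hT
  have hTd : T.det = 1 := by rw [hT, det_bord_upper, det_one, mul_one]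
  have hTi : T⁻¹ = bord 1 (-Pi.single 1 1) 0 1 := Matrix.inv_eq_right_inv (by
    rw [hT, bord_mul, ← bord_one]
    congr 1 <;> simp [bord_one])
  set K₁ := T * K₀ * T⁻¹ with hK₁
  have h12 := (one_ne_succ_one m).symm
  have hK₁low : ∀ i : Fin (m + 2), i ≠ 0 → ∀ j, K₁ i.succ j = K₀ i.succ j := by
    intro i hi j
    have hi1 : i.succ ≠ 1 := by rw [← Fin.succ_zero_eq_one]; exact fun h => hi (Fin.succ_injective _ h)
    have e : ∀ l, (T * K₀) i.succ l = K₀ i.succ l := fun l => by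
      simp [hT, Matrix.mul_apply, Fin.sum_univ_succ (n := m + 2), Matrix.one_apply]
    rw [hK₁, Matrix.mul_apply, hTi, Fin.sum_univ_succ (n := m + 2), e, hK₀0, ev, Pi.single_eq_of_ne hi1, zero_mul,
      zero_add]
    refine Fin.cases ?_ (fun j => ?_) j
    · rw [hK₀0, ev, Pi.single_eq_of_ne hi1]; simp
    · simp [e, Matrix.one_apply]
  have hK₁row : ∀ j, K₁ 0 j = K₀ 0 j + K₀ (1 : Fin (m + 2)).succ j := by
    intro j
    have e : ∀ l, (T * K₀) 0 l = K₀ 0 l + K₀ (1 : Fin (m + 2)).succ l := fun l => by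
      rw [hT, Matrix.mul_apply, Fin.sum_univ_succ, bord_zero_zero, one_mul, Finset.sum_eq_single (1 : Fin (m + 2))]
      · rw [bord_zero_succ, Pi.single_eq_same, one_mul]
      · intro b _ hb; rw [bord_zero_succ, Pi.single_eq_of_ne hb, zero_mul]
      · simp
    have h0 : (T * K₀) 0 0 = 0 := by
      rw [e, hK₀0, hK₀0, ev, Pi.single_eq_of_ne (by simp), Pi.single_eq_of_ne h12, add_zero]
    rw [hK₁, Matrix.mul_apply, hTi, Fin.sum_univ_succ (n := m + 2), h0, zero_mul, zero_add]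
    refine Fin.cases ?_ (fun j => ?_) j
    · rw [← e, h0]; simp
    · simp [e, Matrix.one_apply]
  have hK₁0 : ∀ i, K₁ i 0 = (ev 1 : Fin (m + 3) → K) i := by
    intro i
    have h : K₁ *ᵥ ev 0 = ev 1 := by
      have hT0 : T⁻¹ *ᵥ ev 0 = ev 0 := by
        rw [hTi, ev, mulVec_single_one]; funext l; refine Fin.cases ?_ (fun l => ?_) l <;> simp
      rw [hK₁, ← mulVec_mulVec, ← mulVec_mulVec, hT0, show K₀ *ᵥ ev 0 = ev 1 by
        rw [ev, mulVec_single_one]; funext l; exact hK₀0 l, ev, mulVec_single_one]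
      funext l
      rw [← Fin.succ_zero_eq_one, col_apply, hT]
      refine Fin.cases ?_ (fun l => ?_) l
      · rw [bord_zero_succ, Pi.single_eq_of_ne (zero_ne_one : (0 : Fin (m + 2)) ≠ 1),
          Pi.single_eq_of_ne (Fin.succ_ne_zero _).symm]
      · rw [bord_succ_succ, Matrix.one_apply, Pi.single_apply]
        by_cases h : l = 0
        · subst h; simp
        · have hl1 : l.succ ≠ 1 := by rw [← Fin.succ_zero_eq_one]; exact fun h' => h (Fin.succ_injective _ h')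
          simp [h, hl1]
    have := congrFun h i
    rwa [ev, mulVec_single_one] at this
  have hK₁y : Cd 1 K₁ y := by
    have := (Cd.conj (show T.det ≠ 0 by rw [hTd]; exact one_ne_zero) K₀).trans hK₀y
    rwa [hTd, one_mul, ← hK₁] at this
  -- the first factor
  obtain ⟨k₁, hk₁y, hk₁0, β, G'', hq, hG''⟩ : ∃ k₁, Cd 1 k₁ y ∧ (∀ i, k₁ i 0 = (ev 1 : Fin (m + 3) → K) i) ∧
      ∃ β G'', k₁⁻¹ * G' = bord a β 0 G'' ∧ NonScalar G'' := by
    have hform : ∀ k : Matrix (Fin (m + 3)) (Fin (m + 3)) K, Cd 1 k y →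
        (∀ i, k i 0 = (ev 1 : Fin (m + 3) → K) i) →
        ∃ β G'', k⁻¹ * G' = bord a β 0 G'' := fun k hk hk0 =>
      quot_form (by rw [(hk.sim one_ne_zero).det_eq]; exact hy0) hk0 hG'0
    obtain ⟨β₀, G₀, h₀⟩ := hform K₀ hK₀y hK₀0
    by_cases hn₀ : NonScalar G₀
    · exact ⟨K₀, hK₀y, hK₀0, β₀, G₀, h₀, hn₀⟩
    obtain ⟨β₁, G₁, h₁⟩ := hform K₁ hK₁y hK₁0
    refine ⟨K₁, hK₁y, hK₁0, β₁, G₁, h₁, fun ⟨c₁, hc₁⟩ => ?_⟩
    obtain ⟨c₀, hc₀⟩ := not_not.1 hn₀
    subst hc₁ hc₀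
    have hu₀ : IsUnit K₀.det := isUnit_of (by rw [(hK₀y.sim one_ne_zero).det_eq]; exact hy0)
    have hu₁ : IsUnit K₁.det := isUnit_of (by rw [(hK₁y.sim one_ne_zero).det_eq]; exact hy0)
    have r₀ := quot_scalar_rows hu₀ hK₀0 hG'0 h₀
    have r₁ := quot_scalar_rows hu₁ hK₁0 hG'0 h₁
    have hG'0' : G'.det ≠ 0 := by rw [hG'd]; exact pow_ne_zero _ hy0
    obtain ⟨j, hj⟩ : ∃ j, G' (1 : Fin (m + 2)).succ j ≠ 0 := by
      by_contra! hz
      exact hG'0' (Matrix.det_eq_zero_of_row_eq_zero _ hz)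
    have e1 := r₀ _ h12 j
    have e2 := r₁ _ h12 j
    rw [hK₁low 1 (by simp) j] at e2
    have hk0 : K₀ (1 : Fin (m + 2)).succ j ≠ 0 := fun h => hj (by rw [e1, h, mul_zero])
    have hcc : c₀ = c₁ := mul_right_cancel₀ hk0 (e1.symm.trans e2)
    have e3 := r₀ 0 (by simp) j
    have e4 := r₁ 0 (by simp) j
    rw [hK₁row, ← hcc, mul_add, ← e3, ← e1] at e4
    exact hj (by linear_combination -e4)
  have hk₁u : IsUnit k₁.det := isUnit_of (by rw [(hk₁y.sim one_ne_zero).det_eq]; exact hy0)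
  have hG''d : G''.det = Y.det ^ (m + 2) := by
    have h := congrArg Matrix.det hq
    rw [det_mul, det_nonsing_inv, Ring.inverse_eq_inv, (hk₁y.sim one_ne_zero).det_eq, hG'd, det_bord_upper,
      show y.det ^ (m + 3) = y.det * y.det ^ (m + 2) from pow_succ' _ _, inv_mul_cancel_left₀ hy0, hdY, mul_pow] at h
    exact (mul_left_cancel₀ ha0 h).symm
  exact peel_core hy0 hmodel hP (G' := G')
    (by rw [hG']; simp only [Matrix.mul_assoc]; rw [Matrix.mul_nonsing_inv_cancel_left _ _ hPu]) hk₁y hk₁0 hq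
    (hN G'' hG'' hG''d)

end CfsgLib.Classical.Covering
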