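import Cfsg.Agent.Lib.Classical.Covering.Products

/-!
# Binomial pencils: scalars as products of conjugates of a decomposable matrix

If `A` and `x * A` have scalar `n`-th powers, a scalar is a product of the conjugates `A^i x A^{-i}`, `i < n`.
For a matrix with two complementary invariant subspaces without common eigenvalue the matrix `A` is found as a cyclic
shift: the characteristic polynomial of `x * A` is affine in the coupling block, and that block reaches every polynomial.
-/

set_option autoImplicit false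

namespace CfsgLib.Classical.Covering

open Matrix Polynomial CfsgLib.Classical.UnipotentGen CfsgLib.Classical.Sourour

variable {K : Type*} [Field K] {k m n : ℕ}

/-- A matrix and a twist of it with scalar powers. -/
def Bin {ι : Type*} [Fintype ι] [DecidableEq ι] (x : Matrix ι ι K) : Prop :=
  ∃ A : Matrix ι ι K, A.det = 1 ∧
    ∃ a b : K, A ^ Fintype.card ι = a • 1 ∧ (x * A) ^ Fintype.card ι = b • 1

theorem conj_pow' {ι : Type*} [Fintype ι] [DecidableEq ι] {P : Matrix ι ι K} (hP : IsUnit P.det) (A : Matrix ι ι K) :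
    ∀ j : ℕ, (P * A * P⁻¹) ^ j = P * A ^ j * P⁻¹ := by
  intro j
  induction j with
  | zero => simp [Matrix.mul_nonsing_inv _ hP]
  | succ j ih =>
    rw [pow_succ, ih, pow_succ]
    simp only [Matrix.mul_assoc]
    rw [Matrix.nonsing_inv_mul_cancel_left _ _ hP]

theorem Bin.conj {ι : Type*} [Fintype ι] [DecidableEq ι] {x x' P : Matrix ι ι K} (hP : P.det ≠ 0)
    (h : x * P = P * x') (hb : Bin x') : Bin x := by
  obtain ⟨A, hA, a, b, ha, hb⟩ := hb
  have hu : IsUnit P.det := isUnit_iff_ne_zero.2 hP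
  refine ⟨P * A * P⁻¹, ?_, a, b, ?_, ?_⟩
  · rw [det_conj ((Matrix.isUnit_iff_isUnit_det P).2 hu), hA]
  · rw [conj_pow' hu, ha, Matrix.mul_smul, mul_one, Matrix.smul_mul, Matrix.mul_nonsing_inv _ hu]
  · rw [show x * (P * A * P⁻¹) = P * (x' * A) * P⁻¹ by simp only [← Matrix.mul_assoc]; rw [h], conj_pow' hu, hb,
      Matrix.mul_smul, mul_one, Matrix.smul_mul, Matrix.mul_nonsing_inv _ hu]

theorem Bin.of_reindex {ι ι' : Type*} [Fintype ι] [DecidableEq ι] [Fintype ι'] [DecidableEq ι'] (e : ι ≃ ι')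
    {x : Matrix ι ι K} (hb : Bin x) : Bin (Matrix.reindexAlgEquiv K K e x) := by
  obtain ⟨A, hA, a, b, ha, hb⟩ := hb
  refine ⟨Matrix.reindexAlgEquiv K K e A, ?_, a, b, ?_, ?_⟩
  · rw [Matrix.reindexAlgEquiv_apply, Matrix.det_reindex_self, hA]
  · rw [← Fintype.card_congr e, ← map_pow, ha, map_smul, map_one]
  · rw [← Fintype.card_congr e, ← map_mul, ← map_pow, hb, map_smul, map_one]

/-- A scalar is a product of conjugates. -/
theorem prd_scalar_of_bin {x : Matrix (Fin n) (Fin n) K} (hb : Bin x) :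
    ∃ c : K, Prd (fun k => Cd 1 k x) n (c • 1) := by
  obtain ⟨A, hA, a, b, ha, hb⟩ := hb
  rw [Fintype.card_fin] at ha hb
  have hd : ∀ j : ℕ, (A ^ j).det = 1 := fun j => by rw [det_pow, hA, one_pow]
  have hu : ∀ j : ℕ, IsUnit (A ^ j).det := fun j => by rw [hd]; exact isUnit_one
  have hp : ∀ j : ℕ, Prd (fun k => Cd 1 k x) j ((x * A) ^ j * (A ^ j)⁻¹) := by
    intro j
    induction j with
    | zero => exact ⟨[], rfl, by simp, by simp⟩
    | succ j ih =>
      have h1 : Cd 1 (A ^ j * x * (A ^ j)⁻¹) x := by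
        have := Cd.conj (show (A ^ j).det ≠ 0 by rw [hd]; exact one_ne_zero) x
        rwa [hd] at this
      have e : (x * A) ^ (j + 1) * (A ^ (j + 1))⁻¹ = (x * A) ^ j * (A ^ j)⁻¹ * (A ^ j * x * (A ^ j)⁻¹) := by
        rw [pow_succ, pow_succ', Matrix.mul_inv_rev]
        simp only [Matrix.mul_assoc]
        rw [Matrix.nonsing_inv_mul_cancel_left _ _ (hu j)]
        congr 2
        rw [← Matrix.mul_inv_rev, ← pow_succ', pow_succ, Matrix.mul_inv_rev,
          Matrix.mul_nonsing_inv_cancel_left _ _ (by rw [hA]; exact isUnit_one)]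
      rw [e]
      exact ih.mul (Prd.one h1)
  have := hp n
  rw [hb, ha] at this
  by_cases ha0 : a = 0
  · rcases Nat.eq_zero_or_pos n with rfl | hn
    · exact ⟨1, ⟨[], rfl, by simp, by simp⟩⟩
    · have : Nonempty (Fin n) := ⟨⟨0, hn⟩⟩
      have h := hd n
      rw [ha, ha0, zero_smul, det_zero] at h
      exact absurd h zero_ne_one
  · refine ⟨b * a⁻¹, ?_⟩
    rwa [Matrix.inv_eq_right_inv (show (a • (1 : Matrix (Fin n) (Fin n) K)) * (a⁻¹ • 1) = 1 by
      rw [Matrix.smul_mul, one_mul, smul_smul, mul_inv_cancel₀ ha0, one_smul]), Matrix.smul_mul, one_mul,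
      smul_smul] at this

/-! ## The vector `adj (X - Z) v` -/

/-- The adjugate of the characteristic matrix applied to a constant vector. -/
noncomputable def adv {ι : Type*} [Fintype ι] [DecidableEq ι] (Z : Matrix ι ι K) (v : ι → K) : ι → K[X] :=
  (charmatrix Z).adjugate *ᵥ fun i => C (v i)

theorem charmatrix_mul_adv {ι : Type*} [Fintype ι] [DecidableEq ι] (Z : Matrix ι ι K) (v : ι → K) :
    charmatrix Z *ᵥ adv Z v = Z.charpoly • fun i => C (v i) := by
  rw [adv, mulVec_mulVec, Matrix.mul_adjugate, smul_mulVec, one_mulVec]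
  rfl

theorem charmatrix_mulVec {ι : Type*} [Fintype ι] [DecidableEq ι] (Z : Matrix ι ι K) (w : ι → K[X]) :
    charmatrix Z *ᵥ w = (X : K[X]) • w - Z.map C *ᵥ w := by
  rw [charmatrix, sub_mulVec]
  congr 1
  funext i
  simp [Matrix.scalar_apply, mulVec_diagonal]

theorem X_smul_adv {ι : Type*} [Fintype ι] [DecidableEq ι] (Z : Matrix ι ι K) (v : ι → K) :
    (X : K[X]) • adv Z v = Z.charpoly • (fun i => C (v i)) + Z.map C *ᵥ adv Z v := by
  rw [← charmatrix_mul_adv, charmatrix_mulVec, sub_add_cancel]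

/-- The coefficient vectors. -/
noncomputable def advc {ι : Type*} [Fintype ι] [DecidableEq ι] (Z : Matrix ι ι K) (v : ι → K) (j : ℕ) : ι → K :=
  fun i => (adv Z v i).coeff j

theorem advc_succ {ι : Type*} [Fintype ι] [DecidableEq ι] (Z : Matrix ι ι K) (v : ι → K) (j : ℕ) :
    advc Z v j = Z *ᵥ advc Z v (j + 1) + Z.charpoly.coeff (j + 1) • v := by
  funext i
  have h := congrArg (fun p : K[X] => p.coeff (j + 1)) (congrFun (X_smul_adv Z v) i)
  simp only [Pi.smul_apply, Pi.add_apply, smul_eq_mul, coeff_X_mul, coeff_add, coeff_mul_C, mulVec, dotProduct,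
    Matrix.map_apply, finsetSum_coeff, coeff_C_mul] at h
  simp only [advc, Pi.add_apply, Pi.smul_apply, smul_eq_mul, mulVec, dotProduct]
  rw [h, add_comm]

theorem advc_zero {ι : Type*} [Fintype ι] [DecidableEq ι] (Z : Matrix ι ι K) (v : ι → K) :
    Z *ᵥ advc Z v 0 = -(Z.charpoly.coeff 0 • v) := by
  funext i
  have h := congrArg (fun p : K[X] => p.coeff 0) (congrFun (X_smul_adv Z v) i)
  simp only [Pi.smul_apply, Pi.add_apply, smul_eq_mul, coeff_X_mul_zero, coeff_add, coeff_mul_C, mulVec, dotProduct,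
    Matrix.map_apply, finsetSum_coeff, coeff_C_mul] at h
  simp only [advc, Pi.neg_apply, Pi.smul_apply, smul_eq_mul, mulVec, dotProduct]
  linear_combination -h

theorem advc_high (Z : Matrix (Fin n) (Fin n) K) (v : Fin n → K) {j : ℕ} (hj : n ≤ j) : advc Z v j = 0 := by
  obtain ⟨N, hN⟩ : ∃ N, ∀ i, (adv Z v i).natDegree < N :=
    ⟨(∑ i, (adv Z v i).natDegree) + 1, fun i =>
      Nat.lt_succ_of_le (Finset.single_le_sum (f := fun i => (adv Z v i).natDegree) (fun _ _ => Nat.zero_le _)
        (Finset.mem_univ i))⟩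
  have h : ∀ l j, n ≤ j → N ≤ j + l → advc Z v j = 0 := by
    intro l
    induction l with
    | zero => exact fun j _ hl => funext fun i => coeff_eq_zero_of_natDegree_lt ((hN i).trans_le (by omega))
    | succ l ih =>
      intro j hj hl
      rw [advc_succ, ih (j + 1) (by omega) (by omega), mulVec_zero, zero_add,
        coeff_eq_zero_of_natDegree_lt (by rw [charpoly_natDegree_eq_dim, Fintype.card_fin]; omega), zero_smul]
  exact h N j hj (by omega)

theorem advc_top (Z : Matrix (Fin (n + 1)) (Fin (n + 1)) K) (v : Fin (n + 1) → K) : advc Z v n = v := by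
  rw [advc_succ, advc_high Z v le_rfl, mulVec_zero, zero_add]
  have h := (charpoly_monic Z).coeff_natDegree
  rw [charpoly_natDegree_eq_dim, Fintype.card_fin] at h
  rw [h, one_smul]

theorem adv_natDegree (Z : Matrix (Fin (n + 1)) (Fin (n + 1)) K) (v : Fin (n + 1) → K) (i : Fin (n + 1)) :
    (adv Z v i).natDegree ≤ n :=
  natDegree_le_iff_coeff_eq_zero.2 fun j hj => congrFun (advc_high Z v (show n + 1 ≤ j by omega)) i

theorem gen_annihilator {Z : Matrix (Fin (n + 1)) (Fin (n + 1)) K} {v ψ : Fin (n + 1) → K} (hv : Gen Z v)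
    (hψ : ∀ j, ψ ⬝ᵥ advc Z v j = 0) : ψ = 0 := by
  let V := Submodule.span K (Set.range (advc Z v))
  have hmem : ∀ j, advc Z v j ∈ V := fun j => Submodule.subset_span ⟨j, rfl⟩
  have hvV : v ∈ V := by
    have := hmem n
    rwa [advc_top] at this
  have hstep : ∀ j, Z *ᵥ advc Z v j ∈ V := by
    intro j
    rcases j with _ | j
    · rw [advc_zero]; exact V.neg_mem (V.smul_mem _ hvV)
    · rw [show Z *ᵥ advc Z v (j + 1) = advc Z v j - Z.charpoly.coeff (j + 1) • v from
        eq_sub_of_add_eq (advc_succ Z v j).symm]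
      exact V.sub_mem (hmem j) (V.smul_mem _ hvV)
  have hle : V ≤ V.comap Z.mulVecLin := by
    refine Submodule.span_le.2 ?_
    rintro _ ⟨j, rfl⟩
    exact hstep j
  have hall : ∀ l : ℕ, Z ^ l *ᵥ v ∈ V := by
    intro l
    induction l with
    | zero => simpa using hvV
    | succ l ih => rw [pow_succ', ← mulVec_mulVec]; exact hle ih
  refine hv ψ fun l => ?_
  have : ∀ u ∈ V, ψ ⬝ᵥ u = 0 := fun u hu => by
    induction hu using Submodule.span_induction with
    | mem u hu => obtain ⟨j, rfl⟩ := hu; exact hψ j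
    | zero => simp
    | add u w _ _ h1 h2 => rw [dotProduct_add, h1, h2, add_zero]
    | smul c u _ h1 => rw [dotProduct_smul, h1, smul_zero]
  exact this _ (hall l)

/-- The entries of `adj (X - Z) v` span the polynomials of degree below the dimension. -/
theorem adv_span {Z : Matrix (Fin (n + 1)) (Fin (n + 1)) K} {v : Fin (n + 1) → K} (hv : Gen Z v) {i : ℕ}
    (hi : i ≤ n) : ∃ ψ : Fin (n + 1) → K, (fun l => C (ψ l)) ⬝ᵥ adv Z v = X ^ i := by
  let f : (Fin (n + 1) → K) →ₗ[K] (Fin (n + 1) → K) :=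
    { toFun := fun ψ j => ψ ⬝ᵥ advc Z v j.val
      map_add' := fun ψ φ => funext fun j => add_dotProduct _ _ _
      map_smul' := fun c ψ => funext fun j => smul_dotProduct _ _ _ }
  have hinj : Function.Injective f := by
    refine (injective_iff_map_eq_zero f).2 fun ψ hψ => gen_annihilator hv fun j => ?_
    rcases Nat.lt_or_ge j (n + 1) with h | h
    · exact congrFun hψ ⟨j, h⟩
    · rw [advc_high Z v h, dotProduct_zero]
  obtain ⟨ψ, hψ⟩ := (LinearMap.injective_iff_surjective.1 hinj) (Pi.single ⟨i, by omega⟩ 1)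
  refine ⟨ψ, Polynomial.ext fun j => ?_⟩
  have e : ((fun l => C (ψ l)) ⬝ᵥ adv Z v).coeff j = ψ ⬝ᵥ advc Z v j := by
    simp [dotProduct, finsetSum_coeff, advc]
  rw [e, coeff_X_pow]
  rcases Nat.lt_or_ge j (n + 1) with h | h
  · have := congrFun hψ ⟨j, h⟩
    simp only [f, LinearMap.coe_mk, AddHom.coe_mk, Pi.single_apply, Fin.ext_iff] at this
    exact this
  · rw [advc_high Z v h, dotProduct_zero, if_neg (by omega)]

/-! ## The characteristic polynomial -/

theorem map_vecMulVec_single {ι ι' : Type*} [DecidableEq ι'] (a : ι → K) (j : ι') :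
    (vecMulVec a (Pi.single j 1)).map C = vecMulVec (fun i => C (a i)) (Pi.single j 1) := by
  ext i i'
  by_cases h : i' = j <;> simp [vecMulVec_apply, h]

theorem vecMulVec_single_scale {ι ι' : Type*} [Fintype ι'] [DecidableEq ι'] (a : ι → K[X]) (l : ι') (χ : K[X]) :
    vecMulVec a (Pi.single l 1) * diagonal (Function.update 1 l χ) = vecMulVec (χ • a) (Pi.single l 1) := by
  ext i j
  rw [mul_diagonal, vecMulVec_apply, vecMulVec_apply]
  by_cases hj : j = l
  · subst hj; simp [mul_comm]
  · simp [hj]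

theorem block_charpoly {κ μ : Type*} [Fintype κ] [DecidableEq κ] [Fintype μ] [DecidableEq μ]
    (P : Matrix κ κ K) (Z : Matrix μ μ K) (c : κ → K) (Q : Matrix κ μ K) (v : μ → K) (l : κ) :
    (fromBlocks (P + vecMulVec c (Pi.single l 1)) Q (vecMulVec v (Pi.single l 1)) Z).charpoly =
      P.charpoly * Z.charpoly -
        adv Pᵀ (Pi.single l 1) ⬝ᵥ (Z.charpoly • (fun i => C (c i)) + Q.map C *ᵥ adv Z v) := by
  classical
  set χ := Z.charpoly with hχ
  set w := adv Z v with hw
  set u : κ → K[X] := χ • (fun i => C (c i)) + Q.map C *ᵥ w with hu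
  set E : Matrix (κ ⊕ μ) (κ ⊕ μ) K[X] :=
    fromBlocks (diagonal (Function.update 1 l χ)) 0 (vecMulVec w (Pi.single l 1)) 1 with hE
  have hEd : E.det = χ := by
    rw [hE, det_fromBlocks_zero₁₂, det_diagonal, Finset.prod_update_of_mem (Finset.mem_univ l), det_one]
    simp
  have hprod : charmatrix (fromBlocks (P + vecMulVec c (Pi.single l 1)) Q (vecMulVec v (Pi.single l 1)) Z) * E =
      fromBlocks ((charmatrix P).updateCol l (χ • (fun i => charmatrix P i l) - u)) (-(Q.map C)) 0 (charmatrix Z) := by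
    rw [charmatrix_fromBlocks, hE, fromBlocks_multiply]
    congr 1
    · rw [show charmatrix (P + vecMulVec c (Pi.single l 1)) =
          charmatrix P - vecMulVec (fun i => C (c i)) (Pi.single l 1) by
        rw [charmatrix, charmatrix, map_add, RingHom.mapMatrix_apply, RingHom.mapMatrix_apply, map_vecMulVec_single,
          sub_add_eq_sub_sub]]
      rw [Matrix.sub_mul, vecMulVec_single_scale, Matrix.neg_mul, Matrix.mul_vecMulVec]
      ext i j
      rw [updateCol_apply]
      by_cases hj : j = l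
      · subst hj
        simp [vecMulVec_apply, hu]
        ring
      · simp [vecMulVec_apply, hj]
    · simp
    · rw [map_vecMulVec_single, Matrix.neg_mul, vecMulVec_single_scale, Matrix.mul_vecMulVec, hw, charmatrix_mul_adv, hχ]
      exact neg_add_cancel _
    · simp
  have h := congrArg Matrix.det hprod
  rw [det_mul, hEd, det_fromBlocks_zero₂₁, ← cramer_apply, cramer_eq_adjugate_mulVec] at h
  have hadj : ∀ a : κ → K[X], ((charmatrix P).adjugate *ᵥ a) l = adv Pᵀ (Pi.single l 1) ⬝ᵥ a := by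
    intro a
    have hrow : adv Pᵀ (Pi.single l 1) = fun i => (charmatrix P).adjugate l i := by
      rw [adv, show (fun i => C ((Pi.single l 1 : κ → K) i)) = (Pi.single l 1 : κ → K[X]) from
        funext fun i => by by_cases hi : i = l <;> simp [hi], charmatrix_transpose, ← adjugate_transpose,
        mulVec_single_one]
      rfl
    rw [hrow]; rfl
  have hcol : ((charmatrix P).adjugate *ᵥ fun i => charmatrix P i l) l = P.charpoly := by
    show ((charmatrix P).adjugate * charmatrix P) l l = P.charpoly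
    rw [Matrix.adjugate_mul]
    simp [Matrix.charpoly]
  rw [mulVec_sub, mulVec_smul, Pi.sub_apply, Pi.smul_apply, hcol, hadj, smul_eq_mul] at h
  change _ * χ = _ * χ at h
  rw [mul_comm χ P.charpoly] at h
  exact mul_right_cancel₀ (charpoly_monic Z).ne_zero h

/-! ## The shift -/

/-- The lower shift. -/
def shft (K : Type*) [Field K] (m : ℕ) : Matrix (Fin (m + 1)) (Fin (m + 1)) K :=
  Matrix.of fun i j => if i.val = j.val + 1 then 1 else 0

theorem shft_mul_zero (B : Matrix (Fin (m + 1)) (Fin (m + 1)) K) (j : Fin (m + 1)) : (shft K m * B) 0 j = 0 := by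
  simp [Matrix.mul_apply, shft]

theorem shft_mul_succ (B : Matrix (Fin (m + 1)) (Fin (m + 1)) K) (i : Fin m) (j : Fin (m + 1)) :
    (shft K m * B) i.succ j = B i.castSucc j := by
  rw [Matrix.mul_apply, Finset.sum_eq_single i.castSucc]
  · simp [shft]
  · intro b _ hb
    have : b.val ≠ i.val := fun h => hb (Fin.ext h)
    simp [shft, this.symm]
  · simp

theorem mul_shft_castSucc (B : Matrix (Fin (m + 1)) (Fin (m + 1)) K) (i : Fin (m + 1)) (j : Fin m) :
    (B * shft K m) i j.castSucc = B i j.succ := by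
  rw [Matrix.mul_apply, Finset.sum_eq_single j.succ]
  · simp [shft]
  · intro b _ hb
    have : b.val ≠ j.val + 1 := fun h => hb (Fin.ext (by simpa using h))
    simp [shft, this]
  · simp

theorem shft_pow_ev : ∀ (l : ℕ) (hl : l ≤ m), shft K m ^ l *ᵥ ev 0 = (ev ⟨l, by omega⟩ : Fin (m + 1) → K) := by
  intro l
  induction l with
  | zero => intro _; rw [pow_zero, one_mulVec]; rfl
  | succ l ih =>
    intro hl
    rw [pow_succ', ← mulVec_mulVec, ih (by omega), ev, ev, mulVec_single_one]
    funext i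
    simp [shft, Pi.single_apply, Fin.ext_iff]

theorem shft_rev : (shft K m).submatrix Fin.revPerm Fin.revPerm = (shft K m)ᵀ := by
  ext i j
  have : (Fin.rev i).val = (Fin.rev j).val + 1 ↔ j.val = i.val + 1 := by
    simp only [Fin.val_rev]; omega
  simp only [submatrix_apply, Fin.revPerm_apply, transpose_apply, shft, of_apply, this]

theorem shft_charpoly : (shft K m).charpoly = X ^ (m + 1) := by
  rw [← charpoly_transpose, charpoly_of_isUpperTriangular]
  · simp [shft]
  · intro i j h
    have : j.val < i.val := h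
    simp only [transpose_apply, shft, of_apply]
    rw [if_neg (by omega)]

theorem comp_X_pow : comp (m := m) ((X : K[X]) ^ (m + 1)) = shft K m := by
  ext i j
  simp only [comp, of_apply, shft, coeff_X_pow]
  have := i.isLt
  split_ifs <;> first | omega | simp

/-- `B` lower triangular: the shift times `B` is generated by the first vector. -/
theorem gen_shft_lower {B : Matrix (Fin (m + 1)) (Fin (m + 1)) K} (hB : ∀ i j, i < j → B i j = 0)
    (hd : ∀ i, B i i ≠ 0) : Gen (shft K m * B) (ev 0) := by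
  have hk : ∀ (l : ℕ), (∀ i : Fin (m + 1), i.val < l → ((shft K m * B) ^ l *ᵥ ev 0) i = 0) ∧
      ∀ hl : l < m + 1, ((shft K m * B) ^ l *ᵥ ev 0) ⟨l, hl⟩ ≠ 0 := by
    intro l
    induction l with
    | zero => exact ⟨fun i hi => absurd hi (Nat.not_lt_zero _), fun hl => by simp [ev]⟩
    | succ l ih =>
      refine ⟨fun i => ?_, fun hl => ?_⟩
      · refine Fin.cases (fun _ => ?_) (fun i hi => ?_) i
        · rw [pow_succ', ← mulVec_mulVec, mulVec, dotProduct]
          simp [shft_mul_zero]
        · rw [pow_succ', ← mulVec_mulVec, mulVec, dotProduct]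
          refine Finset.sum_eq_zero fun b _ => ?_
          rw [shft_mul_succ]
          simp only [Fin.val_succ] at hi
          rcases Nat.lt_or_ge b.val l with hb | hb
          · rw [ih.1 b hb, mul_zero]
          · rw [hB _ _ (Fin.lt_def.2 (by simp; omega)), zero_mul]
      · have e : (⟨l + 1, hl⟩ : Fin (m + 1)) = (⟨l, by omega⟩ : Fin m).succ := rfl
        rw [pow_succ', ← mulVec_mulVec, mulVec, dotProduct, e, Finset.sum_eq_single ⟨l, by omega⟩]
        · rw [shft_mul_succ]
          exact mul_ne_zero (hd _) (ih.2 _)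
        · intro b _ hb
          rw [shft_mul_succ]
          rcases Nat.lt_or_ge b.val l with hb' | hb'
          · rw [ih.1 b hb', mul_zero]
          · have : b.val ≠ l := fun h => hb (Fin.ext h)
            rw [hB _ _ (Fin.lt_def.2 (by simp; omega)), zero_mul]
        · simp
  intro f hf
  by_contra hne
  obtain ⟨i₀, hi₀, hmax⟩ : ∃ i₀, f i₀ ≠ 0 ∧ ∀ i, i₀ < i → f i = 0 := by
    classical
    have hs : (Finset.univ.filter fun i => f i ≠ 0).Nonempty := by
      obtain ⟨i, hi⟩ := Function.ne_iff.1 hne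
      exact ⟨i, by simpa using hi⟩
    refine ⟨_, (Finset.mem_filter.1 (Finset.max'_mem _ hs)).2, fun i hi => ?_⟩
    by_contra h
    exact absurd (Finset.le_max' _ i (by simpa using h)) (not_le.2 hi)
  have h := hf i₀.val
  rw [dotProduct, Finset.sum_eq_single i₀] at h
  · exact mul_ne_zero hi₀ ((hk i₀.val).2 i₀.isLt) h
  · intro b _ hb
    rcases lt_or_gt_of_ne hb with hlt | hgt
    · rw [(hk i₀.val).1 b hlt, mul_zero]
    · rw [hmax b hgt, zero_mul]
  · simp

theorem Gen.smul_vec {A : Matrix (Fin n) (Fin n) K} {v : Fin n → K} (hv : Gen A v) {c : K} (hc : c ≠ 0) :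
    Gen A (c • v) := fun f hf => hv f fun l => by
  have := hf l
  rw [mulVec_smul, dotProduct_smul, smul_eq_mul] at this
  exact (mul_eq_zero.1 this).resolve_left hc

theorem exists_lu_form {Y : Matrix (Fin (m + 1)) (Fin (m + 1)) K} (hY : Y.det ≠ 0) :
    ∃ P L U : Matrix (Fin (m + 1)) (Fin (m + 1)) K, P.det ≠ 0 ∧ Y * P = P * (L * U) ∧ (∀ i j, i < j → L i j = 0) ∧
      (∀ i j, j < i → U i j = 0) ∧ (∀ i, L i i ≠ 0) ∧ ∀ i, U i i ≠ 0 := by
  by_cases hs : 2 ≤ m + 1 → NonScalar Y
  · obtain ⟨P, L, U, hP, hYP, hL, hU, hLd, hUd⟩ :=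
      exists_lu Y (Function.update 1 0 Y.det) 1 hs (by
        rw [Finset.prod_update_of_mem (Finset.mem_univ (0 : Fin (m + 1)))]; simp)
        (fun i => by by_cases h : i = 0 <;> simp [h, hY]) (fun i => one_ne_zero)
    refine ⟨P, L, U, hP, hYP, hL, hU, fun i => ?_, fun i => by rw [hUd]; exact one_ne_zero⟩
    rw [hLd]
    by_cases h : i = 0 <;> simp [h, hY]
  · obtain ⟨-, hs'⟩ := Classical.not_imp.1 hs
    obtain ⟨t, rfl⟩ := not_not.1 hs'
    have ht : t ≠ 0 := fun h => hY (by simp [h])
    exact ⟨1, t • 1, 1, by simp, by simp, fun i j h => by simp [h.ne], fun i j h => Matrix.one_apply_ne h.ne',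
      fun i => by simp [ht], fun i => by simp⟩

/-- A basis in which `Y` times the shift is generated by the image of the first vector. -/
theorem exists_chain {Y : Matrix (Fin (m + 1)) (Fin (m + 1)) K} (hY : Y.det ≠ 0) :
    ∃ Y', Sim Y Y' ∧ Gen (Y' * shft K m) (Y' *ᵥ ev 0) := by
  obtain ⟨P, L, U, hP, hYP, hL, hU, hLd, hUd⟩ := exists_lu_form hY
  have hLdet : L.det ≠ 0 := by
    rw [← det_transpose, det_of_isUpperTriangular (M := Lᵀ) fun i j h => hL j i h]
    exact Finset.prod_ne_zero_iff.2 fun i _ => by rw [transpose_apply]; exact hLd i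
  have hLu := isUnit_of hLdet
  haveI := Matrix.invertibleOfIsUnitDet L hLu
  have hLi : ∀ i j, i < j → L⁻¹ i j = 0 := fun i j h =>
    blockTriangular_inv_of_blockTriangular (b := OrderDual.toDual) (fun i j h => hL i j h) h
  have hLid : ∀ i, L⁻¹ i i ≠ 0 := by
    intro i h0
    have h := congrFun (congrFun (Matrix.mul_nonsing_inv L hLu) i) i
    rw [Matrix.mul_apply, Finset.sum_eq_single i, h0, mul_zero, Matrix.one_apply_eq] at h
    · exact zero_ne_one h
    · intro b _ hb
      rcases lt_or_gt_of_ne hb with h' | h'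
      · rw [hLi _ _ h', mul_zero]
      · rw [hL _ _ h', zero_mul]
    · simp
  set A₁ := shft K m * L⁻¹ with hA₁
  have hgen : Gen A₁ (ev 0) := gen_shft_lower hLi hLid
  have hχ : A₁.charpoly = X ^ (m + 1) := by
    rw [← charpoly_transpose, charpoly_of_isUpperTriangular]
    · simp only [transpose_apply]
      rw [Finset.prod_congr rfl fun i _ => show (X : K[X]) - C (A₁ i i) = X from ?_]
      · simp
      refine Fin.cases ?_ (fun i => ?_) i
      · rw [hA₁, shft_mul_zero]; simp
      · rw [hA₁, shft_mul_succ, hLi _ _ (Fin.castSucc_lt_succ (i := i))]; simp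
    · intro i j h
      have hji : j < i := h
      rw [transpose_apply, hA₁]
      revert hji
      refine Fin.cases (fun _ => shft_mul_zero _ _) (fun j hji => ?_) j
      rw [shft_mul_succ]
      exact hLi _ _ (lt_trans (Fin.castSucc_lt_succ (i := j)) hji)
  set Q := kry A₁ (ev 0) with hQ
  have hQd : Q.det ≠ 0 := det_kry_of_gen hgen
  have hQu := isUnit_of hQd
  have hAQ : A₁ * Q = Q * shft K m := by rw [hQ, mul_kry_comp, hχ, comp_X_pow]
  set Y₁ := L * U with hY₁
  refine ⟨Q⁻¹ * Y₁ * Q, (sim_of hP hYP).trans (sim_of hQd (by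
    rw [Matrix.mul_assoc Q⁻¹, Matrix.mul_nonsing_inv_cancel_left _ _ hQu])), ?_⟩
  have hmain : Gen (Y₁ * A₁) (Y₁ *ᵥ ev 0) := by
    have h1 : Gen (U * shft K m) (U 0 0 • ev 0) := by
      refine Gen.smul_vec (gen_of_det_kry (Hess.det_kry fun i j => ⟨fun h => ?_, fun h => ?_⟩)) (hUd 0)
      · rcases eq_or_ne j (Fin.last m) with rfl | hj
        · simp at h; omega
        · obtain ⟨j, rfl⟩ := Fin.exists_castSucc_eq.2 hj
          rw [mul_shft_castSucc, hU _ _ (Fin.lt_def.2 (by simpa using h))]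
      · obtain ⟨j, rfl⟩ := Fin.exists_castSucc_eq.2 (show j ≠ Fin.last m by
          intro e; subst e; simp at h; omega)
        obtain rfl : i = j.succ := Fin.ext (by simpa using h)
        rw [mul_shft_castSucc]
        exact hUd _
    have h2 := h1.of_sim (P := L) (A := Y₁ * A₁) hLdet (by
      rw [hY₁, hA₁]; simp only [Matrix.mul_assoc]; rw [Matrix.nonsing_inv_mul _ hLu, mul_one])
    rwa [show U 0 0 • (ev 0 : Fin (m + 1) → K) = U *ᵥ ev 0 from funext fun i => by
      refine Fin.cases ?_ (fun i => ?_) i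
      · simp [ev]
      · simp [ev, hU _ _ (Fin.succ_pos i), Fin.succ_ne_zero], mulVec_mulVec, ← hY₁] at h2
  have h3 := hmain.of_sim (P := Q⁻¹) (A := Q⁻¹ * Y₁ * Q * shft K m)
    (by rw [det_nonsing_inv, Ring.inverse_eq_inv]; exact inv_ne_zero hQd) (by
      simp only [Matrix.mul_assoc]
      rw [show Q * (shft K m * Q⁻¹) = A₁ by
        rw [← Matrix.mul_assoc, ← hAQ, Matrix.mul_nonsing_inv_cancel_right _ _ hQu]])
  rw [← mulVec_mulVec, show Q *ᵥ (ev 0 : Fin (m + 1) → K) = ev 0 by
    rw [hQ, ev, mulVec_single_one]; funext i; simp [kry, ev, Matrix.one_apply, Pi.single_apply], ← mulVec_mulVec]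
  exact h3

theorem Gen.submatrix_rev {A : Matrix (Fin n) (Fin n) K} {v : Fin n → K} (hv : Gen A v) :
    Gen (A.submatrix Fin.revPerm Fin.revPerm) (v ∘ Fin.revPerm) := by
  intro f hf
  have hp : ∀ l : ℕ, (A.submatrix Fin.revPerm Fin.revPerm) ^ l = (A ^ l).submatrix Fin.revPerm Fin.revPerm := by
    intro l
    induction l with
    | zero => simp [Matrix.submatrix_one_equiv]
    | succ l ih => rw [pow_succ, ih, pow_succ, Matrix.submatrix_mul_equiv]
  have h : (f ∘ Fin.revPerm.symm) = 0 := hv _ fun l => by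
    have := hf l
    rw [hp, Matrix.submatrix_mulVec_equiv] at this
    rw [comp_equiv_symm_dotProduct]
    simpa [Function.comp_def] using this
  funext i
  simpa using congrFun h (Fin.revPerm i)

/-- The mirror image of `exists_chain`. -/
theorem exists_cochain {D : Matrix (Fin (k + 1)) (Fin (k + 1)) K} (hD : D.det ≠ 0) :
    ∃ D', Sim D D' ∧ Gen (D' * shft K k)ᵀ (ev (Fin.last k)) := by
  obtain ⟨E, hDE, hE⟩ := exists_chain (Y := Dᵀ) (by rwa [det_transpose])
  have hEd : E.det ≠ 0 := by rw [← hDE.det_eq, det_transpose]; exact hD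
  have hEu := isUnit_of hEd
  refine ⟨(E.submatrix Fin.revPerm Fin.revPerm)ᵀ, ?_, ?_⟩
  · have hs : Sim Dᵀ (E.submatrix Fin.revPerm Fin.revPerm) := by
      obtain ⟨δ, hδ, P, hd, hP⟩ := hDE
      refine sim_of (P := P.submatrix id Fin.revPerm) ?_ ?_
      · rw [Matrix.det_permute']
        exact mul_ne_zero (by rcases Int.units_eq_one_or (Equiv.Perm.sign (Fin.revPerm : Equiv.Perm (Fin (k + 1)))) with h | h <;> simp [h])
          (hd ▸ hδ)
      · rw [Matrix.submatrix_mul_equiv, ← hP]
        ext i j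
        simp [Matrix.mul_apply]
    simpa using hs.transpose
  · have h1 : Gen (shft K k * E) (ev 0) := by
      have h := hE.of_sim (P := E⁻¹) (A := shft K k * E) (by
        rw [det_nonsing_inv, Ring.inverse_eq_inv]; exact inv_ne_zero hEd) (by
        rw [Matrix.mul_assoc, Matrix.mul_nonsing_inv _ hEu, mul_one, Matrix.nonsing_inv_mul_cancel_left _ _ hEu])
      rwa [mulVec_mulVec, Matrix.nonsing_inv_mul _ hEu, one_mulVec] at h
    have h2 := h1.submatrix_rev
    rw [← Matrix.submatrix_mul_equiv _ _ _ Fin.revPerm, shft_rev] at h2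
    rw [transpose_mul, transpose_transpose]
    convert h2 using 1
    funext i
    simp [ev, Pi.single_apply, Fin.rev_eq_iff]

/-! ## The construction -/

theorem adv_shft_last : adv (shft K m) (ev 0) (Fin.last m) = 1 := by
  have h : ∀ l : ℕ, l ≤ m → advc (shft K m) (ev 0) (m - l) = shft K m ^ l *ᵥ ev 0 := by
    intro l
    induction l with
    | zero => intro _; rw [Nat.sub_zero, advc_top, pow_zero, one_mulVec]
    | succ l ih =>
      intro hl
      rw [advc_succ, show m - (l + 1) + 1 = m - l by omega, ih (by omega), shft_charpoly, coeff_X_pow,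
        if_neg (by omega), zero_smul, add_zero, pow_succ', ← mulVec_mulVec]
  refine Polynomial.ext fun j => ?_
  show advc (shft K m) (ev 0) j (Fin.last m) = _
  rw [coeff_one]
  rcases Nat.lt_or_ge m j with hj | hj
  · rw [advc_high _ _ (show m + 1 ≤ j by omega), if_neg (by omega)]; rfl
  · have := h (m - j) (by omega)
    rw [show m - (m - j) = j by omega, shft_pow_ev _ (by omega)] at this
    rw [this, ev, Pi.single_apply]
    simp only [Fin.ext_iff, Fin.val_last]
    split_ifs <;> first | rfl | omega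

theorem adv_shft_first : adv (shft K m)ᵀ (ev (Fin.last m)) 0 = 1 := by
  have hc : charmatrix (shft K m)ᵀ = (charmatrix (shft K m)).submatrix Fin.revPerm Fin.revPerm := by
    rw [← shft_rev]
    ext i j
    by_cases h : i = j
    · subst h; simp [charmatrix_apply_eq]
    · rw [charmatrix_apply_ne _ _ _ h, submatrix_apply, submatrix_apply,
        charmatrix_apply_ne _ _ _ fun e => h (Fin.revPerm.injective e)]
  have hadj : (charmatrix (shft K m)ᵀ).adjugate = (charmatrix (shft K m)).adjugate.submatrix Fin.revPerm Fin.revPerm := by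
    rw [hc, Matrix.adjugate_submatrix_equiv_self]
  have e1 : ∀ j : Fin (m + 1), (fun i => C ((ev j : Fin (m + 1) → K) i)) = (Pi.single j 1 : Fin (m + 1) → K[X]) :=
    fun j => funext fun i => by by_cases hi : i = j <;> simp [ev, hi]
  have h := adv_shft_last (K := K) (m := m)
  rw [adv, e1, mulVec_single_one] at h ⊢
  rw [hadj]
  simpa using h

/-- The cyclic shift in block form. -/
def cyc (K : Type*) [Field K] (k m : ℕ) (a : K) :
    Matrix (Fin (k + 1) ⊕ Fin (m + 1)) (Fin (k + 1) ⊕ Fin (m + 1)) K :=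
  fromBlocks (shft K k) (a • vecMulVec (ev 0) (ev (Fin.last m))) (vecMulVec (ev 0) (ev (Fin.last k))) (shft K m)

theorem mul_cyc_charpoly (D : Matrix (Fin (k + 1)) (Fin (k + 1)) K) (R : Matrix (Fin (k + 1)) (Fin (m + 1)) K)
    (Y : Matrix (Fin (m + 1)) (Fin (m + 1)) K) (a : K) :
    (fromBlocks D (R * Y) 0 Y * cyc K k m a).charpoly =
      (D * shft K k).charpoly * (Y * shft K m).charpoly -
        C a * (adv (D * shft K k)ᵀ (ev (Fin.last k)) ⬝ᵥ fun i => C ((D *ᵥ ev 0) i)) *
          adv (Y * shft K m) (Y *ᵥ ev 0) (Fin.last m) -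
        X * (adv (D * shft K k)ᵀ (ev (Fin.last k)) ⬝ᵥ (R.map C *ᵥ adv (Y * shft K m) (Y *ᵥ ev 0))) := by
  classical
  rw [cyc, fromBlocks_multiply]
  simp only [Matrix.zero_mul, zero_add, Matrix.mul_smul, Matrix.mul_vecMulVec, ← mulVec_mulVec, Matrix.zero_mulVec,
    zero_vecMulVec, smul_zero, zero_add]
  rw [show (ev (Fin.last k) : Fin (k + 1) → K) = Pi.single (Fin.last k) 1 from rfl, block_charpoly,
    ← show (ev (Fin.last k) : Fin (k + 1) → K) = Pi.single (Fin.last k) 1 from rfl]
  set w := adv (Y * shft K m) (Y *ᵥ ev 0) with hw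
  set g := adv (D * shft K k)ᵀ (ev (Fin.last k))
  set χ := (Y * shft K m).charpoly
  have hy : Y.map C *ᵥ (χ • (fun j => C ((ev 0 : Fin (m + 1) → K) j)) + (shft K m).map C *ᵥ w) = (X : K[X]) • w := by
    rw [mulVec_add, mulVec_smul, mulVec_mulVec, ← Matrix.map_mul, hw, X_smul_adv]
    congr 2
    funext i
    exact (RingHom.map_mulVec C Y (ev 0) i).symm
  have hu : χ • (fun i => C ((R *ᵥ (Y *ᵥ ev 0)) i)) +
      (a • vecMulVec (D *ᵥ ev 0) (ev (Fin.last m)) + R * Y * shft K m).map C *ᵥ w =
      (C a * w (Fin.last m)) • (fun i => C ((D *ᵥ ev 0) i)) + (X : K[X]) • (R.map C *ᵥ w) := by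
    rw [← mulVec_smul, ← hy, Matrix.map_add _ (map_add C), add_mulVec, mulVec_add (Y.map C), mulVec_add (R.map C),
      mulVec_smul, mulVec_smul, Matrix.map_mul, Matrix.map_mul, ← mulVec_mulVec, ← mulVec_mulVec]
    have e1 : (fun i => C ((R *ᵥ (Y *ᵥ ev 0)) i)) =
        R.map C *ᵥ (Y.map C *ᵥ fun j => C ((ev 0 : Fin (m + 1) → K) j)) := by
      funext i
      rw [RingHom.map_mulVec C R,
        show (⇑C ∘ (Y *ᵥ ev 0)) = Y.map C *ᵥ fun j => C ((ev 0 : Fin (m + 1) → K) j) from
          funext fun j => RingHom.map_mulVec C Y (ev 0) j]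
    have e2 : (a • vecMulVec (D *ᵥ ev 0) (ev (Fin.last m))).map C *ᵥ w =
        (C a * w (Fin.last m)) • (fun i => C ((D *ᵥ ev 0) i)) := by
      funext i
      rw [mulVec, dotProduct, Finset.sum_eq_single (Fin.last m)]
      · simp [vecMulVec_apply, ev]; ring
      · intro b _ hb; simp [vecMulVec_apply, ev, hb]
      · simp
    rw [e1, e2]
    abel
  rw [hu, dotProduct_add, dotProduct_smul, dotProduct_smul, smul_eq_mul, smul_eq_mul]
  ring

theorem cyc_charpoly (a : K) : (cyc K k m a).charpoly = X ^ (k + m + 2) - C a := by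
  have h := mul_cyc_charpoly (1 : Matrix (Fin (k + 1)) (Fin (k + 1)) K) (0 : Matrix (Fin (k + 1)) (Fin (m + 1)) K)
    (1 : Matrix (Fin (m + 1)) (Fin (m + 1)) K) a
  rw [Matrix.zero_mul, fromBlocks_one, one_mul, one_mul, one_mul, one_mulVec, one_mulVec] at h
  rw [h, shft_charpoly, shft_charpoly, adv_shft_last,
    show (fun i => C ((ev 0 : Fin (k + 1) → K) i)) = (Pi.single 0 1 : Fin (k + 1) → K[X]) from
      funext fun i => by by_cases hi : i = 0 <;> simp [ev, hi],
    dotProduct_single_one, adv_shft_first, Matrix.map_zero _ (map_zero C), zero_mulVec, dotProduct_zero,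
    ← pow_add, show k + 1 + (m + 1) = k + m + 2 by omega]
  ring

theorem pow_eq_smul_of_charpoly {ι : Type*} [Fintype ι] [DecidableEq ι] {M : Matrix ι ι K} {N : ℕ} {a : K}
    (h : M.charpoly = X ^ N - C a) : M ^ N = a • 1 := by
  have := aeval_self_charpoly M
  rwa [h, map_sub, map_pow, aeval_X, aeval_C, sub_eq_zero, Algebra.algebraMap_eq_smul_one] at this

/-- The pencil: a matrix with two invariant subspaces without a common eigenvalue. -/
theorem bin_fromBlocks {D : Matrix (Fin (k + 1)) (Fin (k + 1)) K} {Y : Matrix (Fin (m + 1)) (Fin (m + 1)) K}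
    (hdet : D.det * Y.det = 1) (hsyl : ∀ R : Matrix (Fin (k + 1)) (Fin (m + 1)) K,
      ∃ Z : Matrix (Fin (k + 1)) (Fin (m + 1)) K, R = D * Z - Z * Y) :
    Bin (fromBlocks D 0 0 Y) := by
  classical
  have hD : D.det ≠ 0 := left_ne_zero_of_mul (hdet ▸ one_ne_zero)
  have hY : Y.det ≠ 0 := right_ne_zero_of_mul (hdet ▸ one_ne_zero)
  obtain ⟨D', hDD, hgD⟩ := exists_cochain hD
  obtain ⟨Y', hYY, hgY⟩ := exists_chain hY
  have hdet' : D'.det * Y'.det = 1 := by rw [← hDD.det_eq, ← hYY.det_eq, hdet]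
  obtain ⟨δ, hδ, P, hPd, hP⟩ := hDD
  obtain ⟨ε, hε, Q, hQd, hQ⟩ := hYY
  have hQu : IsUnit Q.det := isUnit_of (hQd ▸ hε)
  -- the coupling block
  set N := k + m + 2 with hN
  set a : K := (-1) ^ (N + 1) with ha
  have hcard : Fintype.card (Fin (k + 1) ⊕ Fin (m + 1)) = N := by simp [hN]; omega
  set g := adv (D' * shft K k)ᵀ (ev (Fin.last k)) with hg
  set w := adv (Y' * shft K m) (Y' *ᵥ ev 0) with hw
  set base := (D' * shft K k).charpoly * (Y' * shft K m).charpoly -
    C a * (g ⬝ᵥ fun i => C ((D' *ᵥ ev 0) i)) * w (Fin.last m) with hbase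
  have hcyc : (cyc K k m a).det = 1 := by
    rw [det_eq_sign_charpoly_coeff, cyc_charpoly, hcard, coeff_sub, coeff_X_pow, if_neg (by omega), coeff_C_zero,
      zero_sub, ha, pow_succ (-1 : K) N, mul_neg_one, neg_neg, ← mul_pow, neg_mul_neg, one_mul, one_pow]
  let Φ : Matrix (Fin (k + 1)) (Fin (m + 1)) K →ₗ[K] K[X] :=
    { toFun := fun R => g ⬝ᵥ (R.map C *ᵥ w)
      map_add' := fun R R' => by rw [Matrix.map_add _ (map_add C), add_mulVec, dotProduct_add]
      map_smul' := fun c R => by
        rw [RingHom.id_apply, show (c • R).map C = C c • R.map C from by ext i j; simp, smul_mulVec, dotProduct_smul,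
          smul_eq_mul, Polynomial.smul_eq_C_mul] }
  have hmono : ∀ i, i ≤ k + m → (X : K[X]) ^ i ∈ LinearMap.range Φ := by
    intro i hi
    obtain ⟨φ, hφ⟩ := adv_span hgD (i := min i k) (min_le_right _ _)
    obtain ⟨ψ, hψ⟩ := adv_span hgY (i := i - min i k) (by omega)
    refine ⟨vecMulVec φ ψ, ?_⟩
    show g ⬝ᵥ ((vecMulVec φ ψ).map C *ᵥ w) = _
    rw [show (vecMulVec φ ψ).map C = vecMulVec (fun l => C (φ l)) (fun l => C (ψ l)) from
      by ext i j; simp [vecMulVec_apply], vecMulVec_mulVec, hw, hψ, op_smul_eq_smul, dotProduct_smul, dotProduct_comm,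
      hg, hφ, smul_eq_mul, ← pow_add, show i - min i k + min i k = i by omega]
  obtain ⟨R, hR⟩ : ∃ R, base - (X ^ N - C a) = X * Φ R := by
    have hmon : ((D' * shft K k).charpoly * (Y' * shft K m).charpoly).Monic :=
      (charpoly_monic _).mul (charpoly_monic _)
    have hdeg : ((D' * shft K k).charpoly * (Y' * shft K m).charpoly).natDegree = N := by
      rw [(charpoly_monic _).natDegree_mul (charpoly_monic _), charpoly_natDegree_eq_dim, charpoly_natDegree_eq_dim,
        Fintype.card_fin, Fintype.card_fin]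
      omega
    have hsmall : (C a * (g ⬝ᵥ fun i => C ((D' *ᵥ ev 0) i)) * w (Fin.last m)).natDegree ≤ k + m := by
      refine natDegree_mul_le.trans (add_le_add ((natDegree_C_mul_le _ _).trans ?_) (adv_natDegree _ _ _))
      exact natDegree_sum_le_of_forall_le _ _ fun i _ => (natDegree_mul_C_le _ _).trans (adv_natDegree _ _ _)
    have hhigh : ∀ j, N ≤ j → (base - (X ^ N - C a)).coeff j = 0 := by
      intro j hj
      rw [coeff_sub, hbase, coeff_sub, coeff_eq_zero_of_natDegree_lt (p := C a * _ * _) (by omega), sub_zero,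
        coeff_sub, coeff_X_pow, coeff_C, if_neg (show j ≠ 0 by omega), sub_zero]
      rcases eq_or_lt_of_le hj with rfl | hlt
      · rw [if_pos rfl, sub_eq_zero, ← hdeg, hmon.coeff_natDegree]
      · rw [if_neg (by omega), sub_zero, coeff_eq_zero_of_natDegree_lt (by omega)]
    have hzero : (base - (X ^ N - C a)).coeff 0 = 0 := by
      have h := mul_cyc_charpoly D' (0 : Matrix (Fin (k + 1)) (Fin (m + 1)) K) Y' a
      rw [Matrix.map_zero _ (map_zero C), zero_mulVec, dotProduct_zero, mul_zero, sub_zero, Matrix.zero_mul] at h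
      have hd := det_eq_sign_charpoly_coeff (fromBlocks D' 0 0 Y' * cyc K k m a)
      rw [h, ← hbase, det_mul, hcyc, det_fromBlocks_zero₂₁, hdet', mul_one, hcard] at hd
      rw [coeff_sub base, coeff_sub (X ^ N), coeff_X_pow, if_neg (by omega), coeff_C_zero, ha, pow_succ (-1 : K) N]
      have hsq : ((-1 : K) ^ N) * (-1) ^ N = 1 := by rw [← mul_pow, neg_mul_neg, one_mul, one_pow]
      linear_combination (-(-1 : K) ^ N) * hd - base.coeff 0 * hsq
    have hmem : (base - (X ^ N - C a)).divX ∈ LinearMap.range Φ := by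
      have e := as_sum_range' (base - (X ^ N - C a)).divX (k + m + 1) (Nat.lt_succ_of_le
        (natDegree_le_iff_coeff_eq_zero.2 fun j hj => by rw [coeff_divX]; exact hhigh _ (by omega)))
      rw [e]
      refine Submodule.sum_mem _ fun i hi => ?_
      rw [← smul_X_eq_monomial]
      exact Submodule.smul_mem _ _ (hmono i (by simpa using Nat.lt_succ_iff.1 (Finset.mem_range.1 hi)))
    obtain ⟨R, hR⟩ := hmem
    refine ⟨R, ?_⟩
    conv_lhs => rw [← X_mul_divX_add (base - (X ^ N - C a))]
    rw [hzero, map_zero, add_zero, hR]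
  have hchar : (fromBlocks D' (R * Y') 0 Y' * cyc K k m a).charpoly = X ^ N - C a := by
    rw [mul_cyc_charpoly, ← hbase]
    change base - X * Φ R = _
    rw [← hR, sub_sub_cancel]
  have hb : Bin (fromBlocks D' (R * Y') 0 Y') := by
    refine ⟨cyc K k m a, hcyc, a, a, ?_, ?_⟩ <;> rw [hcard]
    · exact pow_eq_smul_of_charpoly (by rw [cyc_charpoly])
    · exact pow_eq_smul_of_charpoly hchar
  -- back to the diagonal form
  obtain ⟨Z, hZ⟩ := hsyl (P * (R * Y') * Q⁻¹)
  refine Bin.conj (x' := fromBlocks D (D * Z - Z * Y) 0 Y) (P := fromBlocks 1 Z 0 1) ?_ ?_ ?_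
  · rw [det_fromBlocks_zero₂₁, det_one, det_one, mul_one]; exact one_ne_zero
  · rw [fromBlocks_multiply, fromBlocks_multiply]
    simp
  refine Bin.conj (x' := fromBlocks D' (R * Y') 0 Y') (P := fromBlocks P 0 0 Q) ?_ ?_ hb
  · rw [det_fromBlocks_zero₂₁, hPd, hQd]; exact mul_ne_zero hδ hε
  · rw [fromBlocks_multiply, fromBlocks_multiply, ← hZ]
    simp only [Matrix.mul_zero, Matrix.zero_mul, add_zero, zero_add, hP, hQ,
      Matrix.nonsing_inv_mul_cancel_right _ _ hQu]

end CfsgLib.Classical.Covering
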