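import Cfsg.Agent.Lib.Classical.Covering.Machine

/-!
# Products of two split cyclic matrices with grouped lists
-/

set_option autoImplicit false

namespace CfsgLib.Classical.Covering

open Matrix Polynomial CfsgLib.Classical.UnipotentGen CfsgLib.Classical.Sourour
open CfsgLib.Classical.RegularUnipotentProduct (Four Wide LowReg UpReg factor)

variable {K : Type*} [Field K] {n m : ℕ}

theorem grouped_inv {d : Fin n → K} (hd : Grouped d) : Grouped fun i => (d i)⁻¹ :=
  fun i j k hij hjk h => by simp only at h ⊢; rw [hd i j k hij hjk (inv_injective h)]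

theorem grouped_const_div {d : Fin n → K} (hd : Grouped d) {κ : K} (hκ : κ ≠ 0) : Grouped fun i => κ / d i :=
  fun i j k hij hjk h => by
    simp only [div_eq_mul_inv] at h ⊢
    rw [hd i j k hij hjk (inv_injective (mul_left_cancel₀ hκ h))]

theorem Reg.inv_sim {d : Fin (m + 1) → K} {U : Matrix (Fin (m + 1)) (Fin (m + 1)) K} (hd : Grouped d)
    (hd0 : ∀ i, d i ≠ 0) (hU : Reg d U) : Sim U⁻¹ (std fun i => (d i)⁻¹) := by
  have hdet : U.det ≠ 0 := by rw [hU.det_eq]; exact Finset.prod_ne_zero_iff.2 fun i _ => hd0 i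
  refine sim_std_of (grouped_inv hd) ((hU.cyclic hd).inv hdet) ?_
  haveI := Matrix.invertibleOfIsUnitDet U (isUnit_of hdet)
  have h1 : BlockTriangular U⁻¹ id := blockTriangular_inv_of_blockTriangular fun i j h => (hU.2 i j).1 h
  rw [charpoly_of_isUpperTriangular _ h1]
  refine Finset.prod_congr rfl fun i _ => ?_
  have h2 : (U * U⁻¹) i i = 1 := by rw [Matrix.mul_nonsing_inv _ (isUnit_of hdet), one_apply_eq]
  rw [Matrix.mul_apply, Finset.sum_eq_single i, hU.1] at h2
  · rw [eq_inv_of_mul_eq_one_right h2]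
  · intro l _ hl
    rcases lt_or_gt_of_ne hl with h | h
    · rw [(hU.2 i l).1 h, zero_mul]
    · rw [h1 (show id i < id l from h), mul_zero]
  · simp

theorem reg_transpose_sim {d : Fin (m + 1) → K} {L : Matrix (Fin (m + 1)) (Fin (m + 1)) K} (hd : Grouped d)
    (hL : Reg d Lᵀ) : Sim L (std d) := by
  have h := (hL.sim_std hd).transpose
  rw [transpose_transpose] at h
  exact h.trans (std_transpose_sim hd)

theorem reg_diag_upper {e : Fin (m + 1) → K} (he : ∀ i, e i ≠ 0) {U : Matrix (Fin (m + 1)) (Fin (m + 1)) K}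
    (hU : UpReg U) : Reg e (diagonal e * U) := by
  refine ⟨fun i => by rw [diagonal_mul, (hU i i).2.1 rfl, mul_one], fun i j => ⟨fun h => ?_, fun h _ => ?_⟩⟩
  · rw [diagonal_mul, (hU i j).1 h, mul_zero]
  · rw [diagonal_mul]; exact mul_ne_zero (he i) ((hU i j).2.2 h)

theorem reg_lower_diag {d : Fin (m + 1) → K} (hd : ∀ i, d i ≠ 0) {L : Matrix (Fin (m + 1)) (Fin (m + 1)) K}
    (hL : LowReg L) : Reg d (L * diagonal d)ᵀ := by
  refine ⟨fun i => by rw [transpose_apply, mul_diagonal, (hL i i).2.1 rfl, one_mul],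
    fun i j => ⟨fun h => ?_, fun h _ => ?_⟩⟩
  · rw [transpose_apply, mul_diagonal, (hL j i).1 h, zero_mul]
  · rw [transpose_apply, mul_diagonal]; exact mul_ne_zero ((hL j i).2.2 h) (hd i)

/-- A matrix with a root of its determinant is a product of two split cyclic ones with prescribed grouped lists. -/
theorem lu_any (h4 : Four K) {g : Matrix (Fin (m + 2)) (Fin (m + 2)) K} {κ : K} (hκ : κ ≠ 0)
    (hdet : g.det = κ ^ (m + 2)) (hg : NonScalar g ∨ g = κ • 1) {d : Fin (m + 2) → K} (hd : Grouped d)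
    (hd0 : ∀ i, d i ≠ 0) :
    ∃ a u : Matrix (Fin (m + 2)) (Fin (m + 2)) K, g = a * u ∧ Sim a (std d) ∧ Sim u (std fun i => κ / d i) := by
  classical
  set g' := κ⁻¹ • g with hg'
  have hgg : g = κ • g' := by rw [hg', smul_smul, mul_inv_cancel₀ hκ, one_smul]
  have hd' : g'.det = 1 := det_smul_inv κ hκ hdet
  by_cases hrk : 2 ≤ (g' - 1).rank
  · have hns : NonScalar g' := by
      rintro ⟨c, hc⟩
      rcases hg with h | h
      · exact h ⟨κ * c, by rw [hgg, hc, smul_smul]⟩
      · rw [hg', h, smul_smul, inv_mul_cancel₀ hκ, one_smul, sub_self, Matrix.rank_zero] at hrk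
        omega
    have hne : (ev 0 : Fin (m + 1 + 1) → K) ≠ 0 := fun h => by simpa [ev] using congrFun h 0
    obtain ⟨Q, L, U, hQ, hSQ, hL, hU, -, -⟩ :=
      factor h4 (m + 1) g' hd' (fun _ => ⟨hns, hrk⟩) (ev 0) (ev 0) hne hne
    have hQu := isUnit_of hQ
    set e : Fin (m + 2) → K := fun i => κ / d i
    have he : ∀ i, e i ≠ 0 := fun i => div_ne_zero hκ (hd0 i)
    have hde : diagonal d * diagonal e = κ • (1 : Matrix (Fin (m + 2)) (Fin (m + 2)) K) := by
      rw [diagonal_mul_diagonal, smul_one_eq_diagonal]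
      congr 1
      funext i
      exact mul_div_cancel₀ κ (hd0 i)
    refine ⟨Q * (L * diagonal d) * Q⁻¹, Q * (diagonal e * U) * Q⁻¹, ?_, ?_, ?_⟩
    · rw [Matrix.mul_assoc (Q * (L * diagonal d)), Matrix.mul_assoc Q (diagonal e * U),
        Matrix.nonsing_inv_mul_cancel_left _ _ hQu, ← Matrix.mul_assoc (Q * (L * diagonal d)),
        Matrix.mul_assoc Q (L * diagonal d), Matrix.mul_assoc L, ← Matrix.mul_assoc (diagonal d), hde,
        Matrix.smul_mul, one_mul, Matrix.mul_smul, Matrix.mul_smul, ← hSQ, Matrix.smul_mul,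
        Matrix.mul_nonsing_inv_cancel_right _ _ hQu, ← hgg]
    · exact (sim_of hQ (by rw [Matrix.nonsing_inv_mul_cancel_right _ _ hQu])).trans
        (reg_transpose_sim hd (reg_lower_diag hd0 hL))
    · exact (sim_of hQ (by rw [Matrix.nonsing_inv_mul_cancel_right _ _ hQu])).trans
        ((reg_diag_upper he hU).sim_std (grouped_const_div hd hκ))
  · obtain ⟨u, φ, hN, -⟩ := exists_vecMulVec_of_rank_le_one (show (g' - 1).rank ≤ 1 by omega)
    obtain ⟨P, e₀, hP, hue⟩ : ∃ (P : Matrix (Fin (m + 2)) (Fin (m + 2)) K) (e₀ : K),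
        P.det ≠ 0 ∧ u = e₀ • (P *ᵥ ev 0) := by
      by_cases h0 : u = 0
      · exact ⟨1, 0, by simp, by simp [h0]⟩
      · obtain ⟨P, hP, hcol⟩ := exists_col h0
        exact ⟨P, 1, hP, by rw [one_smul, ev, mulVec_single_one]; funext i; exact (hcol i).symm⟩
    set ψ : Fin (m + 2) → K := e₀ • (φ ᵥ* P) with hψ
    set S' : Matrix (Fin (m + 2)) (Fin (m + 2)) K := 1 + vecMulVec (ev 0) ψ with hS'
    have hPu := isUnit_of hP
    have hSP : g' * P = P * S' := by
      have hS1 : g' = 1 + vecMulVec u φ := by rw [← hN, add_sub_cancel]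
      rw [hS1, hS', Matrix.add_mul, one_mul, Matrix.mul_add, mul_one, Matrix.vecMulVec_mul, Matrix.mul_vecMulVec,
        hψ, hue, smul_vecMulVec, vecMulVec_smul]
    have hψ0 : ψ 0 = 0 := by
      have h : S'.det = 1 := by
        have h := congrArg Matrix.det hSP
        rw [det_mul, det_mul, hd', one_mul] at h
        exact (mul_eq_left₀ hP).1 h.symm
      rw [hS', det_of_isUpperTriangular] at h
      · rw [Fin.prod_univ_succ, Finset.prod_eq_one fun i _ => ?_] at h
        · simpa [vecMulVec_apply, ev] using h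
        · simp [vecMulVec_apply, ev]
      · intro i j hij
        have h : j < i := hij
        simp [vecMulVec_apply, ev, h.ne', Fin.ne_zero_of_lt h]
    obtain ⟨t, ht0, ht1, -⟩ := h4.fresh 0 (-(ψ 1 * d 1)) 0
    let N : Matrix (Fin (m + 2)) (Fin (m + 2)) K :=
      Matrix.of fun i j => if i = j then d i else if j.val = i.val + 1 then t else 0
    have hNreg : Reg d N := by
      refine ⟨fun i => by simp [N], fun i j => ⟨fun h => ?_, fun h _ => ?_⟩⟩
      · simp only [N, of_apply]; rw [if_neg (fun e => by subst e; omega), if_neg (by omega)]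
      · simp only [N, of_apply]; rw [if_neg (fun e => by subst e; omega), if_pos h]; exact ht0
    have hNd : N.det ≠ 0 := by rw [hNreg.det_eq]; exact Finset.prod_ne_zero_iff.2 fun i _ => hd0 i
    set A' := S' * N with hA'
    have hA'e : ∀ i j, A' i j = N i j + (if i = 0 then (ψ ᵥ* N) j else 0) := fun i j => by
      rw [hA', hS', Matrix.add_mul, one_mul, Matrix.vecMulVec_mul, Matrix.add_apply, vecMulVec_apply, ev,
        Pi.single_apply]
      split_ifs <;> simp
    have hψN : ∀ j : Fin (m + 2), j.val ≤ 1 → (ψ ᵥ* N) j = ψ j * d j := fun j hj => by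
      rw [vecMul, dotProduct, Finset.sum_eq_single j, hNreg.1]
      · intro l _ hl
        rcases eq_or_ne l 0 with rfl | h0
        · rw [hψ0, zero_mul]
        · have : l.val ≠ 0 := fun e => h0 (Fin.ext e)
          rw [(hNreg.2 l j).1 (by have : l.val ≠ j.val := fun e => hl (Fin.ext e); omega), mul_zero]
      · simp
    have hA'reg : Reg d A' := by
      refine ⟨fun i => ?_, fun i j => ⟨fun h => ?_, fun h _ => ?_⟩⟩
      · rw [hA'e, hNreg.1]
        split_ifs with h
        · subst h; rw [hψN 0 (by simp), hψ0, zero_mul, add_zero]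
        · rw [add_zero]
      · rw [hA'e, (hNreg.2 i j).1 h, if_neg (fun e => by subst e; simp at h), add_zero]
      · rw [hA'e, show N i j = t by simp only [N, of_apply]; rw [if_neg (fun e => by subst e; omega), if_pos h]]
        split_ifs with h'
        · subst h'
          obtain rfl : j = 1 := Fin.ext (by simpa using h)
          rw [hψN 1 (by simp)]
          exact fun h' => ht1 (by linear_combination h')
        · rwa [add_zero]
    refine ⟨P * A' * P⁻¹, κ • (P * N⁻¹ * P⁻¹), ?_, ?_, ?_⟩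
    · rw [Matrix.mul_smul, Matrix.mul_assoc (P * A'), Matrix.mul_assoc P N⁻¹,
        Matrix.nonsing_inv_mul_cancel_left _ _ hPu, ← Matrix.mul_assoc (P * A'), Matrix.mul_assoc P A', hA',
        Matrix.mul_nonsing_inv_cancel_right _ _ (isUnit_of hNd), ← hSP,
        Matrix.mul_nonsing_inv_cancel_right _ _ hPu, ← hgg]
    · exact (sim_of hP (by rw [Matrix.nonsing_inv_mul_cancel_right _ _ hPu])).trans (hA'reg.sim_std hd)
    · have h1 : Sim (P * N⁻¹ * P⁻¹) (std fun i => (d i)⁻¹) :=
        (sim_of hP (by rw [Matrix.nonsing_inv_mul_cancel_right _ _ hPu])).trans (hNreg.inv_sim hd hd0)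
      refine (h1.smul κ).trans ?_
      simpa only [div_eq_mul_inv] using smul_std κ hκ (fun i => (d i)⁻¹) (grouped_inv hd)

theorem rootfree_rank {x : Matrix (Fin n) (Fin n) K} (hx : RootFree x) (c : K) : (x - c • 1).rank = n := by
  rw [Matrix.rank_of_isUnit _ ((Matrix.isUnit_iff_isUnit_det _).2 (isUnit_iff_ne_zero.2 (hx c))), Fintype.card_fin]

theorem RootFree.nonScalar {x : Matrix (Fin (m + 1)) (Fin (m + 1)) K} (hx : RootFree x) : NonScalar x := fun ⟨c, hc⟩ =>
  hx c (by rw [hc, sub_self, det_zero])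

theorem RootFree.det_ne_zero {x : Matrix (Fin n) (Fin n) K} (hx : RootFree x) : x.det ≠ 0 := by
  simpa using hx 0

/-- A matrix without eigenvalues as a product of two split cyclic matrices. -/
theorem rootfree_split (h4 : Four K) {x : Matrix (Fin (m + 3 + 1)) (Fin (m + 3 + 1)) K} (hx : RootFree x)
    {d e : Fin (m + 3 + 1) → K} (hd : Grouped d) (he : Grouped e) (hd0 : ∀ i, d i ≠ 0) (he0 : ∀ i, e i ≠ 0)
    {κ : K} (hde : ∀ i : Fin (m + 3), d i.succ * e i.succ = κ) (hdet : x.det = (d 0 * e 0) * κ ^ (m + 3)) :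
    ∃ a u : Matrix (Fin (m + 3 + 1)) (Fin (m + 3 + 1)) K, x = a * u ∧ Sim a (std d) ∧ Sim u (std e) := by
  classical
  set α := d 0 * e 0 with hαdef
  have hα : α ≠ 0 := mul_ne_zero (hd0 0) (he0 0)
  have hκ : κ ≠ 0 := by rw [← hde 0]; exact mul_ne_zero (hd0 _) (he0 _)
  obtain ⟨P, r, c, S, hP, hdS, hxP, hc, hSns⟩ := exists_corner_schur hx.nonScalar hx.det_ne_zero hα
  have hPu := isUnit_of hP
  set S' := κ⁻¹ • S with hS'
  have hSS : S = κ • S' := by rw [hS', smul_smul, mul_inv_cancel₀ hκ, one_smul]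
  have hS'd : S'.det = 1 := det_smul_inv κ hκ (mul_left_cancel₀ hα (by rw [← hdS, hdet]))
  have hS'ns : NonScalar S' := fun ⟨u, hu⟩ => hSns (by omega) ⟨κ * u, by rw [hSS, hu, smul_smul]⟩
  have hr : r ≠ 0 := by
    intro h0
    refine hx α ?_
    have e : x - α • 1 = P * (bord α r c (S + α⁻¹ • vecMulVec c r) - α • 1) * P⁻¹ := by
      rw [Matrix.mul_sub, Matrix.sub_mul, ← hxP, Matrix.mul_nonsing_inv_cancel_right _ _ hPu, Matrix.mul_smul,
        Matrix.smul_mul, mul_one, Matrix.mul_nonsing_inv _ hPu]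
    rw [e, det_mul, det_mul, show (bord α r c (S + α⁻¹ • vecMulVec c r) - α • 1).det = 0 from ?_]
    · simp
    refine Matrix.det_eq_zero_of_row_eq_zero 0 fun k => ?_
    refine Fin.cases ?_ (fun k => ?_) k <;> simp [h0, (Fin.succ_ne_zero _).symm]
  have hwide : 2 ≤ (S' - 1).rank := by
    by_contra hlt
    obtain ⟨u, φ, hN, -⟩ := exists_vecMulVec_of_rank_le_one (show (S' - 1).rank ≤ 1 by omega)
    have h1 := rootfree_rank hx κ
    have e : x - κ • 1 = P * (bord α r c (S + α⁻¹ • vecMulVec c r) - κ • 1) * P⁻¹ := by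
      rw [Matrix.mul_sub, Matrix.sub_mul, ← hxP, Matrix.mul_nonsing_inv_cancel_right _ _ hPu, Matrix.mul_smul,
        Matrix.smul_mul, mul_one, Matrix.mul_nonsing_inv _ hPu]
    rw [e] at h1
    have h2 : (bord α r c (S + α⁻¹ • vecMulVec c r) - κ • 1).rank ≤ 3 := by
      have hS1 : S' = 1 + vecMulVec u φ := by rw [← hN, add_sub_cancel]
      have e2 : bord α r c (S + α⁻¹ • vecMulVec c r) - κ • 1 =
          (Matrix.of ![Pi.single 0 1, Fin.cons 0 c, Fin.cons 0 u])ᵀ *
            Matrix.of ![Fin.cons (α - κ) r, Fin.cons 1 (α⁻¹ • r), Fin.cons 0 (κ • φ)] := by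
        ext i k
        refine Fin.cases ?_ (fun i => ?_) i <;> refine Fin.cases ?_ (fun k => ?_) k <;>
          simp [hSS, hS1, vecMulVec_apply, Matrix.mul_apply, Fin.sum_univ_three, Matrix.one_apply, Fin.succ_inj,
            Fin.succ_ne_zero, (Fin.succ_ne_zero _).symm]
        split_ifs <;> ring
      rw [e2]
      exact (rank_mul_le_left _ _).trans ((rank_le_card_width _).trans (by simp))
    have := (rank_mul_le_left _ P⁻¹).trans (rank_mul_le_right P (bord α r c (S + α⁻¹ • vecMulVec c r) - κ • 1))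
    omega
  obtain ⟨Q, L, U, hQ, hSQ, hL, hU, hcQ, hrQ⟩ := factor h4 (m + 2) S' hS'd (fun _ => ⟨hS'ns, hwide⟩) c r hc hr
  have hQu := isUnit_of hQ
  set d' : Fin (m + 3) → K := fun i => d i.succ
  set e' : Fin (m + 3) → K := fun i => e i.succ
  set L' := bord (d 0) 0 ((e 0)⁻¹ • (Q⁻¹ *ᵥ c)) (L * diagonal d') with hL'
  set U' := bord (e 0) ((d 0)⁻¹ • (r ᵥ* Q)) 0 (diagonal e' * U) with hU'
  set P' := P * bord 1 0 0 Q with hP'
  have hP'd : P'.det ≠ 0 := by rw [hP', det_mul, det_bord_upper, one_mul]; exact mul_ne_zero hP hQ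
  have hxP' : x * P' = P' * (L' * U') := by
    rw [hP', ← Matrix.mul_assoc, hxP, hL', hU', ← bord_eq_mul _ _ (hd0 0) (he0 0), Matrix.mul_assoc, Matrix.mul_assoc,
      bord_mul, bord_mul, Matrix.mul_assoc L, ← Matrix.mul_assoc (diagonal d') (diagonal e') U,
      show diagonal d' * diagonal e' = κ • (1 : Matrix (Fin (m + 3)) (Fin (m + 3)) K) by
        rw [diagonal_mul_diagonal, smul_one_eq_diagonal]; congr 1; funext i; exact hde i,
      Matrix.smul_mul, one_mul, Matrix.mul_smul]
    congr 1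
    congr 1
    · simpa using hαdef
    · simp [hαdef]
    · simp [mulVec_mulVec, Matrix.mul_nonsing_inv _ hQu]
    · simp only [vecMulVec_zero, zero_vecMulVec, zero_add, Matrix.add_mul, Matrix.mul_add, Matrix.smul_mul,
        Matrix.mul_smul, Matrix.vecMulVec_mul, Matrix.mul_vecMulVec, mulVec_mulVec, Matrix.mul_nonsing_inv _ hQu,
        Matrix.one_mul, one_mulVec, hSS, hSQ, hαdef]
  have hP'u := isUnit_of hP'd
  refine ⟨P' * L' * P'⁻¹, P' * U' * P'⁻¹, ?_, ?_, ?_⟩
  · rw [Matrix.mul_assoc (P' * L'), Matrix.mul_assoc P' U', Matrix.nonsing_inv_mul_cancel_left _ _ hP'u,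
      ← Matrix.mul_assoc (P' * L'), Matrix.mul_assoc P' L', ← hxP', Matrix.mul_nonsing_inv_cancel_right _ _ hP'u]
  · refine (sim_of hP'd (by rw [Matrix.nonsing_inv_mul_cancel_right _ _ hP'u])).trans (reg_transpose_sim hd ?_)
    have hl := reg_lower_diag (d := d') (fun i => hd0 i.succ) hL
    refine ⟨fun i => ?_, fun i k => ?_⟩
    · refine Fin.cases ?_ (fun i => ?_) i
      · simp [hL']
      · simpa [hL', d'] using hl.1 i
    · refine Fin.cases ?_ (fun i => ?_) i <;> refine Fin.cases ?_ (fun k => ?_) k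
      · exact ⟨fun h => absurd h (lt_irrefl _), fun h => by simp at h⟩
      · refine ⟨fun h => by simp at h, fun hk _ => ?_⟩
        obtain rfl : k = 0 := Fin.ext (by simpa using hk)
        rw [transpose_apply, hL', bord_succ_zero]
        simp [he0, hcQ]
      · exact ⟨fun _ => by simp [hL'], fun h => by simp at h⟩
      · simp only [hL', transpose_apply, bord_succ_succ, Fin.val_succ]
        exact ⟨fun h => (hl.2 i k).1 (by omega), fun h e => (hl.2 i k).2 (by omega) e⟩
  · refine (sim_of hP'd (by rw [Matrix.nonsing_inv_mul_cancel_right _ _ hP'u])).trans (Reg.sim_std he ?_)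
    have hu := reg_diag_upper (e := e') (fun i => he0 i.succ) hU
    refine ⟨fun i => ?_, fun i k => ?_⟩
    · refine Fin.cases ?_ (fun i => ?_) i
      · simp [hU']
      · simpa [hU', e'] using hu.1 i
    · refine Fin.cases ?_ (fun i => ?_) i <;> refine Fin.cases ?_ (fun k => ?_) k
      · exact ⟨fun h => absurd h (lt_irrefl _), fun h => by simp at h⟩
      · refine ⟨fun h => by simp at h, fun hk _ => ?_⟩
        obtain rfl : k = 0 := Fin.ext (by simpa using hk)
        rw [hU', bord_zero_succ]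
        simp [hd0, hrQ]
      · exact ⟨fun _ => by simp [hU'], fun h => by simp at h⟩
      · simp only [hU', bord_succ_succ, Fin.val_succ]
        exact ⟨fun h => (hu.2 i k).1 (by omega), fun h e => (hu.2 i k).2 (by omega) e⟩

end CfsgLib.Classical.Covering
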