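import Cfsg.Agent.Lib.Classical.Covering.BD
import Cfsg.Agent.Lib.Classical.Covering.Split

/-!
# Products of members of a class
-/

set_option autoImplicit false

namespace CfsgLib.Classical.Covering

open Matrix Polynomial CfsgLib.Classical.UnipotentGen CfsgLib.Classical.Sourour
open CfsgLib.Classical.RegularUnipotentProduct (Four)

variable {K : Type*} [Field K] {n m a b : ℕ}

/-- A product of `m` members of the class `C`. -/
def Prd (C : Matrix (Fin n) (Fin n) K → Prop) (m : ℕ) (G : Matrix (Fin n) (Fin n) K) : Prop :=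
  ∃ l : List (Matrix (Fin n) (Fin n) K), l.length = m ∧ (∀ k ∈ l, C k) ∧ l.prod = G

theorem Prd.one {C : Matrix (Fin n) (Fin n) K → Prop} {k : Matrix (Fin n) (Fin n) K} (h : C k) : Prd C 1 k :=
  ⟨[k], rfl, by simpa using h, by simp⟩

theorem Prd.mul {C : Matrix (Fin n) (Fin n) K → Prop} {G H : Matrix (Fin n) (Fin n) K} (hG : Prd C a G)
    (hH : Prd C b H) : Prd C (a + b) (G * H) := by
  obtain ⟨l, hl, hlC, rfl⟩ := hG
  obtain ⟨l', hl', hlC', rfl⟩ := hH
  exact ⟨l ++ l', by simp [hl, hl'], fun k hk => (List.mem_append.1 hk).elim (hlC k) (hlC' k), List.prod_append⟩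

theorem Prd.pair {C : Matrix (Fin n) (Fin n) K → Prop} {p q : Matrix (Fin n) (Fin n) K} (hp : C p) (hq : C q) :
    Prd C 2 (p * q) :=
  (Prd.one hp).mul (Prd.one hq)

theorem Prd.mono {C C' : Matrix (Fin n) (Fin n) K → Prop} (h : ∀ k, C k → C' k) {G : Matrix (Fin n) (Fin n) K}
    (hG : Prd C m G) : Prd C' m G := by
  obtain ⟨l, hl, hlC, rfl⟩ := hG
  exact ⟨l, hl, fun k hk => h k (hlC k hk), rfl⟩

theorem Prd.det {C : Matrix (Fin n) (Fin n) K → Prop} {D : K} (h : ∀ k, C k → k.det = D) :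
    ∀ {m : ℕ} {G : Matrix (Fin n) (Fin n) K}, Prd C m G → G.det = D ^ m := by
  rintro m G ⟨l, rfl, hlC, rfl⟩
  induction l with
  | nil => simp
  | cons k l ih =>
    rw [List.prod_cons, det_mul, h k (hlC k (by simp)), ih fun k' hk' => hlC k' (by simp [hk']), List.length_cons,
      pow_succ']

/-- Conjugating each member. -/
theorem Prd.map_conj {C C' : Matrix (Fin n) (Fin n) K → Prop} {P : Matrix (Fin n) (Fin n) K} (hP : P.det ≠ 0)
    (h : ∀ k k', k * P = P * k' → C k' → C' k) {G G' : Matrix (Fin n) (Fin n) K} (hG : G * P = P * G')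
    (hG' : Prd C m G') : Prd C' m G := by
  obtain ⟨l, hl, hlC, rfl⟩ := hG'
  have hPu := isUnit_of hP
  refine ⟨l.map fun k => P * k * P⁻¹, by simp [hl], ?_, ?_⟩
  · intro k hk
    obtain ⟨k', hk', rfl⟩ := List.mem_map.1 hk
    exact h _ k' (by rw [Matrix.nonsing_inv_mul_cancel_right _ _ hPu]) (hlC k' hk')
  · have e : ∀ l : List (Matrix (Fin n) (Fin n) K), (l.map fun k => P * k * P⁻¹).prod = P * l.prod * P⁻¹ := by
      intro l
      induction l with
      | nil => simp [Matrix.mul_nonsing_inv _ hPu]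
      | cons k l ih =>
        rw [List.map_cons, List.prod_cons, ih, List.prod_cons]
        simp only [Matrix.mul_assoc, Matrix.nonsing_inv_mul_cancel_left _ _ hPu]
    rw [e, ← hG, Matrix.mul_nonsing_inv_cancel_right _ _ hPu]

theorem Prd.sim {x G G' : Matrix (Fin n) (Fin n) K} (h : Sim G G') (hG' : Prd (fun k => Sim k x) m G') :
    Prd (fun k => Sim k x) m G := by
  obtain ⟨δ, hδ, P, hd, hP⟩ := h
  exact hG'.map_conj (hd ▸ hδ) (fun k k' e h => (sim_of (hd ▸ hδ) e).trans h) hP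

theorem Prd.cd {x G G' : Matrix (Fin n) (Fin n) K} {ε : K} (h : Cd 1 G G')
    (hG' : Prd (fun k => Cd ε k x) m G') : Prd (fun k => Cd ε k x) m G := by
  obtain ⟨P, hd, hP⟩ := h
  refine hG'.map_conj (by rw [hd]; exact one_ne_zero) (fun k k' e h => ?_) hP
  have := Cd.trans (⟨P, hd, e⟩ : Cd 1 k k') h
  rwa [one_mul] at this

theorem Cd.smul {δ : K} {A B : Matrix (Fin n) (Fin n) K} (h : Cd δ A B) (c : K) : Cd δ (c • A) (c • B) := by
  obtain ⟨P, hd, hP⟩ := h
  exact ⟨P, hd, by rw [Matrix.smul_mul, Matrix.mul_smul, hP]⟩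

theorem Cd.sim {δ : K} (hδ : δ ≠ 0) {A B : Matrix (Fin n) (Fin n) K} (h : Cd δ A B) : Sim A B := ⟨δ, hδ, h⟩

theorem Cd.conj {P : Matrix (Fin n) (Fin n) K} (hP : P.det ≠ 0) (A : Matrix (Fin n) (Fin n) K) :
    Cd P.det (P * A * P⁻¹) A :=
  ⟨P, rfl, by rw [Matrix.nonsing_inv_mul_cancel_right _ _ (isUnit_of hP)]⟩

theorem Full.any {δ : K} {A B : Matrix (Fin n) (Fin n) K} (hB : Full B) (h : Sim A B) (hδ : δ ≠ 0) : Cd δ A B :=
  hB.cd h hδ

/-- Products of a scaled matrix. -/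
theorem Prd.of_smul {x G : Matrix (Fin n) (Fin n) K} {c : K} (hc : c ≠ 0)
    (h : Prd (fun k => Sim k (c • x)) m G) : Prd (fun k => Sim k x) m ((c ^ m)⁻¹ • G) := by
  obtain ⟨l, rfl, hlC, rfl⟩ := h
  induction l with
  | nil => exact ⟨[], rfl, by simp, by simp⟩
  | cons k l ih =>
    obtain ⟨l', hl', hlC', e⟩ := ih fun k' hk' => hlC k' (by simp [hk'])
    refine ⟨(c⁻¹ • k) :: l', by simp [hl'], ?_, ?_⟩
    · intro k' hk'
      rcases List.mem_cons.1 hk' with rfl | hk'
      · have := (hlC k (by simp)).smul c⁻¹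
        rwa [smul_smul, inv_mul_cancel₀ hc, one_smul] at this
      · exact hlC' k' hk'
    · rw [List.prod_cons, e, Matrix.smul_mul, Matrix.mul_smul, smul_smul, List.prod_cons, List.length_cons, pow_succ',
        mul_inv]

/-- Similar products share their conjugator. -/
theorem exists_mul_of_sim {A U g : Matrix (Fin n) (Fin n) K} (h : Sim (A * U) g) :
    ∃ a u : Matrix (Fin n) (Fin n) K, g = a * u ∧ Sim a A ∧ Sim u U := by
  obtain ⟨δ, hδ, P, hd, hP⟩ := h.symm
  have hP0 : P.det ≠ 0 := hd ▸ hδ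
  refine ⟨P * A * P⁻¹, P * U * P⁻¹, ?_, (Cd.conj hP0 A).sim hP0, (Cd.conj hP0 U).sim hP0⟩
  rw [Matrix.mul_assoc (P * A), Matrix.mul_assoc P U, Matrix.nonsing_inv_mul_cancel_left _ _ (isUnit_of hP0),
    ← Matrix.mul_assoc (P * A), Matrix.mul_assoc P A, ← hP, Matrix.mul_nonsing_inv_cancel_right _ _ (isUnit_of hP0)]

/-- A factorisation of a matrix with every centraliser determinant can be conjugated with any determinant. -/
theorem shift {A U g : Matrix (Fin n) (Fin n) K} (hg : Full g) (h : Sim (A * U) g) {ε : K} (hε : ε ≠ 0) :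
    ∃ a u : Matrix (Fin n) (Fin n) K, g = a * u ∧ Cd ε a A ∧ Cd ε u U := by
  obtain ⟨P, hd, hP⟩ := hg.cd h (inv_ne_zero hε)
  have hP0 : P.det ≠ 0 := hd ▸ inv_ne_zero hε
  have hPu := isUnit_of hP0
  refine ⟨P⁻¹ * A * P, P⁻¹ * U * P, ?_, ⟨P⁻¹, ?_, ?_⟩, ⟨P⁻¹, ?_, ?_⟩⟩
  · rw [Matrix.mul_assoc (P⁻¹ * A), Matrix.mul_assoc P⁻¹ U, Matrix.mul_nonsing_inv_cancel_left _ _ hPu,
      ← Matrix.mul_assoc (P⁻¹ * A), Matrix.mul_assoc P⁻¹ A, Matrix.mul_assoc P⁻¹ (A * U), hP,
      Matrix.nonsing_inv_mul_cancel_left _ _ hPu]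
  · rw [det_nonsing_inv, hd, Ring.inverse_eq_inv, inv_inv]
  · rw [Matrix.mul_nonsing_inv_cancel_right _ _ hPu]
  · rw [det_nonsing_inv, hd, Ring.inverse_eq_inv, inv_inv]
  · rw [Matrix.mul_nonsing_inv_cancel_right _ _ hPu]

theorem Sim.inv {A B : Matrix (Fin n) (Fin n) K} (hA : A.det ≠ 0) (h : Sim A B) : Sim A⁻¹ B⁻¹ := by
  obtain ⟨δ, hδ, P, hd, hP⟩ := h
  have hB : B.det ≠ 0 := by rw [← Sim.det_eq ⟨δ, hδ, P, hd, hP⟩]; exact hA
  refine sim_of (P := P) (hd ▸ hδ) ?_
  rw [← Matrix.nonsing_inv_mul_cancel_left A (P * B⁻¹) (isUnit_of hA), ← Matrix.mul_assoc A, hP,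
    Matrix.mul_nonsing_inv_cancel_right _ _ (isUnit_of hB)]

theorem det_std (d : Fin n → K) : (std d).det = ∏ i, d i := (reg_std d).det_eq

theorem cyclic_of_std {d : Fin (m + 1) → K} (hd : Grouped d) {h : Matrix (Fin (m + 1)) (Fin (m + 1)) K}
    (hh : Sim h (std d)) : Cyclic h :=
  Cyclic.of_sim hh ((reg_std d).cyclic hd)

/-- Prepending two factors to a cyclic class. -/
theorem prd_cyclic_step [Fintype K] (hK : 3 ≤ Fintype.card K) {k : ℕ} (hk : 1 ≤ k)
    {C : Matrix (Fin (k + 2)) (Fin (k + 2)) K → Prop} {A : Matrix (Fin (k + 2)) (Fin (k + 2)) K} (hA : Cyclic A) (hA0 : A.det ≠ 0)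
    (hAP : ∀ h, Sim h A → Prd C a h) {d : Fin (k + 2) → K} (hd : Grouped d) (hd0 : ∀ i, d i ≠ 0)
    (hdP : ∀ h, Sim h (std d) → Prd C b h) {g : Matrix (Fin (k + 2)) (Fin (k + 2)) K}
    (hg : Cyclic g) (hdet : g.det = A.det * ∏ i, d i) : Prd C (a + b) g := by
  have hA' : Sim A (comp (m := k + 1) A.charpoly) := sim_comp hA
  obtain ⟨U, hU, hsim⟩ := bd' hK hk (hess_comp (m := k + 1) A.charpoly) (by rw [← hA'.det_eq]; exact hA0) hg hd0
    (by rw [← hA'.det_eq]; exact hdet)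
  obtain ⟨p, q, rfl, hp, hq⟩ := exists_mul_of_sim hsim
  exact (hAP p (hp.trans hA'.symm)).mul (hdP q (hq.trans (hU.sim_std hd)))

/-- Two groups: the class of the triangular factor can be prescribed. -/
theorem knob [Fintype K] (hK : 3 ≤ Fintype.card K) {k s : ℕ} (hs : 2 ≤ s) (hsk : s < k) {v μ : K} (hv : v ≠ 0)
    (hμ : μ ≠ 0) (hne : v ≠ μ) {g : Matrix (Fin (k + 2)) (Fin (k + 2)) K} (hg : Cyclic g) {p : K[X]}
    (hA0 : (comp (m := k + 1) p).det ≠ 0)
    (hdet : g.det = (comp (m := k + 1) p).det * ∏ i : Fin (k + 2), if i.val < s then v else μ) {δ : K} (hδ : δ ≠ 0) :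
    ∃ U : Matrix (Fin (k + 2)) (Fin (k + 2)) K,
      Cd δ U (std fun i : Fin (k + 2) => if i.val < s then v else μ) ∧ Sim (comp (m := k + 1) p * U) g := by
  classical
  set d : Fin (k + 2) → K := fun i => if i.val < s then v else μ with hd
  set A : Matrix (Fin (k + 2)) (Fin (k + 2)) K := comp (m := k + 1) p with hA
  have hdg : Grouped d := grouped_two s v μ
  have hd0 : ∀ i, d i ≠ 0 := fun i => by simp only [hd]; split_ifs <;> assumption
  have hAh : Hess A := hess_comp p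
  have hsub : ∀ q : Fin k, A q.castSucc.succ q.castSucc.castSucc = 1 := by
    intro q
    simp only [hA, comp, of_apply]
    rw [if_neg (by simp; omega), if_pos (by simp)]
  let pj : Fin k := ⟨s - 1, by omega⟩
  let p₀ : Fin k := ⟨s, hsk⟩
  have hpne : p₀ ≠ pj := by simp [p₀, pj, Fin.ext_iff]; omega
  set base := (∑ i, A i i * d i) + ∑ q : Fin k, (if q = pj ∨ q = p₀ then 0 else (1 : K))
  obtain ⟨c₀, hc₀⟩ := fresh_of_card ({g.trace - base} : Finset K) (by rw [Finset.card_singleton]; omega)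
  rw [Finset.mem_singleton] at hc₀
  let sv : K → Fin k → K := fun t q => if q = p₀ then t else if q = pj then c₀ - t else 1
  have hsum : ∀ t, (∑ i, A i i * d i) + ∑ q, A q.castSucc.succ q.castSucc.castSucc * sv t q = base + c₀ := by
    intro t
    simp only [base, hsub, one_mul]
    rw [add_assoc]
    congr 1
    rw [← sub_eq_iff_eq_add', ← Finset.sum_sub_distrib, Finset.sum_eq_add p₀ pj hpne]
    · simp [sv, hpne.symm]
    · rintro q - ⟨h1, h2⟩
      simp [sv, h1, h2]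
    · simp
    · simp
  have hex : ∀ t : K, t ≠ 0 → ∃ U, Reg d U ∧ (∀ q, U q.castSucc.castSucc q.castSucc.succ = sv t q) ∧
      Sim (A * U) g := by
    intro t ht
    refine bd hAh hA0 hg hd0 hdet (fun q e => ?_) (by rw [hsum]; exact fun h => hc₀ (by linear_combination h))
    by_cases h0 : q = p₀
    · simp [sv, h0, ht]
    · have h1 : q ≠ pj := by
        rintro rfl
        simp only [hd, pj, Fin.val_succ, Fin.val_castSucc] at e
        rw [if_pos (by omega), if_neg (by omega)] at e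
        exact hne e
      simp [sv, h0, h1]
  obtain ⟨U₁, hU₁, hs₁, hsim₁⟩ := hex 1 one_ne_zero
  have hcls := cls_ne_zero hdg hU₁
  set t := δ / cls d U₁
  have ht : t ≠ 0 := div_ne_zero hδ hcls
  obtain ⟨U, hU, hsU, hsim⟩ := hex t ht
  refine ⟨U, ?_, hsim⟩
  have hlast : U (Fin.last k).castSucc (Fin.last k).succ = U₁ (Fin.last k).castSucc (Fin.last k).succ := by
    have e1 := trace_hess_mul hAh fun i l => (hU.2 i l).1
    have e2 := trace_hess_mul hAh fun i l => (hU₁.2 i l).1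
    have htr : (A * U).trace = (A * U₁).trace := by
      rw [Matrix.trace_eq_neg_charpoly_coeff, Matrix.trace_eq_neg_charpoly_coeff, (hsim.trans hsim₁.symm).charpoly_eq]
    rw [e1, e2, Fin.sum_univ_castSucc (f := fun q : Fin (k + 1) => A q.succ q.castSucc * U q.castSucc q.succ),
      Fin.sum_univ_castSucc (f := fun q : Fin (k + 1) => A q.succ q.castSucc * U₁ q.castSucc q.succ)] at htr
    simp only [hU.1, hU₁.1, hsU, hs₁] at htr
    refine mul_left_cancel₀ ((hAh (Fin.last k).succ (Fin.last k).castSucc).2 (by simp)) ?_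
    linear_combination htr + hsum 1 - hsum t
  have key : cls d U = t * cls d U₁ := by
    refine cls_scale (p₀ := p₀.castSucc) hdg ?_ ?_ ?_ ?_
    · simp only [hd, p₀, Fin.val_succ, Fin.val_castSucc]
      rw [if_neg (by omega), if_neg (by omega)]
    · intro i hi
      simp only [p₀, Fin.val_castSucc] at hi
      simp only [hd, p₀, Fin.val_castSucc]
      rw [if_pos hi, if_neg (lt_irrefl _)]
      exact hne
    · rw [hsU, hs₁]; simp [sv]
    · intro q
      refine Fin.lastCases (fun _ _ => hlast) (fun q hq hqd => ?_) q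
      rw [hsU, hs₁]
      have h0 : q ≠ p₀ := fun e => hq (by rw [e])
      have h1 : q ≠ pj := by
        rintro rfl
        simp only [hd, pj, Fin.val_succ, Fin.val_castSucc] at hqd
        rw [if_pos (by omega), if_neg (by omega)] at hqd
        exact hne hqd
      simp [sv, h0, h1]
  have h := hU.cd_std hdg
  rwa [key, div_mul_cancel₀ _ hcls] at h

end CfsgLib.Classical.Covering
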