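import Cfsg.Agent.Lib.Classical.Covering.Peel

/-!
# Conjugates of a matrix differing from a scalar by rank one
-/

set_option autoImplicit false

namespace CfsgLib.Classical.Covering

open Matrix CfsgLib.Classical.UnipotentGen CfsgLib.Classical.Sourour
open CfsgLib.Classical.RegularUnipotentProduct (Four Wide factor)

variable {K : Type*} [Field K] {n m : ℕ}

theorem det_one_add_uv (u φ : Fin n → K) : (1 + vecMulVec u φ).det = 1 + φ ⬝ᵥ u := by
  rw [vecMulVec_eq Unit, det_one_add_mul_comm, det_unique]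
  simp [Matrix.mul_apply, dotProduct, replicateCol, replicateRow]

theorem rankone_frame {u φ : Fin (m + 3) → K} (hu : u ≠ 0) (hφ : φ ≠ 0) {δ : K} (hδ : δ ≠ 0) :
    Cd δ (1 + vecMulVec u φ) (1 + vecMulVec (ev 1 - ev 0) (ev 0 + (1 + φ ⬝ᵥ u) • ev 1)) := by
  classical
  obtain ⟨i, hi⟩ : ∃ i, φ i ≠ 0 := Function.ne_iff.1 hφ
  obtain ⟨j, hj⟩ := exists_ne i
  obtain ⟨x, hx, hxu⟩ : ∃ x, φ ⬝ᵥ x = 1 ∧ ∀ c : K, x ≠ c • u := by
    set x₀ : Fin (m + 3) → K := Pi.single i (φ i)⁻¹ with hx₀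
    have h1 : φ ⬝ᵥ x₀ = 1 := by rw [hx₀, dotProduct_single, mul_inv_cancel₀ hi]
    by_cases h : ∀ c : K, x₀ ≠ c • u
    · exact ⟨x₀, h1, h⟩
    push Not at h
    obtain ⟨c₀, hc₀⟩ := h
    set z : Fin (m + 3) → K := Pi.single j (φ i) - Pi.single i (φ j)
    refine ⟨x₀ + z, ?_, fun c hc => ?_⟩
    · rw [dotProduct_add, h1]
      simp [z, dotProduct_single, dotProduct_sub, mul_comm]
    · have hz : z = (c - c₀) • u := by rw [sub_smul, ← hc, ← hc₀, add_sub_cancel_left]
      have hc00 : c₀ ≠ 0 := fun h0 => by rw [h0, zero_smul] at hc₀; simp [hx₀, hi] at hc₀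
      have hzj := congrFun hz j
      have huj : u j = 0 := by
        have := congrFun hc₀ j
        simp [hx₀, hj] at this
        exact this.resolve_left hc00
      simp [z, hj, huj, hi] at hzj
  have hind : ∀ c : K, x + u ≠ c • x := fun c hc => by
    have h2 : u = (c - 1) • x := by rw [sub_smul, one_smul, ← hc, add_sub_cancel_left]
    have hc1 : c - 1 ≠ 0 := fun h0 => hu (by rw [h2, h0, zero_smul])
    exact hxu (c - 1)⁻¹ (by rw [h2, smul_smul, inv_mul_cancel₀ hc1, one_smul])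
  obtain ⟨P, hP, hP0, hP1⟩ := exists_pair (v := x) (fun h => by simp [h] at hx) hind
  set q : Fin (m + 3) → K := φ ᵥ* P with hq
  have hq' : ∀ v, q ⬝ᵥ v = φ ⬝ᵥ (P *ᵥ v) := fun v => by rw [hq, dotProduct_mulVec]
  have hq0 : q 0 = 1 := by
    rw [← hx, ← hP0, ← hq', ev, dotProduct_single, mul_one]
  have hq1 : q 1 = 1 + φ ⬝ᵥ u := by
    rw [← hx, ← dotProduct_add, ← hP1, ← hq', ev, dotProduct_single, mul_one]
  set rr : Fin (m + 2) → K := fun l => if l = 0 then 0 else -q l.succ with hrr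
  set F : Matrix (Fin (m + 3)) (Fin (m + 3)) K :=
    diagonal (Function.update (1 : Fin (m + 3) → K) (1 : Fin (m + 2)).succ δ) with hF
  set R : Matrix (Fin (m + 3)) (Fin (m + 3)) K := P * bord 1 rr 0 1 * F with hR
  have hqb : q ᵥ* bord 1 rr 0 1 = ev 0 + (1 + φ ⬝ᵥ u) • ev 1 := by
    funext l
    refine Fin.cases ?_ (fun l => ?_) l
    · simp [vecMul, dotProduct, Fin.sum_univ_succ, hq0, ev]
    · have e : (q ᵥ* bord 1 rr 0 1) l.succ = rr l + q l.succ := by
        rw [vecMul, dotProduct, Fin.sum_univ_succ, bord_zero_succ, hq0, one_mul,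
          Finset.sum_eq_single l (fun b _ hb => by rw [bord_succ_succ, Matrix.one_apply_ne hb, mul_zero]) (by simp),
          bord_succ_succ, Matrix.one_apply_eq, mul_one]
      rw [e, hrr]
      simp only [ev, Pi.add_apply, Pi.smul_apply, smul_eq_mul, Pi.single_apply, Fin.succ_ne_zero, if_false, zero_add]
      by_cases h : l = 0
      · subst h; simp [hq1]
      · have hl1 : l.succ ≠ 1 := by rw [← Fin.succ_zero_eq_one]; exact fun h' => h (Fin.succ_injective _ h')
        simp [h, hl1]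
  have hψF : (ev 0 + (1 + φ ⬝ᵥ u) • ev 1 : Fin (m + 3) → K) ᵥ* F = ev 0 + (1 + φ ⬝ᵥ u) • ev 1 := by
    have h20 : (0 : Fin (m + 3)) ≠ (1 : Fin (m + 2)).succ := (Fin.succ_ne_zero _).symm
    funext l
    rw [hF, vecMul_diagonal]
    by_cases h : l = (1 : Fin (m + 2)).succ
    · subst h; simp only [ev, Pi.add_apply, Pi.smul_apply, Pi.single_apply, if_neg h20.symm, if_neg (one_ne_succ_one m).symm, smul_zero, add_zero, zero_mul]
    · rw [Function.update_of_ne h, Pi.one_apply, mul_one]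
  have hb0 : (bord 1 rr 0 1 * F) *ᵥ (ev 1 - ev 0 : Fin (m + 3) → K) = ev 1 - ev 0 := by
    rw [← mulVec_mulVec, mulVec_sub F, hF, ev, diagonal_mulVec_single, Function.update_of_ne (one_ne_succ_one m),
      ev, diagonal_mulVec_single, Function.update_of_ne (Fin.succ_ne_zero _).symm, mulVec_sub,
      mulVec_single, mulVec_single]
    funext l
    rw [← Fin.succ_zero_eq_one]
    refine Fin.cases ?_ (fun l => ?_) l
    · simp only [Pi.one_apply, mul_one, MulOpposite.op_one, one_smul, Pi.sub_apply, col_apply, bord_zero_succ,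
        bord_zero_zero, Pi.single_apply, hrr, if_true, (Fin.succ_ne_zero _).symm, if_false]
    · simp only [Pi.one_apply, mul_one, MulOpposite.op_one, one_smul, Pi.sub_apply, col_apply, bord_succ_succ,
        bord_succ_zero, Pi.zero_apply, Pi.single_apply, Fin.succ_inj, Fin.succ_ne_zero, if_false, Matrix.one_apply,
        sub_zero]
  refine ⟨R, ?_, ?_⟩
  · rw [hR, det_mul, det_mul, hP, det_bord_upper, det_one, hF, det_diagonal,
      Finset.prod_update_of_mem (Finset.mem_univ _)]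
    simp
  · rw [Matrix.add_mul, Matrix.mul_add, one_mul, mul_one, Matrix.vecMulVec_mul, Matrix.mul_vecMulVec]
    congr 1
    rw [show φ ᵥ* R = ev 0 + (1 + φ ⬝ᵥ u) • ev 1 by rw [hR, ← vecMul_vecMul, ← vecMul_vecMul, ← hq, hqb, hψF],
      show R *ᵥ (ev 1 - ev 0) = u by
        rw [hR, Matrix.mul_assoc, ← mulVec_mulVec, hb0, mulVec_sub, hP0, hP1, add_sub_cancel_left]]

/-- Rank-one perturbations of the identity with the same scalar product are conjugate by every determinant. -/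
theorem rankone_cd {u φ u' φ' : Fin (m + 3) → K} (hu : u ≠ 0) (hφ : φ ≠ 0) (hu' : u' ≠ 0) (hφ' : φ' ≠ 0)
    (h : φ ⬝ᵥ u = φ' ⬝ᵥ u') {δ : K} (hδ : δ ≠ 0) : Cd δ (1 + vecMulVec u φ) (1 + vecMulVec u' φ') := by
  have h1 := rankone_frame hu hφ hδ
  rw [h] at h1
  have := h1.trans ((rankone_frame hu' hφ' (δ := 1) one_ne_zero).symm one_ne_zero)
  rwa [inv_one, mul_one] at this

theorem ofFn_prod_mulVec : ∀ {a : ℕ} (k : Fin a → Matrix (Fin n) (Fin n) K) (j : Fin a) (v w : Fin n → K),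
    (∀ l, j < l → k l *ᵥ v = v) → k j *ᵥ v = w → (∀ l, l < j → k l *ᵥ w = w) →
    (List.ofFn k).prod *ᵥ v = w := by
  intro a
  induction a with
  | zero => intro k j; exact j.elim0
  | succ a ih =>
    intro k j v w h1 h2 h3
    rw [List.ofFn_succ, List.prod_cons, ← mulVec_mulVec]
    refine Fin.cases ?_ (fun j => ?_) j h1 h2 h3
    · intro h1 h2 _
      have : ∀ {b : ℕ} (k' : Fin b → Matrix (Fin n) (Fin n) K), (∀ l, k' l *ᵥ v = v) →
          (List.ofFn k').prod *ᵥ v = v := by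
        intro b
        induction b with
        | zero => simp
        | succ b ihb =>
          intro k' hk'
          rw [List.ofFn_succ, List.prod_cons, ← mulVec_mulVec, ihb _ fun l => hk' l.succ, hk' 0]
      rw [this (fun i => k i.succ) fun l => h1 _ (Fin.succ_pos l), h2]
    · intro h1 h2 h3
      rw [ih (fun i => k i.succ) j v w (fun l hl => h1 _ (Fin.succ_lt_succ_iff.2 hl)) h2
        (fun l hl => h3 _ (Fin.succ_lt_succ_iff.2 hl)), h3 0 (Fin.succ_pos j)]

/-- The centres of the factors. -/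
def centre (L W : Matrix (Fin n) (Fin n) K) (j : Fin n) : Fin n → K :=
  fun i => if i < j then -W i j else L i j - (if i = j then 1 else 0)

/-- Factors with coordinate axes. -/
theorem lu_members {L W : Matrix (Fin n) (Fin n) K} (hW : ∀ i j, j < i → W i j = 0)
    (hW1 : ∀ i, W i i = 1) (hL : ∀ i j, i < j → L i j = 0) :
    (List.ofFn fun j => (1 : Matrix (Fin n) (Fin n) K) + vecMulVec (centre L W j) (Pi.single j 1)).prod * W = L := by
  classical
  have hk : ∀ (l : Fin n) (v : Fin n → K),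
      ((1 : Matrix (Fin n) (Fin n) K) + vecMulVec (centre L W l) (Pi.single l 1)) *ᵥ v = v + v l • centre L W l :=
    fun l v => by rw [add_mulVec, one_mulVec, vecMulVec_mulVec, single_one_dotProduct, op_smul_eq_smul]
  refine Matrix.ext_of_mulVec_single fun j => ?_
  rw [← mulVec_mulVec, mulVec_single_one, mulVec_single_one]
  refine ofFn_prod_mulVec _ j _ _ (fun l hl => ?_) ?_ (fun l hl => ?_)
  · rw [hk, col_apply, hW _ _ hl, zero_smul, add_zero]
  · rw [hk, col_apply, hW1, one_smul]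
    funext i
    simp only [Pi.add_apply, col_apply, centre]
    split_ifs with h1 h2
    · rw [hL _ _ h1]; ring
    · subst h2; rw [hW1]; ring
    · rw [hW _ _ (lt_of_le_of_ne (not_lt.1 h1) (Ne.symm h2))]; ring
  · rw [hk, col_apply, hL _ _ hl, zero_smul, add_zero]

/-- Lower times upper, after conjugation. -/
theorem lu_decomp (h4 : Four K) {S : Matrix (Fin (m + 2)) (Fin (m + 2)) K} (hS : S.det = 1)
    (hns : NonScalar S ∨ S = 1) :
    ∃ Q L U : Matrix (Fin (m + 2)) (Fin (m + 2)) K, Q.det ≠ 0 ∧ S * Q = Q * (L * U) ∧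
      (∀ i j, i < j → L i j = 0) ∧ (∀ i, L i i = 1) ∧ (∀ i j, j < i → U i j = 0) ∧ (∀ i, U i i = 1) ∧
      (2 ≤ (S - 1).rank →
        ∀ i j : Fin (m + 2), i.val = j.val + 1 → L i j ≠ 0 ∧ U j i ≠ 0) := by
  classical
  by_cases hrk : 2 ≤ (S - 1).rank
  · have hns' : NonScalar S := hns.resolve_right fun h => by rw [h, sub_self, Matrix.rank_zero] at hrk; omega
    have hne : (ev 0 : Fin (m + 1 + 1) → K) ≠ 0 := fun h => by simpa [ev] using congrFun h 0
    obtain ⟨Q, L, U, hQ, hSQ, hL, hU, -, -⟩ := factor h4 (m + 1) S hS (fun _ => ⟨hns', hrk⟩) (ev 0) (ev 0) hne hne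
    exact ⟨Q, L, U, hQ, hSQ, fun i j h => (hL i j).1 h, fun i => (hL i i).2.1 rfl, fun i j h => (hU i j).1 h,
      fun i => (hU i i).2.1 rfl, fun _ i j h => ⟨(hL i j).2.2 h, (hU j i).2.2 h⟩⟩
  obtain ⟨u, φ, hN, -⟩ := exists_vecMulVec_of_rank_le_one (show (S - 1).rank ≤ 1 by omega)
  have hS1 : S = 1 + vecMulVec u φ := by rw [← hN, add_sub_cancel]
  obtain ⟨P, e₀, hP, hue⟩ : ∃ (P : Matrix (Fin (m + 2)) (Fin (m + 2)) K) (e₀ : K),
      P.det ≠ 0 ∧ u = e₀ • (P *ᵥ ev 0) := by
    by_cases h0 : u = 0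
    · exact ⟨1, 0, by simp, by simp [h0]⟩
    · obtain ⟨P, hP, hcol⟩ := exists_col h0
      exact ⟨P, 1, hP, by rw [one_smul, ev, mulVec_single_one]; funext i; exact (hcol i).symm⟩
  set ψ : Fin (m + 2) → K := e₀ • (φ ᵥ* P) with hψ
  set U : Matrix (Fin (m + 2)) (Fin (m + 2)) K := 1 + vecMulVec (ev 0) ψ with hU
  have hSP : S * P = P * U := by
    rw [hS1, hU, Matrix.add_mul, one_mul, Matrix.mul_add, mul_one, Matrix.vecMulVec_mul, Matrix.mul_vecMulVec,
      hψ, hue, smul_vecMulVec, vecMulVec_smul]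
  have hlow : ∀ i j, j < i → U i j = 0 := fun i j h => by
    simp [hU, vecMulVec_apply, ev, h.ne', Fin.ne_zero_of_lt h]
  have hψ0 : ψ 0 = 0 := by
    have h : U.det = 1 := by
      have h := congrArg Matrix.det hSP
      rw [det_mul, det_mul, hS, one_mul] at h
      exact (mul_eq_left₀ hP).1 h.symm
    rw [det_of_isUpperTriangular (fun i j h => hlow i j h), Fin.prod_univ_succ,
      Finset.prod_eq_one fun i _ => ?_] at h
    · simpa [hU, vecMulVec_apply, ev] using h
    · simp [hU, vecMulVec_apply, ev]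
  refine ⟨P, 1, U, hP, by rw [one_mul, hSP], fun i j h => Matrix.one_apply_ne h.ne, fun i => Matrix.one_apply_eq i,
    hlow, fun i => ?_, fun h => absurd h hrk⟩
  rcases eq_or_ne i 0 with rfl | hi
  · simp [hU, vecMulVec_apply, ev, hψ0]
  · simp [hU, vecMulVec_apply, ev, hi]

theorem upper_inv {U : Matrix (Fin n) (Fin n) K} (hU : ∀ i j, j < i → U i j = 0) (hU1 : ∀ i, U i i = 1) :
    IsUnit U.det ∧ (∀ i j, j < i → U⁻¹ i j = 0) ∧ (∀ i, U⁻¹ i i = 1) ∧
      ∀ i j : Fin n, j.val = i.val + 1 → U⁻¹ i j = -U i j := by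
  have hd : U.det = 1 := by
    rw [det_of_isUpperTriangular (fun i j h => hU i j h)]
    exact Finset.prod_eq_one fun i _ => hU1 i
  have hu : IsUnit U.det := by rw [hd]; exact isUnit_one
  haveI := Matrix.invertibleOfIsUnitDet U hu
  have hW : ∀ i j, j < i → U⁻¹ i j = 0 := fun i j h =>
    blockTriangular_inv_of_blockTriangular (b := id) (fun i j h => hU i j h) h
  have hmul : ∀ i j, (U * U⁻¹) i j = (1 : Matrix (Fin n) (Fin n) K) i j := fun i j => by
    rw [Matrix.mul_nonsing_inv _ hu]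
  have hd1 : ∀ i, U⁻¹ i i = 1 := by
    intro i
    have h := hmul i i
    rw [Matrix.mul_apply, Finset.sum_eq_single i, hU1, one_mul, Matrix.one_apply_eq] at h
    · exact h
    · intro l _ hl
      rcases lt_or_gt_of_ne hl with h' | h'
      · rw [hU _ _ h', zero_mul]
      · rw [hW _ _ h', mul_zero]
    · simp
  refine ⟨hu, hW, hd1, fun i j hij => ?_⟩
  have h := hmul i j
  have hne : i ≠ j := fun e => by subst e; omega
  rw [Matrix.mul_apply, Finset.sum_eq_add i j hne, hU1, hd1, one_mul, mul_one, Matrix.one_apply_ne hne] at h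
  · exact eq_neg_of_add_eq_zero_left h
  · rintro l - ⟨h1, h2⟩
    have a1 : l.val ≠ i.val := fun e => h1 (Fin.ext e)
    have a2 : l.val ≠ j.val := fun e => h2 (Fin.ext e)
    rcases Nat.lt_or_ge l.val i.val with h' | h'
    · rw [hU _ _ h', zero_mul]
    · rw [hW _ _ (Fin.lt_def.2 (by omega)), mul_zero]
  · simp
  · simp

/-- The coordinate factorisation. -/
theorem rankone_factor (h4 : Four K) {ν : K} (hν : ν ≠ 0) {g : Matrix (Fin (m + 3)) (Fin (m + 3)) K}
    (hdet : g.det = ν ^ (m + 3)) (hg : NonScalar g ∨ g = ν • 1) (h1 : ν = 1 → 2 ≤ (g - 1).rank) :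
    ∃ (Q : Matrix (Fin (m + 3)) (Fin (m + 3)) K) (u : Fin (m + 3) → Fin (m + 3) → K), Q.det ≠ 0 ∧
      (∀ j, u j ≠ 0 ∧ (Pi.single j 1 : Fin (m + 3) → K) ⬝ᵥ u j = ν - 1) ∧
      g * Q = Q * (List.ofFn fun j => (1 : Matrix (Fin (m + 3)) (Fin (m + 3)) K) + vecMulVec (u j) (Pi.single j 1)).prod := by
  classical
  set S := ν⁻¹ • g with hS
  have hgS : g = ν • S := by rw [hS, smul_smul, mul_inv_cancel₀ hν, one_smul]
  have hSd : S.det = 1 := by
    rw [hS, det_smul, Fintype.card_fin, hdet, inv_pow, inv_mul_cancel₀ (pow_ne_zero _ hν)]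
  obtain ⟨Q, L, U, hQ, hSQ, hL, hL1, hU, hU1, hreg⟩ := lu_decomp (m := m + 1) h4 hSd (by
    rcases hg with h | h
    · exact Or.inl fun ⟨c, hc⟩ => h ⟨ν * c, by rw [hgS, hc, smul_smul]⟩
    · exact Or.inr (by rw [hS, h, smul_smul, inv_mul_cancel₀ hν, one_smul]))
  obtain ⟨hUu, hW, hW1, hWs⟩ := upper_inv hU hU1
  refine ⟨Q, fun j => centre (ν • L) U⁻¹ j, hQ, fun j => ⟨?_, ?_⟩, ?_⟩
  · intro h0
    by_cases hν1 : ν = 1
    · subst hν1
      have hr := hreg (by simpa [hS] using h1 rfl)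
      rcases Nat.lt_or_ge (j.val + 1) (m + 3) with hj | hj
      · set i : Fin (m + 3) := ⟨j.val + 1, hj⟩
        have := congrFun h0 i
        have hij : ¬ i < j := by simp [i, Fin.lt_def]
        have hne : i ≠ j := fun e => by simpa [i] using congrArg Fin.val e
        simp [centre, hij, hne] at this
        exact (hr i j rfl).1 this
      · set i : Fin (m + 3) := ⟨j.val - 1, by omega⟩
        have := congrFun h0 i
        have hij : i < j := by rw [Fin.lt_def]; show j.val - 1 < j.val; omega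
        have hval : j.val = i.val + 1 := by show j.val = j.val - 1 + 1; omega
        simp only [centre, if_pos hij, Pi.zero_apply, hWs i j hval, neg_neg] at this
        exact (hr j i hval).2 this
    · have := congrFun h0 j
      simp [centre, hL1, sub_eq_zero] at this
      exact hν1 this
  · simp [centre, hL1]
  · have h := lu_members (L := ν • L) hW hW1 fun i j h => by simp [hL i j h]
    have e : (List.ofFn fun j => (1 : Matrix (Fin (m + 3)) (Fin (m + 3)) K) +
        vecMulVec (centre (ν • L) U⁻¹ j) (Pi.single j 1)).prod = ν • L * U := by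
      calc _ = (List.ofFn fun j => (1 : Matrix (Fin (m + 3)) (Fin (m + 3)) K) +
          vecMulVec (centre (ν • L) U⁻¹ j) (Pi.single j 1)).prod * U⁻¹ * U := by
            rw [Matrix.nonsing_inv_mul_cancel_right _ _ hUu]
        _ = _ := by rw [h]
    rw [e, hgS, Matrix.smul_mul, hSQ, Matrix.smul_mul, Matrix.mul_smul]

/-- The members of the factorisation lie in the class. -/
theorem rankone_members {c : K} {y : Matrix (Fin (m + 3)) (Fin (m + 3)) K} {u φ w ψ : Fin (m + 3) → K}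
    (hy : y = c • (1 + vecMulVec u φ)) (hu : u ≠ 0) (hφ : φ ≠ 0) (hw : w ≠ 0) (hψ : ψ ≠ 0)
    (h : ψ ⬝ᵥ w = φ ⬝ᵥ u) {δ : K} (hδ : δ ≠ 0) : Cd δ (c • (1 + vecMulVec w ψ)) y :=
  hy ▸ (rankone_cd hw hψ hu hφ h hδ).smul c

theorem prod_smul_list {a : ℕ} (c : K) (k : Fin a → Matrix (Fin n) (Fin n) K) :
    (List.ofFn fun j => c • k j).prod = c ^ a • (List.ofFn k).prod := by
  induction a with
  | zero => simp
  | succ a ih =>
    rw [List.ofFn_succ, List.prod_cons, ih fun j => k j.succ, List.ofFn_succ, List.prod_cons, Matrix.smul_mul,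
      Matrix.mul_smul, smul_smul, pow_succ']

/-- Three conjugates without a common fixed vector. -/
theorem rankone_three (h4 : Four K) {y G : Matrix (Fin 3) (Fin 3) K} (hy0 : y.det ≠ 0) {c : K}
    {u φ : Fin 3 → K} (hy : y = c • (1 + vecMulVec u φ)) (hu : u ≠ 0) (hφ : φ ≠ 0) (hG : NonScalar G)
    (hdet : G.det = y.det ^ 3) (hrk : 2 ≤ (G - c ^ 3 • 1).rank) :
    Prn (fun k => Cd 1 k y) 3 G := by
  classical
  set ν := 1 + φ ⬝ᵥ u with hν
  have hyd : y.det = c ^ 3 * ν := by rw [hy, det_smul, Fintype.card_fin, det_one_add_uv]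
  have hc : c ≠ 0 := fun h => hy0 (by rw [hyd, h]; ring)
  have hν0 : ν ≠ 0 := fun h => hy0 (by rw [hyd, h, mul_zero])
  set g := (c ^ 3)⁻¹ • G with hg
  have hGg : G = c ^ 3 • g := by rw [hg, smul_smul, mul_inv_cancel₀ (pow_ne_zero _ hc), one_smul]
  have hgrk : 2 ≤ (g - 1).rank := by
    have e : G - c ^ 3 • (1 : Matrix (Fin 3) (Fin 3) K) = (c ^ 3 • 1) * (g - 1) := by
      rw [Matrix.smul_mul, one_mul, smul_sub, ← hGg]
    rw [e] at hrk
    exact hrk.trans (rank_mul_le_right _ _)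
  obtain ⟨Q, w, hQ, hw, hgQ⟩ := rankone_factor (m := 0) h4 hν0 (g := g) (by
      rw [hg, det_smul, Fintype.card_fin, hdet, hyd, inv_pow, mul_pow, ← mul_assoc,
        inv_mul_cancel₀ (pow_ne_zero _ (pow_ne_zero _ hc)), one_mul])
    (Or.inl fun ⟨t, ht⟩ => hG ⟨c ^ 3 * t, by rw [hGg, ht, smul_smul]⟩) fun _ => hgrk
  refine Prn.map_conj (C := fun k => ∀ δ : K, δ ≠ 0 → Cd δ k y)
    (G' := (List.ofFn fun j => c • ((1 : Matrix (Fin 3) (Fin 3) K) + vecMulVec (w j) (Pi.single j 1))).prod)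
    (P := Q) hQ (fun k k' e h => ?_) ?_ ?_
  · have := Cd.trans (⟨Q, rfl, e⟩ : Cd Q.det k k') (h Q.det⁻¹ (inv_ne_zero hQ))
    rwa [mul_inv_cancel₀ hQ] at this
  · rw [prod_smul_list, hGg, Matrix.smul_mul, hgQ, Matrix.mul_smul]
  refine ⟨_, by simp, ?_, rfl, ?_⟩
  · intro k hk
    obtain ⟨j, rfl⟩ := List.mem_ofFn.1 hk
    intro δ hδ
    exact rankone_members hy hu hφ (hw j).1 (fun h => by simpa using congrFun h j)
      (by rw [(hw j).2, hν]; ring) hδ
  · intro e v hv
    have hv' : ∀ j, (v j) • w j = (e / c - 1) • v := by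
      intro j
      have h := hv _ (List.mem_ofFn.2 ⟨j, rfl⟩)
      rw [smul_mulVec, add_mulVec, one_mulVec, vecMulVec_mulVec, single_one_dotProduct, op_smul_eq_smul] at h
      have h2 := congrArg (c⁻¹ • ·) h
      simp only [smul_smul, inv_mul_cancel₀ hc, one_smul] at h2
      rw [← sub_eq_zero, sub_smul, one_smul, div_eq_inv_mul, ← h2]; abel
    by_cases he : e / c - 1 = 0
    · funext j
      have := hv' j
      rw [he, zero_smul] at this
      exact (smul_eq_zero.1 this).resolve_right (hw j).1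
    · by_contra hv0
      have hvj : ∀ j, v j ≠ 0 := fun j h => by
        have := hv' j
        rw [h, zero_smul] at this
        exact hv0 ((smul_eq_zero.1 this.symm).resolve_left he)
      have hwj : ∀ j, w j = ((v j)⁻¹ * (e / c - 1)) • v := fun j => by
        rw [← smul_smul, ← hv' j, smul_smul, inv_mul_cancel₀ (hvj j), one_smul]
      have hpar : ∀ {a : ℕ} (f : Fin a → Fin 3), ∃ ψ, (List.ofFn fun j =>
          (1 : Matrix (Fin 3) (Fin 3) K) + vecMulVec (w (f j)) (Pi.single (f j) 1)).prod = 1 + vecMulVec v ψ := by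
        intro a
        induction a with
        | zero => intro f; exact ⟨0, by simp⟩
        | succ a ih =>
          intro f
          obtain ⟨ψ, hψ⟩ := ih fun j => f j.succ
          set t := (v (f 0))⁻¹ * (e / c - 1)
          refine ⟨ψ + t • (Pi.single (f 0) 1 + (Pi.single (f 0) (1 : K) ⬝ᵥ v) • ψ), ?_⟩
          rw [List.ofFn_succ, List.prod_cons, hψ, hwj (f 0), Matrix.add_mul, one_mul, Matrix.mul_add, mul_one,
            smul_vecMulVec, Matrix.smul_mul, vecMulVec_mul_vecMulVec]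
          simp only [t, vecMulVec_add, vecMulVec_smul, smul_add, smul_smul]
          abel
      obtain ⟨ψ, hψ⟩ := hpar (id : Fin 3 → Fin 3)
      simp only [id] at hψ
      rw [hψ] at hgQ
      have hQu := isUnit_of hQ
      have e1 : g - 1 = Q * vecMulVec v ψ * Q⁻¹ := by
        rw [← Matrix.mul_nonsing_inv_cancel_right Q g hQu, hgQ, Matrix.mul_add, Matrix.add_mul, mul_one,
          Matrix.mul_nonsing_inv _ hQu]
        abel
      rw [e1] at hgrk
      have := (hgrk.trans (rank_mul_le_left _ _)).trans (rank_mul_le_right _ _)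
      have := rank_vecMulVec_le v ψ
      omega

/-- A transvection class: near-scalar targets. -/
theorem transvection_near [Fintype K] (hq : 4 ≤ Fintype.card K) {g : Matrix (Fin (m + 3)) (Fin (m + 3)) K}
    (hdet : g.det = 1) (hrk : (g - 1).rank ≤ 1) :
    ∃ (u : Fin (m + 3) → Fin (m + 3) → K) (φ : Fin (m + 3) → K), φ ≠ 0 ∧ (∀ j, u j ≠ 0 ∧ φ ⬝ᵥ u j = 0) ∧
      (List.ofFn fun j => (1 : Matrix (Fin (m + 3)) (Fin (m + 3)) K) + vecMulVec (u j) φ).prod = g := by
  classical
  -- the target as a transvection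
  obtain ⟨w, φ, hφ, hwφ, hgw⟩ : ∃ w φ, φ ≠ 0 ∧ φ ⬝ᵥ w = 0 ∧ g = 1 + vecMulVec w φ := by
    obtain ⟨w, φ, hN, -⟩ := exists_vecMulVec_of_rank_le_one hrk
    have hg : g = 1 + vecMulVec w φ := by rw [← hN, add_sub_cancel]
    have hd : φ ⬝ᵥ w = 0 := by
      rw [hg, det_one_add_uv] at hdet
      simpa using hdet
    by_cases hφ : φ = 0
    · exact ⟨0, ev 0, fun h => by simpa [ev] using congrFun h 0, by simp, by rw [hg, hφ]; simp⟩
    · exact ⟨w, φ, hφ, hd, hg⟩
  obtain ⟨z, hz, hzφ, a, ha⟩ : ∃ z, z ≠ 0 ∧ φ ⬝ᵥ z = 0 ∧ ∃ a : K, w = a • z := by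
    by_cases hw : w = 0
    · obtain ⟨z, hz, h⟩ := exists_orth (by omega : 2 ≤ m + 3) hφ
      exact ⟨z, hz, by rw [dotProduct_comm]; exact h, 0, by simp [hw]⟩
    · exact ⟨w, hw, hwφ, 1, by simp⟩
  obtain ⟨b, hb0, hbs⟩ : ∃ b : Fin (m + 3) → K, (∀ j, b j ≠ 0) ∧ ∑ j, b j = a := by
    have : ∀ (k : ℕ), 2 ≤ k → ∀ a : K, ∃ b : Fin k → K, (∀ j, b j ≠ 0) ∧ ∑ j, b j = a := by
      intro k hk
      induction k, hk using Nat.le_induction with
      | base =>
        intro a
        obtain ⟨s, hs⟩ := fresh_of_card ({0, a} : Finset K) (lt_of_le_of_lt Finset.card_le_two (by omega))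
        simp only [Finset.mem_insert, Finset.mem_singleton, not_or] at hs
        refine ⟨![s, a - s], fun j => ?_, by simp⟩
        fin_cases j
        · simpa using hs.1
        · simpa [sub_eq_zero] using Ne.symm hs.2
      | succ k _ ih =>
        intro a
        obtain ⟨b, hb, hbs⟩ := ih (a - 1)
        refine ⟨Fin.cons 1 b, fun j => Fin.cases (by simp) (fun j => by simpa using hb j) j, ?_⟩
        rw [Fin.sum_univ_succ]
        simp [hbs]
    exact this (m + 3) (by omega) a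
  refine ⟨fun j => b j • z, φ, hφ, fun j => ⟨smul_ne_zero (hb0 j) hz, by rw [dotProduct_smul, hzφ, smul_zero]⟩, ?_⟩
  have key : ∀ {k : ℕ} (f : Fin k → K), (List.ofFn fun j =>
      (1 : Matrix (Fin (m + 3)) (Fin (m + 3)) K) + vecMulVec (f j • z) φ).prod = 1 + vecMulVec ((∑ j, f j) • z) φ := by
    intro k
    induction k with
    | zero => intro f; simp
    | succ k ih =>
      intro f
      rw [List.ofFn_succ, List.prod_cons, ih, Fin.sum_univ_succ, Matrix.add_mul, one_mul, Matrix.mul_add, mul_one,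
        vecMulVec_mul_vecMulVec, dotProduct_smul, hzφ, smul_zero, zero_smul, vecMulVec_zero, add_zero, add_smul,
        add_vecMulVec]
      abel
  rw [key, hbs, hgw, ha]

/-- Rank-one classes: every admissible target is a product of `n` conjugates. -/
theorem rankone_all [Fintype K] (hq : 4 ≤ Fintype.card K) {y G : Matrix (Fin (m + 3)) (Fin (m + 3)) K}
    (hy0 : y.det ≠ 0) {c : K} {u φ : Fin (m + 3) → K} (hy : y = c • (1 + vecMulVec u φ)) (hu : u ≠ 0) (hφ : φ ≠ 0)
    (hdet : G.det = y.det ^ (m + 3)) (hG : NonScalar G ∨ G = y.det • 1) :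
    Prd (fun k => Cd 1 k y) (m + 3) G := by
  classical
  set ν := 1 + φ ⬝ᵥ u with hν
  have hyd : y.det = c ^ (m + 3) * ν := by rw [hy, det_smul, Fintype.card_fin, det_one_add_uv]
  have hc : c ≠ 0 := fun h => hy0 (by rw [hyd, h, zero_pow (by omega), zero_mul])
  have hν0 : ν ≠ 0 := fun h => hy0 (by rw [hyd, h, mul_zero])
  set g := (c ^ (m + 3))⁻¹ • G with hg
  have hGg : G = c ^ (m + 3) • g := by rw [hg, smul_smul, mul_inv_cancel₀ (pow_ne_zero _ hc), one_smul]
  have hgd : g.det = ν ^ (m + 3) := by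
    rw [hg, det_smul, Fintype.card_fin, hdet, hyd, inv_pow, mul_pow, ← mul_assoc,
      inv_mul_cancel₀ (pow_ne_zero _ (pow_ne_zero _ hc)), one_mul]
  by_cases hnear : ν = 1 ∧ (g - 1).rank ≤ 1
  · obtain ⟨hν1, hrk⟩ := hnear
    obtain ⟨w, ψ, hψ, hw, hp⟩ := transvection_near hq (by rw [hgd, hν1, one_pow]) hrk
    refine ⟨List.ofFn fun j => c • ((1 : Matrix (Fin (m + 3)) (Fin (m + 3)) K) + vecMulVec (w j) ψ), by simp,
      fun k hk => ?_, by rw [prod_smul_list, hp, ← hGg]⟩
    obtain ⟨j, rfl⟩ := List.mem_ofFn.1 hk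
    exact rankone_members hy hu hφ (hw j).1 hψ (by rw [(hw j).2]; linear_combination hν - hν1) one_ne_zero
  · obtain ⟨Q, w, hQ, hw, hgQ⟩ := rankone_factor (four_of_card hq) hν0 hgd (by
      rcases hG with h | h
      · exact Or.inl fun ⟨t, ht⟩ => h ⟨c ^ (m + 3) * t, by rw [hGg, ht, smul_smul]⟩
      · exact Or.inr (by rw [hg, h, hyd, smul_smul, inv_mul_cancel_left₀ (pow_ne_zero _ hc)]))
      fun h => by push Not at hnear; exact hnear h
    refine Prd.map_conj (C := fun k => ∀ δ : K, δ ≠ 0 → Cd δ k y) (G' := (List.ofFn fun j =>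
      c • ((1 : Matrix (Fin (m + 3)) (Fin (m + 3)) K) + vecMulVec (w j) (Pi.single j 1))).prod) (P := Q) hQ
      (fun k k' e h => ?_) ?_ ?_
    · have := Cd.trans (⟨Q, rfl, e⟩ : Cd Q.det k k') (h Q.det⁻¹ (inv_ne_zero hQ))
      rwa [mul_inv_cancel₀ hQ] at this
    · rw [prod_smul_list, hGg, Matrix.smul_mul, hgQ, Matrix.mul_smul]
    refine ⟨_, by simp, ?_, rfl⟩
    intro k hk
    obtain ⟨j, rfl⟩ := List.mem_ofFn.1 hk
    intro δ hδ
    exact rankone_members hy hu hφ (hw j).1 (fun h => by simpa using congrFun h j)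
      (by rw [(hw j).2, hν]; ring) hδ

end CfsgLib.Classical.Covering
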