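import Cfsg.Agent.Lib.Classical.Covering.Grouped
import Cfsg.Agent.Lib.Classical.RegularUnipotentProduct.Factor

/-!
# Products of two regular unipotent matrices
-/

set_option autoImplicit false

namespace CfsgLib.Classical.Covering

open Matrix Polynomial CfsgLib.Classical.UnipotentGen CfsgLib.Classical.Sourour
open CfsgLib.Classical.RegularUnipotentProduct (Four Wide LowReg UpReg factor)

variable {K : Type*} [Field K] {n m : ℕ}

/-- The constant list. -/
def cst (n : ℕ) (v : K) : Fin n → K := fun _ => v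

theorem grouped_cst (v : K) : Grouped (cst n v) := fun _ _ _ _ _ _ => rfl

/-- A regular unipotent matrix. -/
def RU (A : Matrix (Fin n) (Fin n) K) : Prop := Sim A (std (cst n 1))

theorem four_of_card [Fintype K] (h4 : 4 ≤ Fintype.card K) : Four K := fun s hs => by
  classical exact fresh_of_card s (by omega)

theorem smul_std (v : K) (hv : v ≠ 0) (d : Fin (m + 1) → K) (hd : Grouped d) :
    Sim (v • std d) (std fun i => v * d i) := by
  have hr : Reg (fun i => v * d i) (v • std d) := by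
    refine ⟨fun i => by rw [Matrix.smul_apply, (reg_std d).1, smul_eq_mul], fun i j => ⟨fun h => ?_, fun h e => ?_⟩⟩
    · rw [Matrix.smul_apply, ((reg_std d).2 i j).1 h, smul_zero]
    · rw [Matrix.smul_apply, smul_eq_mul]
      exact mul_ne_zero hv (((reg_std d).2 i j).2 h (mul_left_cancel₀ hv e))
  exact hr.sim_std fun i j k hij hjk h => by rw [hd i j k hij hjk (mul_left_cancel₀ hv h)]

theorem RU.smul {A : Matrix (Fin (m + 1)) (Fin (m + 1)) K} (hA : RU A) {v : K} (hv : v ≠ 0) :
    Sim (v • A) (std (cst (m + 1) v)) := by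
  refine (Sim.smul hA v).trans ?_
  have := smul_std v hv (cst (m + 1) 1) (grouped_cst 1)
  rwa [show (fun i => v * cst (m + 1) (1 : K) i) = cst (m + 1) v from funext fun _ => mul_one v] at this

theorem RU.of_reg {A : Matrix (Fin (m + 1)) (Fin (m + 1)) K} (hA : Reg (cst (m + 1) 1) A) : RU A :=
  hA.sim_std (grouped_cst 1)

theorem RU.transpose {A : Matrix (Fin (m + 1)) (Fin (m + 1)) K} (hA : RU A) : RU Aᵀ := by
  have hc : Cyclic A := Cyclic.of_sim hA ((reg_std _).cyclic (grouped_cst 1))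
  refine sim_std_of (grouped_cst 1) hc.transpose ?_
  rw [charpoly_transpose, hA.charpoly_eq, (reg_std _).charpoly_eq]

theorem ru_of_lowReg {L : Matrix (Fin (m + 1)) (Fin (m + 1)) K} (hL : LowReg L) : RU L := by
  have : RU Lᵀ := RU.of_reg ⟨fun i => (hL i i).2.1 rfl, fun i j =>
    ⟨fun h => (hL j i).1 h, fun h _ => (hL j i).2.2 h⟩⟩
  simpa using this.transpose

theorem ru_of_upReg {U : Matrix (Fin (m + 1)) (Fin (m + 1)) K} (hU : UpReg U) : RU U :=
  RU.of_reg ⟨fun i => (hU i i).2.1 rfl, fun i j => ⟨(hU i j).1, fun h _ => (hU i j).2.2 h⟩⟩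

theorem RU.inv {A : Matrix (Fin (m + 1)) (Fin (m + 1)) K} (hA : Reg (cst (m + 1) 1) A) : RU A⁻¹ := by
  have hdet : A.det ≠ 0 := by rw [hA.det_eq]; simp [cst]
  refine sim_std_of (grouped_cst 1) ((hA.cyclic (grouped_cst 1)).inv hdet) ?_
  haveI := Matrix.invertibleOfIsUnitDet A (isUnit_of hdet)
  have h1 : BlockTriangular A⁻¹ id := blockTriangular_inv_of_blockTriangular fun i j h => (hA.2 i j).1 h
  rw [charpoly_of_isUpperTriangular _ h1]
  refine Finset.prod_congr rfl fun i _ => ?_
  have h2 : (A * A⁻¹) i i = 1 := by rw [Matrix.mul_nonsing_inv _ (isUnit_of hdet), one_apply_eq]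
  rw [Matrix.mul_apply, Finset.sum_eq_single i, hA.1] at h2
  · simp only [cst, one_mul] at h2 ⊢
    rw [h2]
  · intro l _ hl
    rcases lt_or_gt_of_ne hl with h | h
    · rw [(hA.2 i l).1 h, zero_mul]
    · rw [h1 (show id i < id l from h), mul_zero]
  · simp

theorem rank_vecMulVec_le (u φ : Fin n → K) : (vecMulVec u φ).rank ≤ 1 := Matrix.rank_vecMulVec_le u φ

theorem exists_vecMulVec_of_rank_le_one {N : Matrix (Fin n) (Fin n) K} (h : N.rank ≤ 1) :
    ∃ u φ : Fin n → K, N = vecMulVec u φ ∧ (u = 0 ∨ u ∈ LinearMap.range N.mulVecLin) := by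
  classical
  obtain ⟨u, hu⟩ := finrank_le_one_iff.1 (show Module.finrank K (LinearMap.range N.mulVecLin) ≤ 1 from h)
  choose φ hφ using fun j : Fin n => hu ⟨N.mulVecLin (Pi.single j 1), ⟨_, rfl⟩⟩
  refine ⟨u.1, φ, ?_, Or.inr u.2⟩
  ext i j
  have := congrArg (fun w : LinearMap.range N.mulVecLin => w.1 i) (hφ j)
  simpa [mulVec_single_one, vecMulVec_apply, mul_comm] using this.symm

theorem exists_basis_ends {u c : Fin (m + 2) → K} (hc : c ≠ 0) (hu : ∀ a : K, c ≠ a • u) :
    ∃ (P : Matrix (Fin (m + 2)) (Fin (m + 2)) K) (e : K), P.det ≠ 0 ∧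
      u = e • (fun i => P i 0) ∧ c = fun i => P i (Fin.last (m + 1)) := by
  classical
  -- make `u` non-zero
  obtain ⟨u', e, hu', hue⟩ : ∃ (u' : Fin (m + 2) → K) (e : K), (∀ a : K, c ≠ a • u') ∧ u = e • u' ∧ u' ≠ 0 := by
    by_cases h0 : u = 0
    · obtain ⟨w, hw0, hw⟩ : ∃ w : Fin (m + 2) → K, w ≠ 0 ∧ ∀ a : K, c ≠ a • w := by
        obtain ⟨i, hi⟩ : ∃ i, c i ≠ 0 := Function.ne_iff.1 hc
        obtain ⟨j, hj⟩ := exists_ne i
        refine ⟨Pi.single j 1, fun h => by simpa using congrFun h j, fun a h => hi ?_⟩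
        rw [h]; simp [hj.symm]
      exact ⟨w, 0, hw, by simp [h0], hw0⟩
    · exact ⟨u, 1, hu, by simp, h0⟩
  obtain ⟨hue, hu0⟩ := hue
  have hli : LinearIndependent K ![c, u'] := by
    rw [linearIndependent_fin2]
    exact ⟨by simpa using hu0, fun a h => hu' a (by simpa using h.symm)⟩
  have hs := hli.linearIndepOn_id
  set b := Module.Basis.extend hs with hb
  have hmem : ∀ w ∈ Set.range ![c, u'], w ∈ hs.extend (Set.subset_univ _) :=
    fun w hw => hs.subset_extend _ hw
  set ic : hs.extend (Set.subset_univ _) := ⟨c, hmem c ⟨0, rfl⟩⟩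
  set iu : hs.extend (Set.subset_univ _) := ⟨u', hmem u' ⟨1, rfl⟩⟩
  have hne : ic ≠ iu := fun h => hu' 1 (by rw [one_smul]; exact congrArg Subtype.val h)
  haveI : Fintype (hs.extend (Set.subset_univ (Set.range ![c, u']))) := FiniteDimensional.fintypeBasisIndex b
  have hcard : Fintype.card (hs.extend (Set.subset_univ (Set.range ![c, u']))) = m + 2 := by
    rw [← Module.finrank_eq_card_basis b, Module.finrank_fin_fun]
  let e₀ := Fintype.equivFinOfCardEq hcard
  let e₁ := e₀.trans (Equiv.swap (e₀ iu) 0)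
  let σ := e₁.trans (Equiv.swap (e₁ ic) (Fin.last (m + 1)))
  have h1u : e₁ iu = 0 := by simp [e₁]
  have hσc : σ ic = Fin.last (m + 1) := by simp [σ]
  have hσu : σ iu = 0 := by
    have h1c : e₁ ic ≠ 0 := fun h => hne (e₁.injective (h.trans h1u.symm))
    simp only [σ, Equiv.trans_apply, h1u]
    exact Equiv.swap_apply_of_ne_of_ne h1c.symm (by simp [Fin.ext_iff])
  refine ⟨Matrix.of fun i j => (b.reindex σ) j i, e, ?_, ?_, ?_⟩
  · rw [← isUnit_iff_ne_zero, ← Matrix.isUnit_iff_isUnit_det, ← Matrix.linearIndependent_cols_iff_isUnit]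
    exact (b.reindex σ).linearIndependent
  · rw [hue]
    congr 1
    funext i
    simp only [of_apply, Module.Basis.reindex_apply, show σ.symm 0 = iu from (Equiv.symm_apply_eq σ).2 hσu.symm, hb,
      Module.Basis.extend_apply_self]
    rfl
  · funext i
    simp only [of_apply, Module.Basis.reindex_apply,
      show σ.symm (Fin.last (m + 1)) = ic from (Equiv.symm_apply_eq σ).2 hσc.symm, hb, Module.Basis.extend_apply_self]
    rfl

/-- Two regular unipotent factors, the first with a fixed covector not orthogonal to `c`. -/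
theorem reg_prod (h4 : Four K) {S : Matrix (Fin (m + 2)) (Fin (m + 2)) K} (hdet : S.det = 1)
    (hS : NonScalar S ∨ S = 1) {c : Fin (m + 2) → K} (hc : c ≠ 0)
    (hgood : 2 ≤ (S - 1).rank ∨ c ∉ LinearMap.range (S - 1).mulVecLin) :
    ∃ A B : Matrix (Fin (m + 2)) (Fin (m + 2)) K, RU A ∧ RU B ∧ S = A * B ∧
      ∃ f, f ᵥ* A = f ∧ f ⬝ᵥ c ≠ 0 := by
  classical
  by_cases hrk : 2 ≤ (S - 1).rank
  · have hns : NonScalar S := hS.resolve_right fun h => by
      rw [h, sub_self, Matrix.rank_zero] at hrk; omega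
    obtain ⟨Q, L, U, hQ, hSQ, hL, hU, hcQ, -⟩ := factor h4 (m + 1) S hdet (fun _ => ⟨hns, hrk⟩) c c hc hc
    have hQu := isUnit_of hQ
    refine ⟨Q * L * Q⁻¹, Q * U * Q⁻¹, ?_, ?_, ?_, ev 0 ᵥ* Q⁻¹, ?_, ?_⟩
    · exact (sim_of hQ (by rw [Matrix.nonsing_inv_mul_cancel_right _ _ hQu])).trans (ru_of_lowReg hL)
    · exact (sim_of hQ (by rw [Matrix.nonsing_inv_mul_cancel_right _ _ hQu])).trans (ru_of_upReg hU)
    · rw [Matrix.mul_assoc (Q * L), Matrix.mul_assoc Q U, Matrix.nonsing_inv_mul_cancel_left _ _ hQu,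
        ← Matrix.mul_assoc (Q * L), Matrix.mul_assoc Q L, ← hSQ, Matrix.mul_nonsing_inv_cancel_right _ _ hQu]
    · rw [vecMul_vecMul, ← Matrix.mul_assoc, ← Matrix.mul_assoc, Matrix.nonsing_inv_mul _ hQu, one_mul,
        ← vecMul_vecMul]
      congr 1
      funext j
      rw [ev, single_one_vecMul, Pi.single_apply]
      split_ifs with h
      · subst h; exact (hL 0 0).2.1 rfl
      · exact (hL 0 j).1 (Nat.pos_of_ne_zero fun e => h (Fin.ext e))
    · rw [← dotProduct_mulVec, ev, single_one_dotProduct]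
      exact hcQ
  · have hcim : c ∉ LinearMap.range (S - 1).mulVecLin := hgood.resolve_left hrk
    obtain ⟨u, φ, hN, hu⟩ := exists_vecMulVec_of_rank_le_one (show (S - 1).rank ≤ 1 by omega)
    have hcu : ∀ a : K, c ≠ a • u := by
      rintro a rfl
      rcases hu with hu | hu
      · exact hc (by rw [hu, smul_zero])
      · exact hcim (Submodule.smul_mem _ a hu)
    obtain ⟨P, e, hP, hue, hcP⟩ := exists_basis_ends hc hcu
    have hPu := isUnit_of hP
    set ψ : Fin (m + 2) → K := e • (φ ᵥ* P) with hψ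
    set S' : Matrix (Fin (m + 2)) (Fin (m + 2)) K := 1 + vecMulVec (ev 0) ψ with hS'
    have hSP : S * P = P * S' := by
      have hS1 : S = 1 + vecMulVec u φ := by rw [← hN, add_sub_cancel]
      have hu' : u = e • (P *ᵥ ev 0) := by rw [hue, ev, mulVec_single_one]; rfl
      rw [hS1, hS', Matrix.add_mul, one_mul, Matrix.mul_add, mul_one, Matrix.vecMulVec_mul, Matrix.mul_vecMulVec,
        hψ, hu', smul_vecMulVec, vecMulVec_smul]
    have hS'd : S'.det = 1 := by
      have h := congrArg Matrix.det hSP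
      rw [det_mul, det_mul, hdet, one_mul] at h
      exact (mul_eq_left₀ hP).1 h.symm
    have hψ0 : ψ 0 = 0 := by
      rw [hS', det_of_isUpperTriangular] at hS'd
      · rw [Fin.prod_univ_succ, Finset.prod_eq_one fun i _ => ?_] at hS'd
        · simpa [vecMulVec_apply, ev] using hS'd
        · simp [vecMulVec_apply, ev]
      · intro i j hij
        have h : j < i := hij
        simp [vecMulVec_apply, ev, h.ne', Fin.ne_zero_of_lt h]
    obtain ⟨t, ht0, ht1, -⟩ := h4.fresh 0 (-ψ 1) 0
    let N : Matrix (Fin (m + 2)) (Fin (m + 2)) K :=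
      Matrix.of fun i j => if i = j then 1 else if j.val = i.val + 1 then t else 0
    have hNreg : Reg (cst (m + 2) 1) N := by
      refine ⟨fun i => by simp [N, cst], fun i j => ⟨fun h => ?_, fun h _ => ?_⟩⟩
      · simp only [N, of_apply]; rw [if_neg (fun e => by subst e; omega), if_neg (by omega)]
      · simp only [N, of_apply]; rw [if_neg (fun e => by subst e; omega), if_pos h]; exact ht0
    have hNd : N.det ≠ 0 := by rw [hNreg.det_eq]; simp [cst]
    set A' := S' * N with hA'
    have hA'e : ∀ i j, A' i j = N i j + (if i = 0 then (ψ ᵥ* N) j else 0) := fun i j => by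
      rw [hA', hS', Matrix.add_mul, one_mul, Matrix.vecMulVec_mul, Matrix.add_apply, vecMulVec_apply, ev,
        Pi.single_apply]
      split_ifs <;> simp
    have hψN : ∀ j : Fin (m + 2), j.val ≤ 1 → (ψ ᵥ* N) j = ψ j := fun j hj => by
      rw [vecMul, dotProduct, Finset.sum_eq_single j]
      · simp [N]
      · intro l _ hl
        rcases eq_or_ne l 0 with rfl | h0
        · rw [hψ0, zero_mul]
        · have : l.val ≠ 0 := fun e => h0 (Fin.ext e)
          rw [(hNreg.2 l j).1 (by have : l.val ≠ j.val := fun e => hl (Fin.ext e); omega), mul_zero]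
      · simp
    have hA'reg : Reg (cst (m + 2) 1) A' := by
      refine ⟨fun i => ?_, fun i j => ⟨fun h => ?_, fun h _ => ?_⟩⟩
      · rw [hA'e, hNreg.1]
        split_ifs with h
        · subst h; rw [hψN 0 (by simp), hψ0, add_zero]
        · rw [add_zero]
      · rw [hA'e, (hNreg.2 i j).1 h, if_neg (fun e => by subst e; simp at h), add_zero]
      · rw [hA'e, show N i j = t by simp only [N, of_apply]; rw [if_neg (fun e => by subst e; omega), if_pos h]]
        split_ifs with h'
        · subst h'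
          obtain rfl : j = 1 := Fin.ext (by simpa using h)
          rw [hψN 1 (by simp)]
          exact fun h' => ht1 (by linear_combination h')
        · rwa [add_zero]
    have hS'A : S' = A' * N⁻¹ := by rw [hA', Matrix.mul_nonsing_inv_cancel_right _ _ (isUnit_of hNd)]
    refine ⟨P * A' * P⁻¹, P * N⁻¹ * P⁻¹, ?_, ?_, ?_, ev (Fin.last (m + 1)) ᵥ* P⁻¹, ?_, ?_⟩
    · exact (sim_of hP (by rw [Matrix.nonsing_inv_mul_cancel_right _ _ hPu])).trans (RU.of_reg hA'reg)
    · exact (sim_of hP (by rw [Matrix.nonsing_inv_mul_cancel_right _ _ hPu])).trans (RU.inv hNreg)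
    · rw [Matrix.mul_assoc (P * A'), Matrix.mul_assoc P N⁻¹, Matrix.nonsing_inv_mul_cancel_left _ _ hPu,
        ← Matrix.mul_assoc (P * A'), Matrix.mul_assoc P A', ← hS'A, ← hSP,
        Matrix.mul_nonsing_inv_cancel_right _ _ hPu]
    · rw [vecMul_vecMul, ← Matrix.mul_assoc, ← Matrix.mul_assoc, Matrix.nonsing_inv_mul _ hPu, one_mul,
        ← vecMul_vecMul]
      congr 1
      funext j
      rw [ev, single_one_vecMul, Pi.single_apply]
      split_ifs with h
      · subst h; exact hA'reg.1 _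
      · exact (hA'reg.2 _ j).1 (by
          have : j.val ≠ m + 1 := fun e => h (Fin.ext e)
          simp; omega)
    · rw [← dotProduct_mulVec]
      have : P⁻¹ *ᵥ c = ev (Fin.last (m + 1)) := by
        rw [show c = P *ᵥ ev (Fin.last (m + 1)) by rw [hcP, ev, mulVec_single_one]; rfl, mulVec_mulVec,
          Matrix.nonsing_inv_mul _ hPu, one_mulVec]
      rw [this, ev, single_one_dotProduct, Pi.single_eq_same]
      exact one_ne_zero

/-- Two regular unipotent factors. -/
theorem reg_prod' (h4 : Four K) {S : Matrix (Fin (m + 2)) (Fin (m + 2)) K} (hdet : S.det = 1)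
    (hS : NonScalar S ∨ S = 1) :
    ∃ A B : Matrix (Fin (m + 2)) (Fin (m + 2)) K, RU A ∧ RU B ∧ S = A * B := by
  classical
  by_cases hrk : 2 ≤ (S - 1).rank
  · obtain ⟨A, B, hA, hB, h, -⟩ := reg_prod h4 hdet hS (c := ev 0) (fun h => by
      simpa [ev] using congrFun h 0) (Or.inl hrk)
    exact ⟨A, B, hA, hB, h⟩
  · have hne : LinearMap.range (S - 1).mulVecLin ≠ ⊤ := fun h => hrk (by
      rw [Matrix.rank, h, finrank_top, Module.finrank_fin_fun]; omega)
    obtain ⟨c, hc⟩ : ∃ c, c ∉ LinearMap.range (S - 1).mulVecLin := by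
      by_contra! h
      exact hne ((Submodule.eq_top_iff').2 h)
    obtain ⟨A, B, hA, hB, h, -⟩ := reg_prod h4 hdet hS (c := c) (fun h => hc (h ▸ Submodule.zero_mem _)) (Or.inr hc)
    exact ⟨A, B, hA, hB, h⟩

end CfsgLib.Classical.Covering
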