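import Cfsg.Agent.Lib.Classical.Covering.Lists

/-!
# Products of conjugates of a matrix without eigenvalues, in the general linear group
-/

set_option autoImplicit false

namespace CfsgLib.Classical.Covering

open Matrix Polynomial CfsgLib.Classical.UnipotentGen CfsgLib.Classical.Sourour
open CfsgLib.Classical.RegularUnipotentProduct (Four)

variable {K : Type*} [Field K] {n m : ℕ}

/-- All members of the cyclic class of a list are products of `m` members of `C`. -/
def PCls (C : Matrix (Fin n) (Fin n) K → Prop) (m : ℕ) (L : Fin n → K) : Prop :=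
  ∀ h, Sim h (std L) → Prd C m h

/-- All members of the cyclic class of a list are products of `m` conjugates of `x`. -/
abbrev Cls (x : Matrix (Fin n) (Fin n) K) (m : ℕ) (L : Fin n → K) : Prop := PCls (fun y => Sim y x) m L

theorem PCls.transfer {C : Matrix (Fin n) (Fin n) K → Prop} {L L' : Fin n → K} (hL : Grouped L) (hL' : Grouped L')
    (h : ∏ i, (X - Polynomial.C (L i)) = ∏ i, (X - Polynomial.C (L' i))) (hc : PCls C m L) : PCls C m L' :=
  fun g hg => hc g (hg.trans (sim_std' hL' hL h.symm))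

theorem PCls.prod_eq {C : Matrix (Fin n) (Fin n) K → Prop} {D : K} (hC : ∀ k, C k → k.det = D) {L : Fin n → K}
    (hc : PCls C m L) : ∏ i, L i = D ^ m := by
  rw [← det_std]
  exact Prd.det hC (hc _ (Sim.refl _))

theorem cls_of_pair {x h : Matrix (Fin n) (Fin n) K} (hh : h.det ≠ 0) {L : Fin n → K}
    (hk : Sim (h * x * h⁻¹ * x) (std L)) : Cls x 2 L := fun g hg =>
  Prd.sim (hg.trans hk.symm) (Prd.pair ((Cd.conj hh x).sim hh) (Sim.refl x))

/-- The square roots of `c`. -/
noncomputable def roots2 (c : K) : Finset K := by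
  classical exact if h : ∃ r : K, r * r = c then {h.choose, -h.choose} else ∅

theorem mem_roots2 {c v : K} (h : v * v = c) : v ∈ roots2 c := by
  classical
  have hex : ∃ r : K, r * r = c := ⟨v, h⟩
  simp only [roots2, dif_pos hex, Finset.mem_insert, Finset.mem_singleton]
  have e : (v - hex.choose) * (v + hex.choose) = 0 := by linear_combination h - hex.choose_spec
  rcases mul_eq_zero.1 e with e | e
  · exact Or.inl (sub_eq_zero.1 e)
  · exact Or.inr (eq_neg_of_add_eq_zero_left e)

theorem card_roots2 (c : K) : (roots2 c).card ≤ 2 ∧ ((2 : K) = 0 → (roots2 c).card ≤ 1) := by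
  classical
  simp only [roots2]
  split_ifs with h
  · refine ⟨Finset.card_le_two, fun h2 => ?_⟩
    rw [show -h.choose = h.choose by linear_combination (-h.choose) * h2]
    simp
  · simp

theorem two_eq_zero_of_card [Fintype K] (h : Fintype.card K = 4) : (2 : K) = 0 := by
  have := Nat.cast_card_eq_zero K
  rw [h] at this
  have h22 : (2 : K) * 2 = 0 := by push_cast at this; linear_combination this
  exact mul_self_eq_zero.1 h22

theorem pow_four_card [Fintype K] (h : Fintype.card K = 5) {a : K} (ha : a ≠ 0) : a ^ 4 = 1 := by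
  have := FiniteField.pow_card_sub_one_eq_one a ha
  rwa [h] at this

theorem pow_three_card [Fintype K] (h : Fintype.card K = 4) {a : K} (ha : a ≠ 0) : a ^ 3 = 1 := by
  have := FiniteField.pow_card_sub_one_eq_one a ha
  rwa [h] at this

theorem rank_lt_det_zero {Z : Matrix (Fin n) (Fin n) K} (h : Z.rank < n) : Z.det = 0 := by
  by_contra hd
  rw [Matrix.rank_of_isUnit _ ((Matrix.isUnit_iff_isUnit_det _).2 (isUnit_of hd)), Fintype.card_fin] at h
  omega

/-- The corner scalar in even dimension. -/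
theorem good_kappa [Fintype K] (hq : 4 ≤ Fintype.card K) (hn : 3 ≤ n) {Z : Matrix (Fin n) (Fin n) K}
    (hno : ¬ ∃ κ : K, κ ^ n = Z.det) (hsq : IsSquare Z.det) (hZ : Z.det ≠ 0) :
    ∃ κ : K, κ ≠ 0 ∧ 3 ≤ (Z - κ • 1).rank ∧ (Fintype.card K = 5 → ¬ IsSquare κ ∧ Even n) := by
  classical
  have heven : Fintype.card K = 5 → Even n := by
    intro h5
    by_contra hodd
    obtain ⟨r, hr⟩ := hsq
    have hr0 : r ≠ 0 := fun h => hZ (by rw [hr, h, zero_mul])
    obtain ⟨j, hj⟩ := Nat.not_even_iff_odd.1 hodd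
    refine hno ⟨r * r, ?_⟩
    have e : (r * r) ^ (2 * j + 1) = r * r := by
      rw [pow_succ, pow_mul, show (r * r) ^ 2 = r ^ 4 by ring, pow_four_card h5 hr0, one_pow, one_mul]
    rw [← hj] at e
    rw [e, hr]
  by_cases h5 : Fintype.card K = 5
  · -- a pair of non-squares
    have hch : ringChar K ≠ 2 := fun h => by
      have := FiniteField.even_card_of_char_two h
      omega
    obtain ⟨a, ha⟩ := FiniteField.exists_nonsquare hch
    have ha0 : a ≠ 0 := fun h => ha (h ▸ IsSquare.zero)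
    have ha2 : a * a = -1 := by
      rcases FiniteField.pow_dichotomy hch ha0 with h | h
      · exact absurd ((FiniteField.isSquare_iff hch ha0).2 h) ha
      · rwa [h5, show (5 : ℕ) / 2 = 2 from rfl, pow_two] at h
    have hna : ¬ IsSquare (-a) := fun h => by
      have h' := (FiniteField.isSquare_iff hch (neg_ne_zero.2 ha0)).1 h
      rw [h5, show (5 : ℕ) / 2 = 2 from rfl, neg_sq, pow_two, ha2] at h'
      exact Ring.two_ne_zero hch (by linear_combination -h')
    by_cases h1 : 3 ≤ (Z - a • 1).rank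
    · exact ⟨a, ha0, h1, fun h => ⟨ha, heven h⟩⟩
    by_cases h2 : 3 ≤ (Z - (-a) • 1).rank
    · exact ⟨-a, neg_ne_zero.2 ha0, h2, fun h => ⟨hna, heven h⟩⟩
    exfalso
    have hne : a ≠ -a := fun h => Ring.two_ne_zero hch
      (by
        have : (2 : K) * a = 0 := by linear_combination h
        exact (mul_eq_zero.1 this).resolve_right ha0)
    obtain ⟨hle, h4⟩ := two_eigen hne (by omega : (Z - a • 1).rank ≤ 2) (by omega)
    obtain rfl : n = 4 := by
      rcases Nat.lt_or_ge n 4 with h | h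
      · obtain ⟨j, hj⟩ := heven h5
        omega
      · omega
    refine hno ⟨1, ?_⟩
    rw [(h4 rfl).1, one_pow]
    linear_combination (-(a * a) + 1) * ha2
  · have five : ∀ κ : K, (Fintype.card K = 5 → ¬ IsSquare κ ∧ Even n) := fun κ h => absurd h h5
    -- three distinct non-zero scalars
    obtain ⟨g, hg0, hg1, hg2⟩ : ∃ g : K, g ≠ 0 ∧ g ≠ 1 ∧ g * g ≠ 1 := by
      obtain ⟨g, hg⟩ := fresh_of_card ({0, 1, -1} : Finset K) (lt_of_le_of_lt Finset.card_le_three (by omega))
      simp only [Finset.mem_insert, Finset.mem_singleton, not_or] at hg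
      exact ⟨g, hg.1, hg.2.1, fun h => by
        rcases mul_self_eq_one_iff.1 h with h | h
        · exact hg.2.1 h
        · exact hg.2.2 h⟩
    have hgg : g * g ≠ g := fun h => hg1 (mul_left_cancel₀ hg0 (h.trans (mul_one g).symm))
    by_cases h1 : 3 ≤ (Z - (1 : K) • 1).rank
    · exact ⟨1, one_ne_zero, h1, five 1⟩
    by_cases h2 : 3 ≤ (Z - g • 1).rank
    · exact ⟨g, hg0, h2, five g⟩
    by_cases h3 : 3 ≤ (Z - (g * g) • 1).rank
    · exact ⟨g * g, mul_ne_zero hg0 hg0, h3, five _⟩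
    rcases Nat.lt_or_ge n 4 with hn4 | hn4
    swap
    · exfalso
      obtain ⟨hle, h4⟩ := two_eigen hg1.symm (by omega) (by omega : (Z - g • 1).rank ≤ 2)
      obtain rfl : n = 4 := by omega
      exact (h4 rfl).2 (g * g) hg2 hgg (rank_lt_det_zero (by omega))
    obtain rfl : n = 3 := by omega
    have hinj : Function.Injective ![1, g, g * g] := by
      intro i j h
      fin_cases i <;> fin_cases j <;> first | rfl | (simp at h; first
        | exact absurd h hg1.symm | exact absurd h.symm hg1.symm | exact absurd h hg2.symm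
        | exact absurd h.symm hg2.symm | exact absurd h hgg | exact absurd h hgg.symm
        | exact absurd h hg1 | exact absurd h hg0)
    obtain ⟨P, hP, hPd⟩ := exists_diag Z ![1, g, g * g] hinj (fun i => by
      fin_cases i
      · exact rank_lt_det_zero (show (Z - (1 : K) • 1).rank < 3 by omega)
      · exact rank_lt_det_zero (show (Z - g • 1).rank < 3 by omega)
      · exact rank_lt_det_zero (show (Z - (g * g) • 1).rank < 3 by omega))
    have hdetZ : Z.det = g * (g * g) := by
      have := congrArg Matrix.det hPd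
      rw [det_mul, det_mul, det_diagonal, mul_comm P.det] at this
      rw [mul_right_cancel₀ hP this, Fin.prod_univ_three]
      simp
    by_cases h4 : Fintype.card K = 4
    · exfalso
      refine hno ⟨1, ?_⟩
      rw [hdetZ, one_pow, ← mul_assoc, ← pow_two, ← pow_succ]
      exact (pow_three_card h4 hg0).symm
    obtain ⟨e, he⟩ := fresh_of_card ({0, 1, g, g * g} : Finset K) (lt_of_le_of_lt Finset.card_le_four (by omega))
    simp only [Finset.mem_insert, Finset.mem_singleton, not_or] at he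
    refine ⟨e, he.1, ?_, five e⟩
    have hdet : (Z - e • 1).det ≠ 0 := by
      have e2 : (Z - e • 1) * P = P * diagonal (fun i => ![1, g, g * g] i - e) := by
        rw [Matrix.sub_mul, hPd, Matrix.smul_mul, one_mul,
          show diagonal (fun i => ![1, g, g * g] i - e) = diagonal ![1, g, g * g] - e • (1 : Matrix (Fin 3) (Fin 3) K) by
            rw [smul_one_eq_diagonal, diagonal_sub], Matrix.mul_sub, Matrix.mul_smul, mul_one]
      intro h0
      have := congrArg Matrix.det e2
      rw [det_mul, det_mul, h0, zero_mul, det_diagonal] at this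
      refine mul_ne_zero hP (Finset.prod_ne_zero_iff.2 fun i _ => sub_ne_zero.2 ?_) this.symm
      fin_cases i <;> simp <;> first | exact Ne.symm he.2.1 | exact Ne.symm he.2.2.1 | exact Ne.symm he.2.2.2
    rw [Matrix.rank_of_isUnit _ ((Matrix.isUnit_iff_isUnit_det _).2 (isUnit_of hdet)), Fintype.card_fin]

/-- A split cyclic class among the products of two conjugates, even dimension. -/
theorem gl_two_even [Fintype K] (hq : 4 ≤ Fintype.card K) {j : ℕ}
    {x : Matrix (Fin (j + 2 + 1 + (j + 2 + 1))) (Fin (j + 2 + 1 + (j + 2 + 1))) K} (hx : RootFree x) :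
    ∃ L : Fin (j + 2 + 1 + (j + 2 + 1)) → K, Grouped L ∧ Cls x 2 L := by
  classical
  have h4 := four_of_card hq
  have hx0 := hx.det_ne_zero
  obtain ⟨E, T, B, hEd, hxE⟩ := frame_even hx one_ne_zero
  have hE : E.det ≠ 0 := by rw [hEd]; exact one_ne_zero
  have hTT : T.det * T.det = x.det ^ 2 := by
    have := (swapEven K (j + 2 + 1)).det_quot_mul hE hE hxE hxE
    simpa [Swap.quot, swapEven] using this
  have hD2 : x.det ^ 2 ≠ 0 := pow_ne_zero 2 hx0
  by_cases hA : ∃ κ : K, κ ^ (j + 2 + 1) = x.det ^ 2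
  · -- the products of the two blocks are constant
    obtain ⟨κ, hκd, hns⟩ : ∃ κ : K, κ ^ (j + 2 + 1) = x.det ^ 2 ∧
        (NonScalar (T * (1 * T * 1⁻¹)) ∨ T * (1 * T * 1⁻¹) = κ • 1) := by
      simp only [one_mul, inv_one, mul_one]
      by_cases h : NonScalar (T * T)
      · obtain ⟨κ, hκ⟩ := hA; exact ⟨κ, hκ, Or.inl h⟩
      · obtain ⟨c, hc⟩ := not_not.1 h
        refine ⟨c, ?_, Or.inr hc⟩
        rw [← hTT, ← det_mul, hc, det_smul, det_one, mul_one, Fintype.card_fin]
    have hκ0 : κ ≠ 0 := fun h => hD2 (by rw [← hκd, h, zero_pow (by omega)])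
    obtain ⟨v, hv⟩ := fresh_of_card (insert (0 : K) (roots2 κ)) (lt_of_le_of_lt (Finset.card_insert_le _ _) (by
      have := (card_roots2 κ).1; omega))
    simp only [Finset.mem_insert, not_or] at hv
    have hvκ : v * v ≠ κ := fun h => hv.2 (mem_roots2 h)
    obtain ⟨h, hh0, -, hk⟩ := even_two h4 (j := j + 1) hE hE hxE hxE hx0 (P := 1)
      (by rw [det_one]; exact one_ne_zero) hκ0 hv.1 hκd hvκ hns
    refine ⟨two (j + 2 + 1) (j + 2 + 1) v (κ / v), grouped_two' fun e => hvκ ?_, cls_of_pair hh0 hk⟩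
    calc v * v = v * (κ / v) := by rw [← e]
      _ = κ := mul_div_cancel₀ κ hv.1
  · push Not at hA
    have hns : NonScalar (T * T) := fun ⟨c, hc⟩ => hA c (by
      rw [← hTT, ← det_mul, hc, det_smul, det_one, mul_one, Fintype.card_fin])
    have hZd : (T * T).det = x.det ^ 2 := by rw [det_mul, hTT]
    obtain ⟨κ, hκ0, hrk, h5⟩ := good_kappa hq (by omega) (Z := T * T) (by rw [hZd]; simpa using hA)
      ⟨x.det, by rw [hZd, pow_two]⟩ (by rw [hZd]; exact hD2)
    set c₂ := x.det ^ 2 / κ ^ (j + 2) with hc₂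
    obtain ⟨v, hv0, hv1, hv2⟩ : ∃ v : K, v ≠ 0 ∧ v * v ≠ κ ∧ v * v ≠ c₂ := by
      by_cases hc5 : Fintype.card K = 5
      · obtain ⟨hsq, hev⟩ := h5 hc5
        refine ⟨1, one_ne_zero, fun h => hsq ⟨1, h.symm⟩, fun h => hsq ?_⟩
        obtain ⟨i, hi⟩ := hev
        have e : κ ^ (j + 2) = x.det ^ 2 := by
          rw [hc₂, one_mul, eq_comm, div_eq_one_iff_eq (pow_ne_zero _ hκ0)] at h
          exact h.symm
        refine ⟨κ ^ i / x.det, ?_⟩
        have e3 : κ ^ i * κ ^ i = κ * x.det ^ 2 := by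
          rw [← e, ← pow_add, ← pow_succ', show i + i = j + 2 + 1 by omega]
        field_simp
        linear_combination -e3
      · obtain ⟨v, hv⟩ := fresh_of_card (insert (0 : K) (roots2 κ ∪ roots2 c₂)) (lt_of_le_of_lt
          (Finset.card_insert_le _ _) (by
            have hu := Finset.card_union_le (roots2 κ) (roots2 c₂)
            have h1 := card_roots2 κ
            have h2 := card_roots2 c₂
            by_cases hc4 : Fintype.card K = 4
            · have := h1.2 (two_eq_zero_of_card hc4)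
              have := h2.2 (two_eq_zero_of_card hc4)
              omega
            · have := h1.1
              have := h2.1
              omega))
        simp only [Finset.mem_insert, Finset.mem_union, not_or] at hv
        exact ⟨v, hv.1, fun h => hv.2.1 (mem_roots2 h), fun h => hv.2.2 (mem_roots2 h)⟩
    set b := c₂ / v with hb
    have hpow : κ ^ (j + 2) ≠ 0 := pow_ne_zero _ hκ0
    have hvb : v * b = c₂ := by rw [hb, mul_div_cancel₀ _ hv0]
    have hne1 : v ≠ b := fun e => hv2 (by rw [← hvb, ← e])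
    have hne2 : v ≠ κ / v := fun e => hv1 (by
      calc v * v = v * (κ / v) := by rw [← e]
        _ = κ := mul_div_cancel₀ κ hv0)
    have hbκ : b ≠ κ / v := fun e => hA κ (by
      have e2 : c₂ = κ := by rw [← hvb, e, mul_div_cancel₀ κ hv0]
      rw [hc₂, div_eq_iff hpow] at e2
      rw [pow_succ', e2])
    obtain ⟨h, hh0, hk⟩ := even_head h4 hE hxE hx0 hκ0 hv0 (b := b)
      (by rw [hvb, hc₂, div_mul_cancel₀ _ hpow]) hv1 hne1 hbκ hns hrk
    refine ⟨_, grouped_append (grouped_cst v) (grouped_cons_cst b (κ / v)) (fun _ l => ?_), cls_of_pair hh0 hk⟩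
    refine Fin.cases ?_ (fun l => ?_) l
    · simpa [cst] using hne1
    · simpa [cst] using hne2

theorem machine_list_charpoly {j : ℕ} (v a μ : K) :
    ∏ i, (X - C (Fin.append (cst (j + 2) v) (Fin.cons a (cst (j + 2) μ)) i)) =
      (X - C v) ^ (j + 2) * ((X - C a) * (X - C μ) ^ (j + 2)) := by
  rw [Fin.prod_univ_add]
  simp [cst, Fin.prod_univ_succ (n := j + 2)]

theorem charpoly_lst {k : ℕ} (hk : 1 ≤ k) (hkn : k ≤ n) (h p r : K) :
    ∏ i, (X - C (lst n k h p r i)) = (X - C h) * ((X - C p) ^ (k - 1) * (X - C r) ^ (n - k)) :=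
  prod_lst (fun a => X - C a) hk hkn h p r

/-- The split element among the products of three conjugates. -/
theorem cls_three [Fintype K] (hq : 4 ≤ Fintype.card K) (hn : 4 ≤ n) {x : Matrix (Fin n) (Fin n) K}
    (hx : RootFree x) {k : ℕ} (hk : 1 ≤ k) {h p r : K} (h0 : h ≠ 0) (p0 : p ≠ 0) (r0 : r ≠ 0) (hpr : p ≠ r)
    (hhr : h ≠ r) (hDr : x.det * h ≠ r) (hc : Cls x 2 (lst n k h p r)) :
    Cls x 3 (lst n k (x.det * h) p r) := by
  have hD0 := hx.det_ne_zero
  have hg := grouped_lst (n := n) (h := h) hk hpr hhr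
  have he := grouped_lst (n := n) (h := x.det * h) hk hpr hDr
  obtain ⟨a, u, hxau, ha, hu⟩ := rootfree_split' hn (four_of_card hq) hx (d := fun i => (lst n k h p r i)⁻¹)
    (e := lst n k (x.det * h) p r) (grouped_inv hg) he (fun i => inv_ne_zero (lst_ne_zero h0 p0 r0 i))
    (lst_ne_zero (mul_ne_zero hD0 h0) p0 r0) (κ := 1) (fun i hi => by
      simp only [lst, if_neg hi]
      split_ifs <;> exact inv_mul_cancel₀ (by assumption))
    (by simp only [lst, if_true, one_pow, mul_one]; field_simp)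
  have ha' : Sim a⁻¹ (std (lst n k h p r)) := by
    have := std_inv_sim (grouped_inv hg) (fun i => inv_ne_zero (lst_ne_zero h0 p0 r0 i)) ha
    simpa using this
  have hau : IsUnit a.det := isUnit_of fun h' => hD0 (by rw [hxau, det_mul, h', zero_mul])
  intro g hgs
  refine Prd.sim (hgs.trans hu.symm) ?_
  have e : u = a⁻¹ * x := by rw [hxau, Matrix.nonsing_inv_mul_cancel_left _ _ hau]
  rw [e]
  exact (hc _ ha').mul (Prd.one (Sim.refl x))

/-- All cyclic matrices, from two split classes. -/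
theorem gl_cyclic [Fintype K] (hq : 4 ≤ Fintype.card K) (hn : 3 ≤ n) {C : Matrix (Fin n) (Fin n) K → Prop}
    {D : K} (hD : D ≠ 0) (hC : ∀ k, C k → k.det = D) {m₀ : ℕ} {L₀ T : Fin n → K} (hL₀ : Grouped L₀) (hT : Grouped T) (h₀ : PCls C m₀ L₀)
    (h₂ : PCls C 2 T) :
    ∀ i : ℕ, ∀ g : Matrix (Fin n) (Fin n) K, Cyclic g → g.det = D ^ (m₀ + 2 * i + 2) →
      Prd C (m₀ + 2 * i + 2) g := by
  have hT0 : ∀ i, T i ≠ 0 := fun i h => pow_ne_zero 2 hD (by
    rw [← h₂.prod_eq hC]; exact Finset.prod_eq_zero (Finset.mem_univ i) h)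
  intro i
  induction i with
  | zero =>
    intro g hg hdet
    refine prd_step' (by omega) hn (cyclic_std' hL₀ (Sim.refl _)) ?_ h₀ hT hT0 h₂ hg ?_
    · rw [det_std, h₀.prod_eq hC]; exact pow_ne_zero _ hD
    · rw [hdet, det_std, h₀.prod_eq hC, h₂.prod_eq hC]; ring
  | succ i ih =>
    intro g hg hdet
    set c := D ^ (m₀ + 2 * i + 2)
    set L : Fin n → K := fun l => if l.val < 1 then c else 1
    have hL : Grouped L := grouped_two 1 c 1
    have hLd : (std L).det = c := by
      rw [det_std, prod_if_lt c 1 n 1 (by omega)]; simp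
    rw [show m₀ + 2 * (i + 1) + 2 = m₀ + 2 * i + 2 + 2 by ring] at hdet ⊢
    refine prd_step' (by omega) hn (cyclic_std' hL (Sim.refl _)) ?_
      (fun h hh => ih h (cyclic_std' hL hh) (by rw [hh.det_eq, hLd])) hT hT0 h₂ hg ?_
    · rw [hLd]; exact pow_ne_zero _ hD
    · rw [hdet, hLd, h₂.prod_eq hC, pow_add]

/-- The final decomposition. -/
theorem gl_final [Fintype K] (hq : 4 ≤ Fintype.card K) (hn : 2 ≤ n) {C : Matrix (Fin n) (Fin n) K → Prop}
    {D : K} (hD : D ≠ 0) (hC : ∀ k, C k → k.det = D) {T : Fin n → K} (hT : Grouped T) (h₂ : PCls C 2 T) {a : ℕ} (ha : a + 2 = n)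
    (hcyc : ∀ g : Matrix (Fin n) (Fin n) K, Cyclic g → g.det = D ^ a → Prd C a g)
    {g : Matrix (Fin n) (Fin n) K} (hdet : g.det = D ^ n) (hg : NonScalar g ∨ g = D • 1) :
    Prd C n g := by
  have hT0 : ∀ i, T i ≠ 0 := fun i h => pow_ne_zero 2 hD (by
    rw [← h₂.prod_eq hC]; exact Finset.prod_eq_zero (Finset.mem_univ i) h)
  obtain ⟨p, q, rfl, hp, hq'⟩ := lu_any' hn (four_of_card hq) hD hdet hg (d := fun i => D / T i)
    (grouped_const_div hT hD) (fun i => div_ne_zero hD (hT0 i))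
  have hqT : Sim q (std T) := by
    rwa [show (fun i => D / (D / T i)) = T from funext fun i => div_div_cancel₀ hD] at hq'
  have hpd : p.det = D ^ a := by
    refine mul_right_cancel₀ (pow_ne_zero 2 hD) ?_
    rw [← pow_add, ha, ← hdet, det_mul, hqT.det_eq, det_std, h₂.prod_eq hC]
  conv => arg 2; rw [← ha]
  exact (hcyc p (cyclic_std' (grouped_const_div hT hD) hp) hpd).mul (h₂ q hqT)

/-- The scalars in odd dimension. -/
theorem odd_params [Fintype K] (hq : 4 ≤ Fintype.card K) {j N : ℕ} (hN : j + 3 ≤ N) (Z : Matrix (Fin N) (Fin N) K)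
    {D : K} (hD0 : D ≠ 0) (hspec : Fintype.card K = 4 → D = 1 ∨ 2 ≤ j) :
    ∃ κ v a : K, κ ≠ 0 ∧ v ≠ 0 ∧ a * κ ^ (j + 2) = D ^ 2 ∧ v * v ≠ κ ∧ v ≠ a ∧
      (a = κ / v → 3 ≤ (Z - κ • 1).rank) ∧ (a ≠ κ / v ∨ D * D ≠ 1) := by
  classical
  by_cases hsp : Fintype.card K = 4 ∧ D ≠ 1
  · obtain ⟨hc4, hD⟩ := hsp
    have h2 := two_eq_zero_of_card hc4
    have hD2 : D * D ≠ 1 := fun h => hD (by
      rcases mul_self_eq_one_iff.1 h with h | h
      · exact h
      · rw [h]; linear_combination (-(1 : K)) * h2)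
    have hj := (hspec hc4).resolve_left hD
    obtain ⟨κ, hκ, hrk⟩ : ∃ κ : K, κ ≠ 0 ∧ 3 ≤ (Z - κ • 1).rank := by
      obtain ⟨g, hg⟩ := fresh_of_card ({0, 1} : Finset K) (lt_of_le_of_lt Finset.card_le_two (by omega))
      simp only [Finset.mem_insert, Finset.mem_singleton, not_or] at hg
      by_cases h1 : 3 ≤ (Z - (1 : K) • 1).rank
      · exact ⟨1, one_ne_zero, h1⟩
      · refine ⟨g, hg.1, ?_⟩
        by_contra h2
        obtain ⟨hle, -⟩ := two_eigen (Ne.symm hg.2) (by omega : (Z - (1 : K) • 1).rank ≤ 2) (by omega)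
        omega
    set a := D ^ 2 / κ ^ (j + 2)
    obtain ⟨v, hv⟩ := fresh_of_card (insert (0 : K) (insert a (roots2 κ))) (lt_of_le_of_lt
      ((Finset.card_insert_le _ _).trans (Nat.succ_le_succ (Finset.card_insert_le _ _))) (by
        have := (card_roots2 κ).2 h2; omega))
    simp only [Finset.mem_insert, not_or] at hv
    exact ⟨κ, v, a, hκ, hv.1, div_mul_cancel₀ _ (pow_ne_zero _ hκ), fun h => hv.2.2 (mem_roots2 h), hv.2.1,
      fun _ => hrk, Or.inr hD2⟩
  · set a := D ^ 2 with ha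
    have hcard : ({0, 1, -1, a, a⁻¹} : Finset K).card < Fintype.card K := by
      by_cases h5 : Fintype.card K ≤ 5
      · have hsq : a * a = 1 := by
          rcases (show Fintype.card K = 4 ∨ Fintype.card K = 5 by omega) with hc | hc
          · rw [ha, show D = 1 from not_not.1 fun h => hsp ⟨hc, h⟩]; simp
          · rw [ha]
            have := pow_four_card hc hD0
            linear_combination this
        have hinv : a⁻¹ = a := inv_eq_of_mul_eq_one_right hsq
        refine lt_of_le_of_lt (Finset.card_le_card (t := ({0, 1, -1} : Finset K)) ?_)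
          (lt_of_le_of_lt Finset.card_le_three (by omega))
        rcases mul_self_eq_one_iff.1 hsq with e | e <;> intro z hz <;>
          simp only [Finset.mem_insert, Finset.mem_singleton, hinv, e, inv_neg, inv_one] at hz ⊢ <;> tauto
      · exact lt_of_le_of_lt Finset.card_le_five (by omega)
    obtain ⟨v, hv⟩ := fresh_of_card _ hcard
    simp only [Finset.mem_insert, Finset.mem_singleton, not_or] at hv
    obtain ⟨hv0, hv1, hv2, hv3, hv4⟩ := hv
    have hne : a ≠ 1 / v := fun h => hv4 (by rw [h, one_div, inv_inv])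
    exact ⟨1, v, a, one_ne_zero, hv0, by rw [one_pow, mul_one], fun h => by
      rcases mul_self_eq_one_iff.1 h with h | h
      · exact hv1 h
      · exact hv2 h, hv3, fun h => absurd h hne, Or.inl hne⟩

/-- Reordering the groups. -/
theorem reorder {j N : ℕ} (hN : N = j + 2 + (j + 2 + 1)) {D v a μ : K} (hv : v ≠ 0) (ha0 : a ≠ 0) (hμ0 : μ ≠ 0)
    (hvμ : v ≠ μ) (hva : v ≠ a) (hμ : a ≠ μ ∨ D * D ≠ 1) :
    ∃ (k : ℕ) (h' p r : K), 1 ≤ k ∧ h' ≠ 0 ∧ p ≠ 0 ∧ r ≠ 0 ∧ p ≠ r ∧ h' ≠ r ∧ D * h' ≠ r ∧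
      ∏ i, (X - C (lst N k h' p r i)) = (X - C v) ^ (j + 2) * ((X - C a) * (X - C μ) ^ (j + 2)) := by
  subst hN
  by_cases hac : a = μ
  · have hDD : D * D ≠ 1 := hμ.resolve_left fun h => h hac
    by_cases hc : D * v = μ
    · refine ⟨j + 3, μ, μ, v, by omega, hμ0, hμ0, hv, hvμ.symm, hvμ.symm, fun h => hDD ?_, ?_⟩
      · exact mul_right_cancel₀ hμ0 (by rw [one_mul, mul_assoc, h, hc])
      · rw [charpoly_lst (by omega) (by omega), hac,
          show j + 3 - 1 = j + 2 by omega, show j + 2 + (j + 2 + 1) - (j + 3) = j + 2 by omega]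
        ring
    · refine ⟨j + 2, v, v, μ, by omega, hv, hv, hμ0, hvμ, hvμ, hc, ?_⟩
      rw [charpoly_lst (by omega) (by omega), hac,
        show j + 2 - 1 = j + 1 by omega, show j + 2 + (j + 2 + 1) - (j + 2) = j + 3 by omega,
        pow_succ' (X - C v) (j + 1), pow_succ' (X - C μ) (j + 2)]
      ring
  · by_cases hc : D * a = v
    · refine ⟨j + 3, a, v, μ, by omega, ha0, hv, hμ0, hvμ, hac, by rw [hc]; exact hvμ, ?_⟩
      rw [charpoly_lst (by omega) (by omega),
        show j + 3 - 1 = j + 2 by omega, show j + 2 + (j + 2 + 1) - (j + 3) = j + 2 by omega]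
      ring
    · refine ⟨j + 3, a, μ, v, by omega, ha0, hμ0, hv, hvμ.symm, hva.symm, hc, ?_⟩
      rw [charpoly_lst (by omega) (by omega),
        show j + 3 - 1 = j + 2 by omega, show j + 2 + (j + 2 + 1) - (j + 3) = j + 2 by omega]
      ring

/-- The two lists in odd dimension. -/
theorem gl_two_odd [Fintype K] (hq : 4 ≤ Fintype.card K) {j : ℕ}
    {x : Matrix (Fin (j + 2 + (j + 2 + 1))) (Fin (j + 2 + (j + 2 + 1))) K} (hx : RootFree x)
    (hspec : Fintype.card K = 4 → x.det = 1 ∨ 2 ≤ j) :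
    ∃ L L₀ : Fin (j + 2 + (j + 2 + 1)) → K, Grouped L ∧ Grouped L₀ ∧ Cls x 2 L ∧ Cls x 3 L₀ := by
  classical
  have h4 := four_of_card hq
  have hx0 := hx.det_ne_zero
  obtain ⟨E, T, B, hEd, hxE⟩ := frame_odd hx one_ne_zero
  have hE : E.det ≠ 0 := by rw [hEd]; exact one_ne_zero
  obtain ⟨w, hw⟩ := odd_w hx hE hE hxE hxE
  obtain ⟨κ, v, a, hκ, hv, hκd, hvκ, hva, hrk, hμ⟩ := odd_params hq (le_refl (j + 3)) ((swapOdd K (j + 2)).quot T B *
    (bord 1 0 w 1 * (swapOdd K (j + 2)).quot T B * (bord 1 0 w 1)⁻¹)) hx0 hspec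
  obtain ⟨h, hh0, -, hk⟩ := odd_two h4 hE hE hxE hxE hx0 hκ hv hκd hvκ hva hw hrk
  have ha0 : a ≠ 0 := fun h => pow_ne_zero 2 hx0 (by rw [← hκd, h, zero_mul])
  have hvμ : v ≠ κ / v := fun e => hvκ (by
    calc v * v = v * (κ / v) := by rw [← e]
      _ = κ := mul_div_cancel₀ κ hv)
  obtain ⟨M, hMdef⟩ : ∃ M, M = Fin.append (cst (j + 2) v) (Fin.cons a (cst (j + 2) (κ / v))) := ⟨_, rfl⟩
  rw [← hMdef] at hk
  have hM : Grouped M := hMdef ▸ grouped_append (grouped_cst v) (grouped_cons_cst a (κ / v)) fun _ l => by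
    refine Fin.cases ?_ (fun l => ?_) l
    · simpa [cst] using hva
    · simpa [cst] using hvμ
  have hMc : Cls x 2 M := cls_of_pair hh0 hk
  obtain ⟨k, h', p, r, hk1, h'0, p0, r0, hpr, hhr, hDr, hpl⟩ :=
    reorder (N := j + 2 + (j + 2 + 1)) rfl hv ha0 (div_ne_zero hκ hv) hvμ hva hμ
  rw [← machine_list_charpoly, ← hMdef] at hpl
  exact ⟨M, _, hM, grouped_lst hk1 hpr hDr, hMc,
    cls_three hq (by omega) hx hk1 h'0 p0 r0 hpr hhr hDr (hMc.transfer hM (grouped_lst hk1 hpr hhr) hpl.symm)⟩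

/-- Dimension five. -/
theorem gl_five [Fintype K] (hq : 4 ≤ Fintype.card K) {x : Matrix (Fin (0 + 2 + (0 + 2 + 1))) (Fin (0 + 2 + (0 + 2 + 1))) K}
    (hx : RootFree x) (hD : x.det = 1 ∨ 6 ≤ Fintype.card K) {g : Matrix (Fin (0 + 2 + (0 + 2 + 1))) (Fin (0 + 2 + (0 + 2 + 1))) K}
    (hdet : g.det = x.det ^ 5) (hg : NonScalar g ∨ g = x.det • 1) : Prd (fun y => Sim y x) 5 g := by
  classical
  have h4 := four_of_card hq
  have hx0 := hx.det_ne_zero
  set D := x.det with hDdef
  obtain ⟨E, T, B, hEd, hxE⟩ := frame_odd hx one_ne_zero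
  have hE : E.det ≠ 0 := by rw [hEd]; exact one_ne_zero
  obtain ⟨w, hw⟩ := odd_w hx hE hE hxE hxE
  obtain ⟨v, hv0, hv1, hvD, hvv⟩ : ∃ v : K, v ≠ 0 ∧ v ≠ 1 ∧ v ≠ D ∧ v * v ≠ D := by
    have hcard : (insert (0 : K) (insert 1 (insert D (roots2 D)))).card < Fintype.card K := by
      rcases hD with hD | hD
      · have hsub : insert (0 : K) (insert 1 (insert D (roots2 D))) ⊆ ({0, 1, -1} : Finset K) := by
          intro z hz
          simp only [Finset.mem_insert, Finset.mem_singleton, hD] at hz ⊢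
          rcases hz with h | h | h | h
          · exact Or.inl h
          · exact Or.inr (Or.inl h)
          · exact Or.inr (Or.inl h)
          · simp only [roots2] at h
            split_ifs at h with hex
            · have hc := mul_self_eq_one_iff.1 hex.choose_spec
              simp only [Finset.mem_insert, Finset.mem_singleton] at h
              rcases h with h | h <;> rcases hc with hc | hc <;> simp [h, hc]
            · simp at h
        exact lt_of_le_of_lt (Finset.card_le_card hsub) (lt_of_le_of_lt Finset.card_le_three (by omega))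
      · have := (card_roots2 D).1
        have h1 := Finset.card_insert_le D (roots2 D)
        have h2 := Finset.card_insert_le (1 : K) (insert D (roots2 D))
        have h3 := Finset.card_insert_le (0 : K) (insert 1 (insert D (roots2 D)))
        omega
    obtain ⟨v, hv⟩ := fresh_of_card _ hcard
    simp only [Finset.mem_insert, not_or] at hv
    exact ⟨v, hv.1, hv.2.1, hv.2.2.1, fun h => hv.2.2.2 (mem_roots2 h)⟩
  have hne : (1 : K) ≠ D / v := fun h => hvD (by rw [eq_div_iff hv0, one_mul] at h; exact h)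
  obtain ⟨h, hh0, -, hk⟩ := odd_two h4 hE hE hxE hxE hx0 (a := 1) hx0 hv0 (one_mul _) hvv hv1 hw
    (fun e => absurd e hne)
  set μ := D / v with hμdef
  have hμ0 : μ ≠ 0 := div_ne_zero hx0 hv0
  have hvμ : v ≠ μ := fun e => hvv (by
    calc v * v = v * (D / v) := by rw [← hμdef, ← e]
      _ = D := mul_div_cancel₀ D hv0)
  have hM : Grouped (Fin.append (cst (0 + 2) v) (Fin.cons 1 (cst (0 + 2) μ))) :=
    grouped_append (grouped_cst v) (grouped_cons_cst 1 μ) fun _ l => by
      refine Fin.cases ?_ (fun l => ?_) l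
      · simpa [cst] using hv1
      · simpa [cst] using hvμ
  have hMc : Cls x 2 _ := cls_of_pair hh0 hk
  have h1v : (1 : K) ≠ v := Ne.symm hv1
  have hT1 : Cls x 2 (lst (0 + 2 + (0 + 2 + 1)) 3 1 μ v) := hMc.transfer hM (grouped_lst (by omega) hvμ.symm h1v) (by
    rw [charpoly_lst (by omega) (by omega), machine_list_charpoly]; ring)
  have hT2 : Cls x 2 (lst (0 + 2 + (0 + 2 + 1)) 3 1 v μ) := hMc.transfer hM (grouped_lst (by omega) hvμ hne) (by
    rw [charpoly_lst (by omega) (by omega), machine_list_charpoly]; ring)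
  have h3 := cls_three hq (by omega) hx (by omega) one_ne_zero hμ0 hv0 hvμ.symm h1v
    (by rw [mul_one]; exact Ne.symm hvD) hT1
  rw [← hDdef, mul_one] at h3
  obtain ⟨p, q, rfl, hp, hq'⟩ := lu_any' (by omega) h4 hx0 hdet hg (d := lst (0 + 2 + (0 + 2 + 1)) 3 D μ v)
    (grouped_lst (by omega) hvμ.symm (Ne.symm hvD)) (lst_ne_zero hx0 hμ0 hv0)
  refine (h3 p hp).mul (hT2 q ?_)
  rwa [lst_div, div_self hx0, ← hμdef, show D / μ = v from div_div_cancel₀ hx0] at hq'

/-- Root-free matrices: every admissible target is a product of `n` conjugates. -/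
theorem gl_rootfree [Fintype K] (hq : 4 ≤ Fintype.card K) (hn : 5 ≤ n) {x : Matrix (Fin n) (Fin n) K}
    (hx : RootFree x) {g : Matrix (Fin n) (Fin n) K} (hdet : g.det = x.det ^ n)
    (hg : NonScalar g ∨ g = x.det • 1) : Prd (fun y => Sim y x) n g := by
  classical
  have hx0 := hx.det_ne_zero
  -- reduce to determinant one in the small exceptions
  by_cases hscale : x.det ≠ 1 ∧ ((Fintype.card K = 4 ∧ ¬ 3 ∣ n) ∨ (Fintype.card K = 5 ∧ n = 5))
  · obtain ⟨-, hcase⟩ := hscale
    obtain ⟨c, hc⟩ : ∃ c : K, c ^ n * x.det = 1 := by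
      rcases hcase with ⟨hc4, h3⟩ | ⟨hc5, rfl⟩
      · refine ⟨(x.det⁻¹) ^ n, ?_⟩
        obtain ⟨i, hi⟩ : ∃ i, n * n = 3 * i + 1 := by
          refine ⟨n * n / 3, ?_⟩
          have := Nat.div_add_mod (n * n) 3
          have : n * n % 3 = 1 := by
            rw [Nat.mul_mod]
            rcases (show n % 3 = 1 ∨ n % 3 = 2 by omega) with h | h <;> rw [h]
          omega
        rw [← pow_mul, hi, pow_succ, pow_mul, pow_three_card hc4 (inv_ne_zero hx0), one_pow, one_mul,
          inv_mul_cancel₀ hx0]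
      · refine ⟨x.det⁻¹, ?_⟩
        rw [pow_succ, pow_four_card hc5 (inv_ne_zero hx0), one_mul, inv_mul_cancel₀ hx0]
    have hc0 : c ≠ 0 := fun h => by simp [h, zero_pow (show n ≠ 0 by omega)] at hc
    have hy : RootFree (c • x) := fun e he => hx (c⁻¹ * e) (by
      have : c • x - e • 1 = c • (x - (c⁻¹ * e) • (1 : Matrix (Fin n) (Fin n) K)) := by
        rw [smul_sub, smul_smul, mul_inv_cancel_left₀ hc0]
      rw [this, det_smul] at he
      exact (mul_eq_zero.1 he).resolve_left (pow_ne_zero _ hc0))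
    have hyd : (c • x).det = 1 := by rw [det_smul, Fintype.card_fin, hc]
    have := gl_rootfree_aux hq hn hy (g := c ^ n • g) (Or.inl hyd) (by
        rw [det_smul, Fintype.card_fin, hdet, hyd, one_pow, ← mul_pow, hc, one_pow]) (by
        rcases hg with hg | hg
        · exact Or.inl fun ⟨t, ht⟩ => hg ⟨(c ^ n)⁻¹ * t, by
            rw [← smul_smul, ← ht, inv_smul_smul₀ (pow_ne_zero _ hc0)]⟩
        · exact Or.inr (by rw [hg, smul_smul, hc, hyd]))
    have h2 := this.of_smul hc0
    rwa [inv_smul_smul₀ (pow_ne_zero _ hc0)] at h2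
  · refine gl_rootfree_aux hq hn hx (g := g) ?_ hdet hg
    by_cases h1 : x.det = 1
    · exact Or.inl h1
    · refine Or.inr ⟨fun hc4 => ?_, fun h5 => ?_⟩
      · by_contra h3
        exact hscale ⟨h1, Or.inl ⟨hc4, h3⟩⟩
      · by_contra hlt
        rcases (show Fintype.card K = 4 ∨ Fintype.card K = 5 by omega) with hc | hc
        · exact hscale ⟨h1, Or.inl ⟨hc, by omega⟩⟩
        · exact hscale ⟨h1, Or.inr ⟨hc, h5⟩⟩
where
  gl_rootfree_aux {n : ℕ} (hq : 4 ≤ Fintype.card K) (hn : 5 ≤ n) {x : Matrix (Fin n) (Fin n) K} (hx : RootFree x)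
      {g : Matrix (Fin n) (Fin n) K}
      (hcond : x.det = 1 ∨ ((Fintype.card K = 4 → 3 ∣ n) ∧ (n = 5 → 6 ≤ Fintype.card K)))
      (hdet : g.det = x.det ^ n) (hg : NonScalar g ∨ g = x.det • 1) : Prd (fun y => Sim y x) n g := by
    have hx0 := hx.det_ne_zero
    rcases Nat.even_or_odd' n with ⟨s, hs | hs⟩
    · obtain ⟨j, rfl⟩ : ∃ j, n = j + 2 + 1 + (j + 2 + 1) := ⟨s - 3, by omega⟩
      obtain ⟨L, hL, hc⟩ := gl_two_even hq hx
      refine gl_final hq (by omega) hx0 (fun k hk => Sim.det_eq hk) hL hc (a := 2 * j + 4) (by omega) (fun g' hg' hd' => ?_) hdet hg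
      have := gl_cyclic hq (by omega) hx0 (fun k hk => Sim.det_eq hk) hL hL hc hc j g' hg' (by rw [hd']; congr 1; omega)
      rwa [show 2 + 2 * j + 2 = 2 * j + 4 by omega] at this
    · obtain ⟨j, rfl⟩ : ∃ j, n = j + 2 + (j + 2 + 1) := ⟨s - 2, by omega⟩
      rcases Nat.eq_zero_or_pos j with rfl | hj
      · exact gl_five hq hx (hcond.imp id fun h => h.2 rfl) hdet hg
      · obtain ⟨L, L₀, hL, hL₀, hc, hc₀⟩ := gl_two_odd hq hx (fun h4 => hcond.imp id fun h => by
          have := h.1 h4; omega)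
        refine gl_final hq (by omega) hx0 (fun k hk => Sim.det_eq hk) hL hc (a := 2 * j + 3) (by omega) (fun g' hg' hd' => ?_) hdet hg
        have := gl_cyclic hq (by omega) hx0 (fun k hk => Sim.det_eq hk) hL₀ hL hc₀ hc (j - 1) g' hg' (by rw [hd']; congr 1; omega)
        rwa [show 3 + 2 * (j - 1) + 2 = 2 * j + 3 by omega] at this

end CfsgLib.Classical.Covering
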