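import Cfsg.Agent.Lib.Classical.Covering.Sim
import Cfsg.Agent.Lib.Classical.Covering.Frame
import Cfsg.Agent.Lib.Classical.SmallFieldComm.Decomp

/-!
# A matrix without eigenvalues in small dimension: cyclic, or every determinant in the centraliser
-/

set_option autoImplicit false

universe u

namespace CfsgLib.Classical.Covering

open Matrix Polynomial Module
open CfsgLib.Classical.SmallFieldComm (HasFix Cyc model cyc_model induction_blocks hasFix_model_irreducible aeval_conj)

variable {K : Type u} [Field K]

/-- No eigenvalue. -/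
def NoRoot {V : Type u} [AddCommGroup V] [Module K V] (φ : Module.End K V) : Prop :=
  ∀ c : K, LinearMap.det (φ - c • (1 : Module.End K V)) ≠ 0

/-- The invariant of the induction on primary blocks. -/
def SixState {V : Type u} [AddCommGroup V] [Module K V] (φ : Module.End K V) : Prop :=
  NoRoot φ → HasFix φ ∨ Subsingleton V ∨ (∃ p, Cyc φ p ∧ 4 ≤ finrank K V) ∨ 8 ≤ finrank K V

theorem NoRoot.conj {V W : Type u} [AddCommGroup V] [Module K V] [AddCommGroup W] [Module K W]
    {φ : Module.End K V} {ψ : Module.End K W} (E : V ≃ₗ[K] W) (hE : ∀ x, E (φ x) = ψ (E x)) (h : NoRoot ψ) :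
    NoRoot φ := by
  intro c
  have e : (E.toLinearMap ∘ₗ (φ - c • (1 : Module.End K V))) ∘ₗ E.symm.toLinearMap =
      ψ - c • (1 : Module.End K W) := by
    refine LinearMap.ext fun y => ?_
    simp [hE]
  have := h c
  rwa [← e, LinearMap.comp_assoc, LinearMap.det_conj] at this

theorem six_state [Finite K] {V : Type u} [AddCommGroup V] [Module K V] [FiniteDimensional K V]
    (φ : Module.End K V) : SixState φ := by
  refine induction_blocks (P := fun {V} _ _ φ => SixState φ) ?_ ?_ ?_ φ
  · intro V W _ _ _ _ φ ψ E hE h hψ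
    rcases h (hψ.conj E hE) with h1 | h1 | ⟨p, hp, hr⟩ | hr
    · exact Or.inl (h1.conj E hE)
    · exact Or.inr (Or.inl E.symm.toEquiv.subsingleton)
    · exact Or.inr (Or.inr (Or.inl ⟨p, hp.of_conj E hE, E.finrank_eq ▸ hr⟩))
    · exact Or.inr (Or.inr (Or.inr (E.finrank_eq ▸ hr)))
  · intro V _ _ _ φ _
    exact Or.inr (Or.inl inferInstance)
  · intro V W _ _ _ _ _ _ φ ψ π e ih hπ hπm hψ hd
    have hsub : ∀ c : K, φ.prodMap ψ - c • (1 : Module.End K (V × W)) =
        (φ - c • (1 : Module.End K V)).prodMap (ψ - c • (1 : Module.End K W)) := fun c => by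
      refine LinearMap.ext fun x => ?_
      simp [Prod.ext_iff]
    have hd' : ∀ c : K, LinearMap.det (φ - c • (1 : Module.End K V)) ≠ 0 ∧
        LinearMap.det (ψ - c • (1 : Module.End K W)) ≠ 0 := fun c => by
      have := hd c
      rw [hsub, LinearMap.det_prodMap, mul_ne_zero_iff] at this
      exact this
    have hW : finrank K W = e * π.natDegree := by rw [← hψ.2.2.1, natDegree_pow]
    have hswap : ∀ x, LinearEquiv.prodComm K W V ((ψ.prodMap φ) x) = (φ.prodMap ψ) (LinearEquiv.prodComm K W V x) :=
      fun x => rfl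
    rcases Nat.eq_zero_or_pos e with rfl | he
    · rw [zero_mul] at hW
      have : Subsingleton W := finrank_zero_iff.1 hW
      let E : V ≃ₗ[K] V × W :=
        { toFun := fun v => (v, 0)
          invFun := Prod.fst
          map_add' := fun a b => by simp
          map_smul' := fun a b => by simp
          left_inv := fun v => rfl
          right_inv := fun x => Prod.ext rfl (Subsingleton.elim _ _) }
      have hE : ∀ x, E (φ x) = (φ.prodMap ψ) (E x) := fun x => Prod.ext rfl (Subsingleton.elim _ _)
      rcases ih (fun c => (hd' c).1) with h1 | h1 | ⟨p, hp, hr⟩ | hr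
      · exact Or.inl (h1.conj E hE)
      · exact Or.inr (Or.inl inferInstance)
      · exact Or.inr (Or.inr (Or.inl ⟨p, hp.of_conj E hE, E.finrank_eq ▸ hr⟩))
      · exact Or.inr (Or.inr (Or.inr (E.finrank_eq ▸ hr)))
    have hdeg : 2 ≤ π.natDegree := by
      by_contra hlt
      have h1 : π.natDegree = 1 := by have := hπ.natDegree_pos; omega
      obtain ⟨c, hc⟩ : ∃ c, π = X - C c := by
        refine ⟨-π.coeff 0, ?_⟩
        rw [map_neg, sub_neg_eq_add]
        exact hπm.eq_X_add_C h1
      refine (hd' c).2 ?_
      have hann := hψ.aeval_self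
      rw [hc, map_pow, map_sub, aeval_X, aeval_C, Algebra.algebraMap_eq_smul_one] at hann
      have := congrArg LinearMap.det hann
      rw [map_pow, LinearMap.det_zero, zero_pow (by rw [hW, h1, mul_one]; omega)] at this
      exact pow_eq_zero_iff (by omega) |>.1 this
    by_cases he1 : e = 1
    · subst he1
      rw [pow_one] at hψ
      left
      have := (AdjoinRoot.powerBasis hπ.ne_zero).finite
      obtain ⟨E, hE⟩ := (cyc_model hπm).exists_equiv hψ
      exact ((((hasFix_model_irreducible hπ).conj E hE).prod_left φ)).conj (LinearEquiv.prodComm K W V) hswap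
    have h4 : 4 ≤ finrank K W := by rw [hW]; exact le_trans (by norm_num) (Nat.mul_le_mul (show 2 ≤ e by omega) hdeg)
    rcases ih (fun c => (hd' c).1) with h1 | h1 | ⟨p, hp, hr⟩ | hr
    · exact Or.inl (h1.prod_left ψ)
    · refine Or.inr (Or.inr (Or.inl ⟨π ^ e, ?_, by rw [finrank_prod]; omega⟩))
      let E : W ≃ₗ[K] V × W :=
        { toFun := fun w => (0, w)
          invFun := Prod.snd
          map_add' := fun a b => by simp
          map_smul' := fun a b => by simp
          left_inv := fun w => rfl
          right_inv := fun x => Prod.ext (Subsingleton.elim _ _) rfl }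
      exact hψ.of_conj E fun x => Prod.ext (Subsingleton.elim _ _) rfl
    · exact Or.inr (Or.inr (Or.inr (by rw [finrank_prod]; omega)))
    · exact Or.inr (Or.inr (Or.inr (by rw [finrank_prod]; omega)))

/-- A matrix without eigenvalues in dimension less than eight. -/
theorem rootfree_small [Fintype K] {n : ℕ} (hn : n < 8 ∧ 0 < n) {x : Matrix (Fin n) (Fin n) K} (hx : RootFree x) :
    Full x ∨ Cyclic x := by
  have hφ : NoRoot (Matrix.toLin' x) := fun c => by
    have : Matrix.toLin' x - c • (1 : Module.End K (Fin n → K)) = Matrix.toLin' (x - c • 1) := by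
      rw [map_sub, map_smul, Matrix.toLin'_one]; rfl
    rw [this, LinearMap.det_toLin']
    exact hx c
  rcases six_state (Matrix.toLin' x) hφ with h | h | ⟨p, hp, -⟩ | h
  · left
    intro μ hμ
    obtain ⟨c, hc, hcd⟩ := h μ hμ
    refine ⟨LinearMap.toMatrix' c, by rw [LinearMap.det_toMatrix', hcd], ?_⟩
    have := congrArg LinearMap.toMatrix' hc
    rwa [Module.End.mul_eq_comp, Module.End.mul_eq_comp, LinearMap.toMatrix'_comp, LinearMap.toMatrix'_comp,
      LinearMap.toMatrix'_toLin'] at this
  · have := finrank_zero_of_subsingleton (R := K) (M := Fin n → K)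
    rw [finrank_fin_fun] at this
    omega
  · right
    obtain ⟨hpm, hfd, hdeg, v, hv⟩ := hp
    refine ⟨v, fun f hf => ?_⟩
    have hb := SmallFieldComm.bijective_of (φ := Matrix.toLin' x) hpm hdeg (v := v) (fun r hr h0 => by
      by_contra hne
      exact absurd (natDegree_le_of_dvd ((hv r).1 h0) hne) hr.not_ge)
    refine dotProduct_eq_zero f fun w => ?_
    obtain ⟨⟨r, _⟩, hr⟩ := hb.2 w
    rw [← hr]
    simp only [LinearMap.comp_apply, Submodule.subtype_apply, SmallFieldComm.evalAt_apply]
    clear hr
    rename_i hmem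
    clear hmem
    induction r using Polynomial.induction_on' with
    | add a b ha hb => rw [map_add, LinearMap.add_apply, dotProduct_add, ha, hb, add_zero]
    | monomial k a =>
      rw [aeval_monomial, Module.End.mul_apply, Algebra.algebraMap_eq_smul_one, LinearMap.smul_apply,
        Module.End.one_apply, dotProduct_smul, ← Matrix.toLin'_pow, Matrix.toLin'_apply, hf k, smul_zero]
  · rw [finrank_fin_fun] at h
    omega

end CfsgLib.Classical.Covering
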