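import Cfsg.Agent.Lib.Classical.Covering.RootFreeGL
import Cfsg.Agent.Lib.Classical.Covering.SixDim

/-!
# Products of conjugates of a matrix without eigenvalues, in the special linear group
-/

set_option autoImplicit false

namespace CfsgLib.Classical.Covering

open Matrix Polynomial CfsgLib.Classical.UnipotentGen CfsgLib.Classical.Sourour
open CfsgLib.Classical.RegularUnipotentProduct (Four)

variable {K : Type*} [Field K] {n m : ℕ}

/-- Conjugates by matrices of determinant one. -/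
abbrev SC (x : Matrix (Fin n) (Fin n) K) : Matrix (Fin n) (Fin n) K → Prop := fun k => Cd 1 k x

theorem SC.det_eq {x k : Matrix (Fin n) (Fin n) K} (h : SC x k) : k.det = x.det :=
  (Cd.sim one_ne_zero h).det_eq

theorem prd_sc_of_cd {x g g₀ S : Matrix (Fin n) (Fin n) K} {δ : K} (hδ : δ ≠ 0) (hg : Cd δ g S) (hg₀ : Cd δ g₀ S)
    (h : Prd (SC x) m g₀) : Prd (SC x) m g := by
  refine Prd.cd ?_ h
  have := hg.trans (hg₀.symm hδ)
  rwa [mul_inv_cancel₀ hδ] at this

/-- One element gives the whole class of a list with a simple entry. -/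
theorem scls_of_mem {x k : Matrix (Fin n) (Fin n) K} {L : Fin n → K} (hL : Full (std L)) (hk : Sim k (std L))
    (h : Prd (SC x) m k) : PCls (SC x) m L :=
  fun _ hg => prd_sc_of_cd one_ne_zero (hL.any hg one_ne_zero) (hL.any hk one_ne_zero) h

theorem full_lst {k : ℕ} {h p r : K} (hp : p ≠ h) (hr : r ≠ h) (hn : 0 < n) : Full (std (lst n k h p r)) := by
  refine full_std (i₀ := ⟨0, hn⟩) fun i hi => ?_
  simp only [lst, if_true] at hi
  by_contra hne
  have h0 : i.val ≠ 0 := fun e => hne (Fin.ext e)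
  rw [if_neg h0] at hi
  split_ifs at hi
  · exact hp hi
  · exact hr hi

theorem fresh_pm [Fintype K] (hq : 4 ≤ Fintype.card K) : ∃ v : K, v ≠ 0 ∧ v ≠ 1 ∧ v * v ≠ 1 ∧ v⁻¹ ≠ 1 ∧ v ≠ v⁻¹ := by
  classical
  obtain ⟨v, hv⟩ := fresh_of_card ({0, 1, -1} : Finset K) (lt_of_le_of_lt Finset.card_le_three (by omega))
  simp only [Finset.mem_insert, Finset.mem_singleton, not_or] at hv
  have h2 : v * v ≠ 1 := fun h => by
    rcases mul_self_eq_one_iff.1 h with h | h
    · exact hv.2.1 h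
    · exact hv.2.2 h
  refine ⟨v, hv.1, hv.2.1, h2, fun h => hv.2.1 (by rwa [inv_eq_one] at h), fun h => h2 ?_⟩
  conv_lhs => arg 2; rw [h]
  exact mul_inv_cancel₀ hv.1

/-- Odd dimension: the lists among the products of two and of three conjugates. -/
theorem sl_odd_lists [Fintype K] (hq : 4 ≤ Fintype.card K) {j : ℕ}
    {x : Matrix (Fin (j + 2 + (j + 2 + 1))) (Fin (j + 2 + (j + 2 + 1))) K} (hx : RootFree x) (hx1 : x.det = 1) :
    ∃ v : K, v ≠ 0 ∧ v ≠ 1 ∧ v ≠ v⁻¹ ∧ v⁻¹ ≠ 1 ∧ PCls (SC x) 2 (lst (j + 2 + (j + 2 + 1)) (j + 3) 1 v v⁻¹) ∧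
      PCls (SC x) 3 (lst (j + 2 + (j + 2 + 1)) (j + 3) 1 v v⁻¹) := by
  classical
  have h4 := four_of_card hq
  obtain ⟨v, hv0, hv1, hvv, hvi, hne⟩ := fresh_pm hq
  obtain ⟨E, T, B, hEd, hxE⟩ := frame_odd hx one_ne_zero
  have hφ : (swapOdd K (j + 2)).phi.det * v ^ (j + 2) ≠ 0 :=
    mul_ne_zero (swapOdd K (j + 2)).det_phi_ne_zero (pow_ne_zero _ hv0)
  obtain ⟨E', T', B', hEd', hxE'⟩ := frame_odd hx hφ
  have hE : E.det ≠ 0 := by rw [hEd]; exact one_ne_zero
  have hE' : E'.det ≠ 0 := by rw [hEd']; exact hφ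
  obtain ⟨w, hw⟩ := odd_w hx hE hE' hxE hxE'
  obtain ⟨h, hh0, hhd, hk⟩ := odd_two h4 hE hE' hxE hxE' (by rw [hx1]; exact one_ne_zero) (κ := 1) (a := 1)
    one_ne_zero hv0 (by rw [hx1, one_pow, one_pow, one_mul]) hvv hv1 hw
    (fun e => absurd (by rw [one_div] at e; exact e.symm) hvi)
  have hh1 : h.det = 1 := by
    rw [hEd, hEd', one_mul] at hhd
    exact (mul_eq_right₀ hφ).1 hhd
  have hk2 : Prd (SC x) 2 (h * x * h⁻¹ * x) :=
    Prd.pair (by have := Cd.conj hh0 x; rwa [hh1] at this) (Cd.refl x)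
  have hgL : Grouped (lst (j + 2 + (j + 2 + 1)) (j + 3) 1 v v⁻¹) := grouped_lst (by omega) hne hvi.symm
  have hF := full_lst (n := j + 2 + (j + 2 + 1)) (k := j + 3) hv1 hvi (by omega)
  have h2 : PCls (SC x) 2 (lst (j + 2 + (j + 2 + 1)) (j + 3) 1 v v⁻¹) := by
    refine scls_of_mem hF (hk.trans (sim_std' ?_ hgL ?_)) hk2
    · exact grouped_append (grouped_cst v) (grouped_cons_cst 1 (1 / v)) fun _ l => by
        refine Fin.cases ?_ (fun l => ?_) l
        · simpa [cst] using hv1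
        · simpa [cst] using hne
    · rw [machine_list_charpoly, charpoly_lst (by omega) (by omega), one_div,
        show j + 3 - 1 = j + 2 by omega, show j + 2 + (j + 2 + 1) - (j + 3) = j + 2 by omega]
      ring
  refine ⟨v, hv0, hv1, hne, hvi, h2, ?_⟩
  obtain ⟨a, u, hxau, ha, hu⟩ := rootfree_split' (by omega) h4 hx
    (d := fun i => (lst (j + 2 + (j + 2 + 1)) (j + 3) 1 v v⁻¹ i)⁻¹) (e := lst (j + 2 + (j + 2 + 1)) (j + 3) 1 v v⁻¹)
    (grouped_inv hgL) hgL (fun i => inv_ne_zero (lst_ne_zero one_ne_zero hv0 (inv_ne_zero hv0) i))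
    (lst_ne_zero one_ne_zero hv0 (inv_ne_zero hv0)) (κ := 1) (fun i hi => by
      simp only [lst, if_neg hi]
      split_ifs
      · exact inv_mul_cancel₀ hv0
      · exact inv_mul_cancel₀ (inv_ne_zero hv0))
    (by simp [lst, hx1])
  have ha' : Sim a⁻¹ (std (lst (j + 2 + (j + 2 + 1)) (j + 3) 1 v v⁻¹)) := by
    have := std_inv_sim (grouped_inv hgL) (fun i => inv_ne_zero (lst_ne_zero one_ne_zero hv0 (inv_ne_zero hv0) i)) ha
    simpa using this
  have hau : IsUnit a.det := isUnit_of fun h' => one_ne_zero (α := K) (by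
    rw [← hx1, hxau, det_mul, h', zero_mul])
  refine scls_of_mem hF hu ?_
  rw [show u = a⁻¹ * x by rw [hxau, Matrix.nonsing_inv_mul_cancel_left _ _ hau]]
  exact (h2 _ ha').mul (Prd.one (Cd.refl x))

theorem two_eq_ite (s : ℕ) (v μ : K) : two s s v μ = fun i : Fin (s + s) => if i.val < s then v else μ := by
  funext i
  refine Fin.addCases (fun i => ?_) (fun i => ?_) i
  · simp [two, cst]
  · rw [two, Fin.append_right]; simp [cst]

/-- Even dimension: a class of the two-valued list among the products of two conjugates. -/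
theorem sl_even_two [Fintype K] (hq : 4 ≤ Fintype.card K) {j : ℕ}
    {x : Matrix (Fin (j + 2 + 1 + (j + 2 + 1))) (Fin (j + 2 + 1 + (j + 2 + 1))) K} (hx : RootFree x)
    (hx1 : x.det = 1) :
    ∃ v μ δ : K, v ≠ 0 ∧ μ ≠ 0 ∧ v ≠ μ ∧ δ ≠ 0 ∧
      (∏ i : Fin (j + 2 + 1 + (j + 2 + 1)), if i.val < j + 2 + 1 then v else μ) = 1 ∧
      ∀ k, Cd δ k (std fun i : Fin (j + 2 + 1 + (j + 2 + 1)) => if i.val < j + 2 + 1 then v else μ) →
        Prd (SC x) 2 k := by
  classical
  have h4 := four_of_card hq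
  have hx0 : x.det ≠ 0 := by rw [hx1]; exact one_ne_zero
  obtain ⟨v₀, hv0, hv1, hvv, -, -⟩ := fresh_pm hq
  obtain ⟨E, T, B, hEd, hxE⟩ := frame_even hx one_ne_zero
  have hφ : (swapEven K (j + 2 + 1)).phi.det * v₀ ^ (j + 2 + 1) ≠ 0 :=
    mul_ne_zero (swapEven K (j + 2 + 1)).det_phi_ne_zero (pow_ne_zero _ hv0)
  obtain ⟨E', T', B', hEd', hxE'⟩ := frame_even hx hφ
  have hE : E.det ≠ 0 := by rw [hEd]; exact one_ne_zero
  have hE' : E'.det ≠ 0 := by rw [hEd']; exact hφ
  have hTT : T.det * T'.det = 1 := by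
    have := (swapEven K (j + 2 + 1)).det_quot_mul hE hE' hxE hxE'
    simpa [Swap.quot, swapEven, hx1] using this
  obtain ⟨P, κ, v, hP, hκ, hκd, hv, hvκ, hdet, hns⟩ : ∃ (P : Matrix (Fin (j + 2 + 1)) (Fin (j + 2 + 1)) K) (κ v : K),
      P.det ≠ 0 ∧ κ ≠ 0 ∧ κ ^ (j + 2 + 1) = 1 ∧ v ≠ 0 ∧ v * v ≠ κ ∧
      P.det * (v ^ (j + 2 + 1) * P.det) = v₀ ^ (j + 2 + 1) ∧
      (NonScalar (T * (P * T' * P⁻¹)) ∨ T * (P * T' * P⁻¹) = κ • 1) := by
    by_cases hZ : NonScalar (T * T')
    · exact ⟨1, 1, v₀, by simp, one_ne_zero, one_pow _, hv0, hvv, by simp, Or.inl (by simpa using hZ)⟩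
    obtain ⟨c, hc⟩ := not_not.1 hZ
    have hcs : c ^ (j + 2 + 1) = 1 := by
      rw [← hTT, ← det_mul, hc, det_smul, det_one, mul_one, Fintype.card_fin]
    have hc0 : c ≠ 0 := fun h => by simp [h] at hcs
    by_cases hvc : v₀ * v₀ = c
    swap
    · exact ⟨1, c, v₀, by simp, hc0, hcs, hv0, hvc, by simp, Or.inr (by simpa using hc)⟩
    have hc1 : c ≠ 1 := fun h => hvv (hvc.trans h)
    rcases Nat.even_or_odd' (j + 2 + 1) with ⟨i, hi | hi⟩
    · set p := v₀ ^ i
      have hp : p ≠ 0 := pow_ne_zero _ hv0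
      set P : Matrix (Fin (j + 2 + 1)) (Fin (j + 2 + 1)) K := bord p 0 0 1 with hPdef
      have hPd : P.det = p := by rw [hPdef, det_bord_upper, det_one, mul_one]
      have hPi : P⁻¹ = bord p⁻¹ 0 0 1 := Matrix.inv_eq_right_inv (by
        rw [hPdef, bord_mul, ← bord_one]
        congr 1 <;> simp [hp, bord_one])
      refine ⟨P, c, c, by rw [hPd]; exact hp, hc0, hcs, hc0, fun h => hc1 ?_, ?_, ?_⟩
      · exact mul_left_cancel₀ hc0 (h.trans (mul_one c).symm)
      · rw [hPd, hcs, one_mul, ← pow_add, show i + i = j + 2 + 1 by omega]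
      by_cases hZP : NonScalar (T * (P * T' * P⁻¹))
      · exact Or.inl hZP
      obtain ⟨e, he⟩ := not_not.1 hZP
      refine Or.inr ?_
      by_cases hec : e = c
      · rw [← hec]; exact he
      exfalso
      have hTu : IsUnit T.det := isUnit_of fun h => by simp [h] at hTT
      have hrel : c • (P * T' * P⁻¹) = e • T' := by
        have h1 : P * T' * P⁻¹ = e • T⁻¹ := by
          rw [← Matrix.nonsing_inv_mul_cancel_left T (P * T' * P⁻¹) hTu, he, Matrix.mul_smul, mul_one]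
        have h2 : T' = c • T⁻¹ := by
          rw [← Matrix.nonsing_inv_mul_cancel_left T T' hTu, hc, Matrix.mul_smul, mul_one]
        rw [h1, h2, smul_smul, smul_smul, mul_comm]
      have hlow : ∀ a b : Fin (j + 2), T' a.succ b.succ = 0 := by
        intro a b
        have h1 := congrFun (congrFun hrel a.succ) b.succ
        have h2 : (P * T' * P⁻¹) a.succ b.succ = T' a.succ b.succ := by
          rw [hPi, hPdef]
          simp [Matrix.mul_apply, Fin.sum_univ_succ, Matrix.one_apply]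
        rw [Matrix.smul_apply, Matrix.smul_apply, h2, smul_eq_mul, smul_eq_mul] at h1
        have h3 : (c - e) * T' a.succ b.succ = 0 := by linear_combination h1
        exact (mul_eq_zero.1 h3).resolve_left (sub_ne_zero.2 (Ne.symm hec))
      have hrank : T'.rank ≤ 2 := by
        rw [show T' = vecMulVec (Pi.single 0 1) (fun b => T' 0 b) +
            vecMulVec (Fin.cons 0 fun a => T' a.succ 0) (Pi.single 0 1) from ?_]
        · exact rank_two _ _ _ _
        ext a b
        refine Fin.cases ?_ (fun a => ?_) a <;> refine Fin.cases ?_ (fun b => ?_) b <;>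
          simp [vecMulVec_apply, hlow, Fin.succ_ne_zero]
      rw [rank_lt_det_zero (show T'.rank < j + 2 + 1 by omega), mul_zero] at hTT
      exact zero_ne_one hTT
    · refine ⟨1, c, v₀ * c, by simp, hc0, hcs, mul_ne_zero hv0 hc0, fun h => ?_, by simp [mul_pow, hcs],
        Or.inr (by simpa using hc)⟩
      have hcc : c * c = 1 := by
        refine mul_left_cancel₀ hc0 ?_
        rw [mul_one]
        linear_combination h - c * c * hvc
      rw [hi, pow_succ, pow_mul, pow_two, hcc, one_pow, one_mul] at hcs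
      exact hc1 hcs
  obtain ⟨h, hh0, hhd, hk⟩ := even_two h4 (j := j + 1) hE hE' hxE hxE' hx0 hP hκ hv
    (by rw [hx1, one_pow]; exact hκd) hvκ hns
  have hh1 : h.det = 1 := by
    rw [hEd, hEd', one_mul, hdet] at hhd
    exact (mul_eq_right₀ hφ).1 hhd
  have hk2 : Prd (SC x) 2 (h * x * h⁻¹ * x) :=
    Prd.pair (by have := Cd.conj hh0 x; rwa [hh1] at this) (Cd.refl x)
  rw [two_eq_ite] at hk
  obtain ⟨δ, hδ, hk⟩ := hk
  refine ⟨v, κ / v, δ, hv, div_ne_zero hκ hv, fun e => hvκ ?_, hδ, ?_, fun k hk' => prd_sc_of_cd hδ hk' hk hk2⟩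
  · calc v * v = v * (κ / v) := by rw [← e]
      _ = κ := mul_div_cancel₀ κ hv
  · rw [prod_if_lt v (κ / v) _ (j + 2 + 1) (by omega),
      show j + 2 + 1 + (j + 2 + 1) - (j + 2 + 1) = j + 2 + 1 by omega, ← mul_pow, mul_div_cancel₀ κ hv, hκd]

/-- Two groups, with both classes prescribed. -/
theorem knob_shift [Fintype K] (hq : 3 ≤ Fintype.card K) {s : ℕ} (hs : 2 ≤ s) (hsn : s + 2 < n)
    {C : Matrix (Fin n) (Fin n) K → Prop} {v μ : K} (hv : v ≠ 0) (hμ : μ ≠ 0) (hne : v ≠ μ)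
    {A : Matrix (Fin n) (Fin n) K} (hA : Cyclic A) (hA0 : A.det ≠ 0) {ε : K} (hε : ε ≠ 0) {a : ℕ}
    (hAP : ∀ k, Cd ε k A → Prd C a k) {δ : K} (hδ : δ ≠ 0) {b : ℕ}
    (hU : ∀ k, Cd δ k (std fun i : Fin n => if i.val < s then v else μ) → Prd C b k)
    {g : Matrix (Fin n) (Fin n) K} (hg : Cyclic g) (hgF : Full g)
    (hdet : g.det = A.det * ∏ i : Fin n, if i.val < s then v else μ) : Prd C (a + b) g := by
  obtain ⟨k, rfl⟩ : ∃ k, n = k + 2 := ⟨n - 2, by omega⟩
  obtain ⟨δ₁, hδ₁, hA'⟩ := (sim_comp hA).symm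
  have hsim := Cd.sim hδ₁ hA'
  have he : ε / δ₁ ≠ 0 := div_ne_zero hε hδ₁
  obtain ⟨U, hUc, hUs⟩ := knob hq hs (by omega : s < k) hv hμ hne hg
    (p := A.charpoly) (by rw [hsim.det_eq]; exact hA0) (by rw [hsim.det_eq]; exact hdet)
    (δ := δ / (ε / δ₁)) (div_ne_zero hδ he)
  obtain ⟨p, q, rfl, hp, hq'⟩ := shift hgF hUs he
  refine (hAP p ?_).mul (hU q ?_)
  · have := hp.trans hA'
    rwa [div_mul_cancel₀ ε hδ₁] at this
  · have := hq'.trans hUc
    rwa [mul_div_cancel₀ _ he] at this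

/-- Matrices without eigenvalues and of determinant one. -/
theorem sl_rootfree [Fintype K] (hq : 4 ≤ Fintype.card K) (hn : 5 ≤ n) {x : Matrix (Fin n) (Fin n) K}
    (hx : RootFree x) (hx1 : x.det = 1) {g : Matrix (Fin n) (Fin n) K} (hg1 : g.det = 1)
    (hg : NonScalar g ∨ g = 1) : Prd (SC x) n g := by
  classical
  by_cases hF : Full x
  · exact (gl_rootfree hq hn hx (by rw [hg1, hx1, one_pow]) (by rw [hx1, one_smul]; exact hg)).mono
      fun k hk => hF.any hk one_ne_zero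
  have h4 := four_of_card hq
  have hgκ : NonScalar g ∨ g = (1 : K) • 1 := by rwa [one_smul]
  rcases Nat.even_or_odd' n with ⟨s, hs | hs⟩
  · obtain ⟨j, rfl⟩ : ∃ j, n = j + 2 + 1 + (j + 2 + 1) := ⟨s - 3, by omega⟩
    obtain ⟨v, μ, δ, hv, hμ, hne, hδ, hprod, h2⟩ := sl_even_two hq hx hx1
    obtain ⟨t, ht0, ht1, -, hti, htne⟩ := fresh_pm hq
    set L : Fin (j + 2 + 1 + (j + 2 + 1)) → K := lst (j + 2 + 1 + (j + 2 + 1)) 2 t t⁻¹ 1 with hL
    have hLg : Grouped L := grouped_lst (by omega) hti ht1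
    have hLF : Full (std L) := full_lst htne.symm ht1.symm (by omega)
    have hL0 : ∀ i, L i ≠ 0 := lst_ne_zero ht0 (inv_ne_zero ht0) one_ne_zero
    have hLd : (std L).det = 1 := by
      have h' : ∏ i, L i = t * (t⁻¹ ^ (2 - 1) * (1 : K) ^ ((j + 2 + 1 + (j + 2 + 1)) - 2)) :=
        prod_lst (fun a => a) (by omega) (by omega) t t⁻¹ 1
      rw [det_std, h', one_pow, mul_one, show 2 - 1 = 1 from rfl, pow_one, mul_inv_cancel₀ ht0]
    have hLc : Cyclic (std L) := cyclic_std' hLg (Sim.refl _)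
    set two' : Fin (j + 2 + 1 + (j + 2 + 1)) → K := fun i => if i.val < j + 2 + 1 then v else μ with htwo
    have h2d : (std two').det = 1 := by rw [det_std]; exact hprod
    have hprod' : (std L).det = 1 * ∏ i : Fin (j + 2 + 1 + (j + 2 + 1)), if i.val < j + 2 + 1 then v else μ := by
      rw [hLd, one_mul, hprod]
    have h4L : PCls (SC x) 4 L := scls_of_mem hLF (Sim.refl _)
      (knob_shift (by omega) (by omega) (by omega) hv hμ hne (cyclic_std' (grouped_two _ v μ) (Sim.refl _))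
        (by rw [h2d]; exact one_ne_zero) hδ h2 hδ h2 hLc hLF (by rw [h2d]; exact hprod'))
    have hend : ∀ {a b : ℕ}, a + b = (j + 2 + 1 + (j + 2 + 1)) → PCls (SC x) a L → PCls (SC x) b L → Prd (SC x) (j + 2 + 1 + (j + 2 + 1)) g := by
      intro a b hab ha hb
      obtain ⟨p, q, rfl, hp, hq'⟩ := lu_any' (by omega) h4 one_ne_zero (by rw [hg1, one_pow]) hgκ hLg hL0
      refine (congrArg (Prd (SC x) · (p * q)) hab).mp ?_
      refine (ha p hp).mul (hb q (hq'.trans ?_))
      rw [hL, lst_div]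
      have e1 : (1 : K) / t⁻¹ = t := by rw [one_div, inv_inv]
      rw [one_div t, e1, div_one]
      refine sim_std' (grouped_lst (by omega) ht1 hti) hLg ?_
      rw [charpoly_lst (by omega) (by omega), charpoly_lst (by omega) (by omega),
        show 2 - 1 = 1 from rfl, pow_one, pow_one]
      ring
    rcases Nat.eq_zero_or_pos j with rfl | hj
    · have hxc : Cyclic x := (rootfree_small (n := 0 + 2 + 1 + (0 + 2 + 1)) (by omega) hx).resolve_left hF
      have h3L : PCls (SC x) (1 + 2) L := scls_of_mem hLF (Sim.refl _)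
        (knob_shift (by omega) (by omega) (by omega) hv hμ hne hxc (by rw [hx1]; exact one_ne_zero) one_ne_zero
          (fun k hk => Prd.one hk) hδ h2 hLc hLF (by rw [hx1]; exact hprod'))
      exact hend (by omega) h3L h3L
    · have hall : ∀ i, PCls (SC x) (2 * i + 4) L := by
        intro i
        induction i with
        | zero => exact h4L
        | succ i ih =>
          rw [show 2 * (i + 1) + 4 = 2 * i + 4 + 2 by ring]
          exact scls_of_mem hLF (Sim.refl _) (knob_shift (by omega) (by omega) (by omega) hv hμ hne hLc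
            (by rw [hLd]; exact one_ne_zero) one_ne_zero (fun k hk => ih k (Cd.sim one_ne_zero hk)) hδ h2 hLc hLF
            (by rw [hLd]; rw [hLd] at hprod'; exact hprod'))
      exact hend (a := 2 * (j - 1) + 4) (by omega) (hall (j - 1)) h4L
  · obtain ⟨j, rfl⟩ : ∃ j, n = j + 2 + (j + 2 + 1) := ⟨s - 2, by omega⟩
    obtain ⟨v, hv0, hv1, hne, hvi, h2, h3⟩ := sl_odd_lists hq hx hx1
    set L := lst (j + 2 + (j + 2 + 1)) (j + 3) 1 v v⁻¹ with hL
    have hLg : Grouped L := grouped_lst (by omega) hne hvi.symm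
    have hC : ∀ k, SC x k → k.det = 1 := fun k hk => by rw [hk.det_eq, hx1]
    rcases Nat.eq_zero_or_pos j with rfl | hj
    · obtain ⟨p, q, rfl, hp, hq'⟩ := lu_any' (by omega) h4 one_ne_zero (by rw [hg1, one_pow]) hgκ hLg
        (lst_ne_zero one_ne_zero hv0 (inv_ne_zero hv0))
      have := (h3 p hp).mul (h2 q (hq'.trans ?_))
      · exact this
      rw [hL, lst_div, div_one]
      have e1 : (1 : K) / v⁻¹ = v := by rw [one_div, inv_inv]
      rw [one_div v, e1]
      refine sim_std' (grouped_lst (by omega) hne.symm hv1.symm) hLg ?_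
      rw [charpoly_lst (by omega) (by omega), charpoly_lst (by omega) (by omega),
        show 0 + 3 - 1 = 2 from rfl]
      ring
    · refine gl_final hq (by omega) one_ne_zero hC hLg h2 (a := 2 * j + 3) (by omega) (fun g' hg' hd' => ?_)
        (by rw [hg1, one_pow]) hgκ
      have := gl_cyclic hq (by omega) one_ne_zero hC hLg hLg h3 h2 (j - 1) g' hg' (by rw [hd', one_pow, one_pow])
      rwa [show 3 + 2 * (j - 1) + 2 = 2 * j + 3 by omega] at this

end CfsgLib.Classical.Covering
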