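import Cfsg.Agent.Lib.Classical.Covering.Pencil
import Cfsg.Agent.Lib.Classical.Covering.Induction
import Cfsg.Agent.Lib.Classical.Covering.RootFreeSL

/-!
# Scalar targets
-/

set_option autoImplicit false

universe u

namespace CfsgLib.Classical.Covering

open Matrix Module Polynomial CfsgLib.Classical.UnipotentGen CfsgLib.Classical.Sourour

variable {K : Type u} [Field K] {k m n : ℕ}

/-! ## A root and another eigenvalue: Fitting decomposition -/

theorem exists_fitting {x : Matrix (Fin n) (Fin n) K} (hroot : ¬ RootFree x)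
    (hnil : ∀ lam : K, (x - lam • 1).det = 0 → ¬ IsNilpotent (x - lam • 1)) (hx1 : x.det = 1) : Bin x := by
  classical
  simp only [RootFree, not_forall, not_not] at hroot
  obtain ⟨lam, hlam⟩ := hroot
  have hn0 := hnil lam hlam
  set T : Module.End K (Fin n → K) := Matrix.toLin' (x - lam • 1) with hT
  obtain ⟨j, hj⟩ := Filter.eventually_atTop.1 T.eventually_isCompl_ker_pow_range_pow
  set p := max j 1
  have hcompl : IsCompl (LinearMap.ker (T ^ p)) (LinearMap.range (T ^ p)) := hj p (le_max_left _ _)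
  have hTp : T ^ p = Matrix.toLin' ((x - lam • 1) ^ p) := (Matrix.toLin'_pow _ _).symm
  have hkr : 0 < finrank K (LinearMap.ker (T ^ p)) := by
    rw [pos_iff_ne_zero, ne_eq, Submodule.finrank_eq_zero]
    intro h
    obtain ⟨v, hv, hxv⟩ := Matrix.exists_mulVec_eq_zero_iff.2 hlam
    refine hv ((Submodule.mem_bot K).1 (h ▸ ?_))
    obtain ⟨q, hq⟩ : ∃ q, p = q + 1 := ⟨p - 1, by omega⟩
    rw [LinearMap.mem_ker, hq, pow_succ, Module.End.mul_apply, hT, Matrix.toLin'_apply, hxv, map_zero]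
  have hrg : 0 < finrank K (LinearMap.range (T ^ p)) := by
    rw [pos_iff_ne_zero, ne_eq, Submodule.finrank_eq_zero]
    intro h
    exact hn0 ⟨p, Matrix.toLin'.injective (by rw [map_zero, ← hTp]; exact LinearMap.range_eq_bot.1 h)⟩
  obtain ⟨a, ha⟩ : ∃ a, finrank K (LinearMap.ker (T ^ p)) = a + 1 := ⟨_ - 1, (Nat.succ_pred_eq_of_pos hkr).symm⟩
  obtain ⟨b, hb⟩ : ∃ b, finrank K (LinearMap.range (T ^ p)) = b + 1 := ⟨_ - 1, (Nat.succ_pred_eq_of_pos hrg).symm⟩
  let B := ((finBasisOfFinrankEq K _ ha).prod (finBasisOfFinrankEq K _ hb)).map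
    (Submodule.prodEquivOfIsCompl _ _ hcompl)
  let f : Module.End K (Fin n → K) := Matrix.toLin' x
  let M := LinearMap.toMatrix B B f
  have hfT : f = T + lam • 1 := by
    rw [hT, map_sub, map_smul, Matrix.toLin'_one]
    exact (sub_add_cancel _ _).symm
  have hcomm : Commute f (T ^ p) := by
    refine Commute.pow_right ?_ p
    rw [hfT]
    exact (Commute.refl T).add_left ((Commute.one_left T).smul_left lam)
  have hkmap : ∀ v ∈ LinearMap.ker (T ^ p), f v ∈ LinearMap.ker (T ^ p) := by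
    intro v hv
    rw [LinearMap.mem_ker] at hv ⊢
    rw [← Module.End.mul_apply, ← hcomm.eq, Module.End.mul_apply, hv, map_zero]
  have hrmap : ∀ v ∈ LinearMap.range (T ^ p), f v ∈ LinearMap.range (T ^ p) := by
    rintro v ⟨w, rfl⟩
    exact ⟨f w, by rw [← Module.End.mul_apply, ← hcomm.eq, Module.End.mul_apply]⟩
  have hBl : ∀ i, B (Sum.inl i) = (finBasisOfFinrankEq K _ ha i : Fin n → K) := fun i => by
    simp [B, Submodule.coe_prodEquivOfIsCompl']
  have hBr : ∀ i, B (Sum.inr i) = (finBasisOfFinrankEq K _ hb i : Fin n → K) := fun i => by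
    simp [B, Submodule.coe_prodEquivOfIsCompl']
  have h21 : ∀ i l, M (Sum.inr i) (Sum.inl l) = 0 := by
    intro i l
    have hmem := hkmap _ (finBasisOfFinrankEq K _ ha l).2
    simp only [M, LinearMap.toMatrix_apply]
    rw [hBl]
    simp only [B, Basis.map_repr, LinearEquiv.trans_apply]
    rw [Basis.prod_repr_inr,
      (Submodule.prodEquivOfIsCompl_symm_apply_snd_eq_zero _ _ hcompl).2 hmem, map_zero]
    rfl
  have h12 : ∀ i l, M (Sum.inl i) (Sum.inr l) = 0 := by
    intro i l
    have hmem := hrmap _ (finBasisOfFinrankEq K _ hb l).2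
    simp only [M, LinearMap.toMatrix_apply]
    rw [hBr]
    simp only [B, Basis.map_repr, LinearEquiv.trans_apply]
    rw [Basis.prod_repr_inl,
      (Submodule.prodEquivOfIsCompl_symm_apply_fst_eq_zero _ _ hcompl).2 hmem, map_zero]
    rfl
  set D := M.toBlocks₁₁ with hD
  set Y := M.toBlocks₂₂ with hY
  have hM : M = fromBlocks D 0 0 Y := by
    rw [← Matrix.fromBlocks_toBlocks M]
    congr 1
    · ext i l; exact h12 i l
    · ext i l; exact h21 i l
  have hMd : D.det * Y.det = 1 := by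
    rw [← det_fromBlocks_zero₂₁ D 0 Y, ← hM, LinearMap.det_toMatrix, LinearMap.det_toLin', hx1]
  -- the nilpotent and the invertible part
  have hTM : LinearMap.toMatrix B B (T ^ p) = fromBlocks ((D - lam • 1) ^ p) 0 0 ((Y - lam • 1) ^ p) := by
    have e : LinearMap.toMatrix B B T = fromBlocks (D - lam • 1) 0 0 (Y - lam • 1) := by
      rw [show T = f - lam • 1 from eq_sub_of_add_eq hfT.symm, map_sub, map_smul, LinearMap.toMatrix_one]
      change M - lam • 1 = _
      rw [hM, ← fromBlocks_one, fromBlocks_smul, sub_eq_add_neg, fromBlocks_neg, fromBlocks_add]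
      simp [sub_eq_add_neg]
    change LinearMap.toMatrixAlgEquiv B (T ^ p) = _
    rw [map_pow]
    change LinearMap.toMatrix B B T ^ p = _
    rw [e, fromBlocks_diagonal_pow]
  have hDp : (D - lam • 1) ^ p = 0 := by
    ext i l
    have h := congrFun (congrFun hTM (Sum.inl i)) (Sum.inl l)
    rw [fromBlocks_apply₁₁, LinearMap.toMatrix_apply, hBl, LinearMap.mem_ker.1 (finBasisOfFinrankEq K _ ha l).2,
      map_zero] at h
    exact h.symm
  have hYd : ∀ u, (Y - lam • 1) ^ p *ᵥ u = 0 → u = 0 := by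
    intro u hu
    have hker : ∀ v ∈ LinearMap.range (T ^ p), (T ^ p) v = 0 → v = 0 := fun v hv h =>
      Submodule.disjoint_def.1 hcompl.disjoint v (LinearMap.mem_ker.2 h) hv
    set v : Fin n → K := ∑ l, u l • B (Sum.inr l) with hv
    have hvr : v ∈ LinearMap.range (T ^ p) :=
      Submodule.sum_mem _ fun l _ => Submodule.smul_mem _ _ (by rw [hBr]; exact (finBasisOfFinrankEq K _ hb l).2)
    have hrepr : ⇑(B.repr v) = Sum.elim (0 : Fin (a + 1) → K) u := by
      funext i
      rw [hv, map_sum, Finsupp.finsetSum_apply]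
      simp only [map_smul, Basis.repr_self, Finsupp.smul_single, smul_eq_mul, mul_one, Finsupp.single_apply]
      cases i <;> simp
    have h0 : (T ^ p) v = 0 := by
      refine B.repr.injective (Finsupp.ext fun i => ?_)
      have h := congrFun (LinearMap.toMatrix_mulVec_repr B B (T ^ p) v) i
      rw [hTM, hrepr, fromBlocks_mulVec] at h
      rw [← h, map_zero]
      cases i <;> simp [hu]
    funext l
    have h := congrFun hrepr (Sum.inr l)
    rw [hker v hvr h0, map_zero] at h
    exact h.symm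
  have hsyl : ∀ R : Matrix (Fin (a + 1)) (Fin (b + 1)) K,
      ∃ Z : Matrix (Fin (a + 1)) (Fin (b + 1)) K, R = D * Z - Z * Y := by
    let S : Matrix (Fin (a + 1)) (Fin (b + 1)) K →ₗ[K] Matrix (Fin (a + 1)) (Fin (b + 1)) K :=
      { toFun := fun Z => D * Z - Z * Y
        map_add' := fun Z Z' => by rw [Matrix.mul_add, Matrix.add_mul]; abel
        map_smul' := fun c Z => by rw [RingHom.id_apply, Matrix.mul_smul, Matrix.smul_mul, smul_sub] }
    have hinj : Function.Injective S := by
      refine (injective_iff_map_eq_zero S).2 fun Z hZ => ?_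
      have h1 : D * Z = Z * Y := sub_eq_zero.1 hZ
      have h2 : ∀ q : ℕ, (D - lam • 1) ^ q * Z = Z * (Y - lam • 1) ^ q := by
        intro q
        induction q with
        | zero => simp
        | succ q ih =>
          rw [pow_succ', Matrix.mul_assoc, ih, ← Matrix.mul_assoc, Matrix.sub_mul, Matrix.smul_mul, Matrix.one_mul, h1,
            pow_succ', ← Matrix.mul_assoc Z, Matrix.mul_sub, Matrix.mul_smul, Matrix.mul_one]
      have h3 := h2 p
      rw [hDp, Matrix.zero_mul] at h3
      have hu : IsUnit ((Y - lam • 1) ^ p).det := isUnit_iff_ne_zero.2 fun h => by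
        obtain ⟨u, hu0, hu⟩ := Matrix.exists_mulVec_eq_zero_iff.2 h
        exact hu0 (hYd u hu)
      rw [← Matrix.mul_nonsing_inv_cancel_right ((Y - lam • 1) ^ p) Z hu, ← h3, Matrix.zero_mul]
    intro R
    obtain ⟨Z, hZ⟩ := (LinearMap.injective_iff_surjective.1 hinj) R
    exact ⟨Z, hZ.symm⟩
  have hb' := bin_fromBlocks hMd hsyl
  rw [← hM] at hb'
  -- back to coordinates
  have hcard : n = (a + 1) + (b + 1) := by
    have := Module.finrank_eq_card_basis B
    rw [finrank_fin_fun] at this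
    simpa using this
  let e : Fin (a + 1) ⊕ Fin (b + 1) ≃ Fin n := finSumFinEquiv.trans (finCongr hcard.symm)
  let B' := B.reindex e
  have hM' : Matrix.reindexAlgEquiv K K e M = LinearMap.toMatrix B' B' f := by
    ext i l
    simp [M, B', LinearMap.toMatrix_apply]
  have hb'' := hb'.of_reindex e
  rw [hM'] at hb''
  refine hb''.conj (P := (Pi.basisFun K (Fin n)).toMatrix B') ?_ ?_
  · refine (Matrix.isUnit_iff_isUnit_det _).1 ?_ |>.ne_zero
    exact IsUnit.of_mul_eq_one _ (Basis.toMatrix_mul_toMatrix_flip (Pi.basisFun K (Fin n)) B')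
  · rw [← LinearMap.toMatrix'_toLin' x, ← LinearMap.toMatrix_eq_toMatrix']
    rw [linearMap_toMatrix_mul_basis_toMatrix, basis_toMatrix_mul_linearMap_toMatrix]

/-! ## One eigenvalue -/

theorem det_of_nilpotent {x : Matrix (Fin n) (Fin n) K} {lam : K} (h : IsNilpotent (x - lam • 1)) :
    x.det = lam ^ n := by
  have hc : (x - lam • 1).charpoly = X ^ n := by
    have := (isNilpotent_charpoly_sub_pow_of_isNilpotent h).eq_zero
    rwa [sub_eq_zero, Fintype.card_fin] at this
  have h1 := eval_charpoly (x - lam • 1) (-lam)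
  rw [hc, eval_pow, eval_X] at h1
  have e : scalar (Fin n) (-lam) - (x - lam • 1) = (-1 : K) • x := by
    rw [smul_one_eq_diagonal, Matrix.scalar_apply, neg_one_smul, ← diagonal_neg]
    abel
  rw [e, det_smul, Fintype.card_fin, neg_pow] at h1
  exact (mul_left_cancel₀ (pow_ne_zero n (neg_ne_zero.2 one_ne_zero)) h1).symm

theorem pow_three_zero {x : Matrix (Fin 3) (Fin 3) K} (h : IsNilpotent x) : x ^ 3 = 0 := by
  have hc : x.charpoly = X ^ 3 := by
    have := (isNilpotent_charpoly_sub_pow_of_isNilpotent h).eq_zero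
    rwa [sub_eq_zero, Fintype.card_fin] at this
  have := aeval_self_charpoly x
  rwa [hc, map_pow, aeval_X] at this

theorem smul_bin {x : Matrix (Fin n) (Fin n) K} {c : K} (h : Bin x) : Bin (c • x) := by
  obtain ⟨A, hA, a, b, ha, hb⟩ := h
  exact ⟨A, hA, a, c ^ Fintype.card (Fin n) * b, ha, by rw [Matrix.smul_mul, _root_.smul_pow, hb, smul_smul]⟩

theorem bin_jordan_three {N : Matrix (Fin 3) (Fin 3) K} (hN3 : N ^ 3 = 0) (hN2 : N ^ 2 ≠ 0) : Bin (1 + N) := by
  obtain ⟨v, hv⟩ : ∃ v, N ^ 2 *ᵥ v ≠ 0 := by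
    by_contra! hall
    exact hN2 (Matrix.ext_of_mulVec_single fun i => by rw [hall, zero_mulVec])
  let P : Matrix (Fin 3) (Fin 3) K := Matrix.of fun i j => (![v, -(N *ᵥ v), -(N ^ 2 *ᵥ v)] j) i
  have hcol : ∀ j, P *ᵥ Pi.single j 1 = ![v, -(N *ᵥ v), -(N ^ 2 *ᵥ v)] j := fun j => by
    rw [mulVec_single_one]; funext i; rfl
  have h3 : N *ᵥ (N ^ 2 *ᵥ v) = 0 := by rw [mulVec_mulVec, ← pow_succ', hN3, zero_mulVec]
  have h2 : N *ᵥ (N *ᵥ v) = N ^ 2 *ᵥ v := by rw [mulVec_mulVec, ← pow_two]
  have hPd : P.det ≠ 0 := by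
    intro h
    obtain ⟨u, hu, hPu⟩ := Matrix.exists_mulVec_eq_zero_iff.2 h
    have e : P *ᵥ u = u 0 • v - u 1 • (N *ᵥ v) - u 2 • (N ^ 2 *ᵥ v) := by
      funext i
      simp [P, mulVec, dotProduct, Fin.sum_univ_three]
      ring
    rw [e] at hPu
    have e2 := congrArg (N ^ 2 *ᵥ ·) hPu
    simp only [mulVec_sub, mulVec_smul, mulVec_zero, mulVec_mulVec] at e2
    rw [show N ^ 2 * N = 0 by rw [← pow_succ, hN3], show N ^ 2 * N ^ 2 = 0 by rw [← pow_add, pow_succ, hN3, zero_mul]]
      at e2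
    simp only [zero_mulVec, smul_zero, sub_zero] at e2
    have u0 : u 0 = 0 := (smul_eq_zero.1 e2).resolve_right hv
    rw [u0, zero_smul, zero_sub] at hPu
    have e1 := congrArg (N *ᵥ ·) hPu
    simp only [mulVec_sub, mulVec_neg, mulVec_smul, mulVec_zero, h2, h3, smul_zero, sub_zero, neg_eq_zero] at e1
    have u1 : u 1 = 0 := (smul_eq_zero.1 e1).resolve_right hv
    rw [u1, zero_smul, neg_zero, zero_sub, neg_eq_zero] at hPu
    have u2 : u 2 = 0 := (smul_eq_zero.1 hPu).resolve_right hv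
    exact hu (funext fun i => by fin_cases i <;> simp [u0, u1, u2])
  refine Bin.conj (x' := !![1, 0, 0; -1, 1, 0; 0, 1, 1]) hPd ?_ ?_
  · have e0 : (!![1, 0, 0; -1, 1, 0; 0, 1, 1] : Matrix (Fin 3) (Fin 3) K) *ᵥ Pi.single 0 1 =
        Pi.single 0 1 - Pi.single 1 1 := by funext i; fin_cases i <;> simp
    have e1 : (!![1, 0, 0; -1, 1, 0; 0, 1, 1] : Matrix (Fin 3) (Fin 3) K) *ᵥ Pi.single 1 1 =
        Pi.single 1 1 + Pi.single 2 1 := by funext i; fin_cases i <;> simp
    have e2 : (!![1, 0, 0; -1, 1, 0; 0, 1, 1] : Matrix (Fin 3) (Fin 3) K) *ᵥ Pi.single 2 1 = Pi.single 2 1 := by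
      funext i; fin_cases i <;> simp
    refine Matrix.ext_of_mulVec_single fun j => ?_
    rw [← mulVec_mulVec, ← mulVec_mulVec, hcol, add_mulVec, one_mulVec]
    fin_cases j
    · show _ = P *ᵥ (_ *ᵥ Pi.single 0 1)
      rw [e0, mulVec_sub, hcol, hcol]; simp
    · show _ = P *ᵥ (_ *ᵥ Pi.single 1 1)
      rw [e1, mulVec_add, hcol, hcol]; simp [mulVec_neg, h2]
    · show _ = P *ᵥ (_ *ᵥ Pi.single 2 1)
      rw [e2, hcol]; simp [mulVec_neg, h3]
  · refine ⟨!![0, 0, 1; 1, 0, 0; 0, 1, 0], by simp [det_fin_three], 1, 1, ?_, ?_⟩ <;>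
      · rw [Fintype.card_fin, one_smul, pow_succ, pow_two]
        simp [← Matrix.ext_iff, Fin.forall_fin_succ, Matrix.mul_apply, Fin.sum_univ_three]

theorem bin_square_zero {N : Matrix (Fin 4) (Fin 4) K} (hN : N * N = 0) (hr : N.rank = 2) : Bin (1 + N) := by
  classical
  have hrg : finrank K (LinearMap.range N.mulVecLin) = 2 := hr
  let bs := finBasisOfFinrankEq K _ hrg
  choose w hw using fun j => LinearMap.mem_range.1 (bs j).2
  let P : Matrix (Fin 4) (Fin 4) K := Matrix.of fun i j => (![w 0, w 1, N *ᵥ w 0, N *ᵥ w 1] j) i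
  have hcol : ∀ j, P *ᵥ Pi.single j 1 = ![w 0, w 1, N *ᵥ w 0, N *ᵥ w 1] j := fun j => by
    rw [mulVec_single_one]; funext i; rfl
  have hsq : ∀ v, N *ᵥ (N *ᵥ v) = 0 := fun v => by rw [mulVec_mulVec, hN, zero_mulVec]
  have hli : ∀ a b : K, a • (N *ᵥ w 0) + b • (N *ᵥ w 1) = 0 → a = 0 ∧ b = 0 := by
    intro a b h
    have hi := Fintype.linearIndependent_iff.1 bs.linearIndependent ![a, b] (by
      rw [Fin.sum_univ_two]
      refine Subtype.ext ?_
      have h0 := hw 0
      have h1 := hw 1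
      simp only [mulVecLin_apply] at h0 h1
      simp [← h0, ← h1, h])
    exact ⟨by simpa using hi 0, by simpa using hi 1⟩
  have hPd : P.det ≠ 0 := by
    intro h
    obtain ⟨u, hu, hPu⟩ := Matrix.exists_mulVec_eq_zero_iff.2 h
    have e : P *ᵥ u = u 0 • w 0 + u 1 • w 1 + u 2 • (N *ᵥ w 0) + u 3 • (N *ᵥ w 1) := by
      funext i
      simp [P, mulVec, dotProduct, Fin.sum_univ_four]
      ring
    rw [e] at hPu
    have e1 := congrArg (N *ᵥ ·) hPu
    simp only [mulVec_add, mulVec_smul, mulVec_zero, hsq, smul_zero, add_zero] at e1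
    obtain ⟨u0, u1⟩ := hli _ _ e1
    rw [u0, u1, zero_smul, zero_smul, zero_add, zero_add] at hPu
    obtain ⟨u2, u3⟩ := hli _ _ hPu
    exact hu (funext fun i => by fin_cases i <;> simp [u0, u1, u2, u3])
  refine Bin.conj (x' := !![1, 0, 0, 0; 0, 1, 0, 0; 1, 0, 1, 0; 0, 1, 0, 1]) hPd ?_ ?_
  · have e0 : (!![1, 0, 0, 0; 0, 1, 0, 0; 1, 0, 1, 0; 0, 1, 0, 1] : Matrix (Fin 4) (Fin 4) K) *ᵥ Pi.single 0 1 =
        Pi.single 0 1 + Pi.single 2 1 := by funext i; fin_cases i <;> simp
    have e1 : (!![1, 0, 0, 0; 0, 1, 0, 0; 1, 0, 1, 0; 0, 1, 0, 1] : Matrix (Fin 4) (Fin 4) K) *ᵥ Pi.single 1 1 =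
        Pi.single 1 1 + Pi.single 3 1 := by funext i; fin_cases i <;> simp
    have e2 : (!![1, 0, 0, 0; 0, 1, 0, 0; 1, 0, 1, 0; 0, 1, 0, 1] : Matrix (Fin 4) (Fin 4) K) *ᵥ Pi.single 2 1 =
        Pi.single 2 1 := by funext i; fin_cases i <;> simp
    have e3 : (!![1, 0, 0, 0; 0, 1, 0, 0; 1, 0, 1, 0; 0, 1, 0, 1] : Matrix (Fin 4) (Fin 4) K) *ᵥ Pi.single 3 1 =
        Pi.single 3 1 := by funext i; fin_cases i <;> simp
    refine Matrix.ext_of_mulVec_single fun j => ?_
    rw [← mulVec_mulVec, ← mulVec_mulVec, hcol, add_mulVec, one_mulVec]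
    fin_cases j
    · show _ = P *ᵥ (_ *ᵥ Pi.single 0 1)
      rw [e0, mulVec_add, hcol, hcol]; simp
    · show _ = P *ᵥ (_ *ᵥ Pi.single 1 1)
      rw [e1, mulVec_add, hcol, hcol]; simp
    · show _ = P *ᵥ (_ *ᵥ Pi.single 2 1)
      rw [e2, hcol]; simp [hsq]
    · show _ = P *ᵥ (_ *ᵥ Pi.single 3 1)
      rw [e3, hcol]; simp [hsq]
  · refine ⟨!![1, 0, 0, 0; 0, 1, 0, 0; 0, 0, -1, 0; 0, 0, 0, -1], ?_, 1, 1, ?_, ?_⟩
    · simp [det_succ_row_zero, Fin.sum_univ_succ, det_fin_three, Fin.succAbove]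
    all_goals
      rw [Fintype.card_fin, one_smul, pow_succ, pow_succ, pow_two]
      simp [← Matrix.ext_iff, Fin.forall_fin_succ, Matrix.mul_apply, Fin.sum_univ_four]

theorem unipotent_bin_small {x : Matrix (Fin n) (Fin n) K} {lam : K} (hl : lam ≠ 0) (h : Bin (1 + lam⁻¹ • (x - lam • 1))) :
    Bin x := by
  have := smul_bin (c := lam) h
  rwa [smul_add, smul_smul, mul_inv_cancel₀ hl, one_smul, add_sub_cancel] at this

/-- One eigenvalue: peel it. -/
theorem nilpotent_scalar [Fintype K] (hq : 4 ≤ Fintype.card K) {x : Matrix (Fin (m + 3)) (Fin (m + 3)) K}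
    (hx1 : x.det = 1) (hR : RTwo x) {lam : K} (hnil : IsNilpotent (x - lam • 1)) :
    ∃ c : K, Prd (SC x) (m + 3) (c • 1) := by
  classical
  have hln : lam ^ (m + 3) = 1 := by rw [← det_of_nilpotent hnil, hx1]
  have hl : lam ≠ 0 := fun h => by rw [h, zero_pow (by omega)] at hln; exact zero_ne_one hln
  rcases Nat.eq_zero_or_pos m with rfl | hm
  · refine prd_scalar_of_bin (unipotent_bin_small hl (bin_jordan_three ?_ ?_))
    · rw [_root_.smul_pow, pow_three_zero hnil, smul_zero]
    · intro h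
      rw [_root_.smul_pow, smul_eq_zero] at h
      have h2 : (x - lam • 1) ^ 2 = 0 := h.resolve_left (pow_ne_zero _ (inv_ne_zero hl))
      have hle : LinearMap.range (x - lam • 1).mulVecLin ≤ LinearMap.ker (x - lam • 1).mulVecLin := by
        rintro _ ⟨v, rfl⟩
        rw [LinearMap.mem_ker, mulVecLin_apply, mulVecLin_apply, mulVec_mulVec, ← pow_two, h2, zero_mulVec]
      have h3 := Submodule.finrank_mono hle
      have h4 := finrank_ker_add (x - lam • 1)
      have h5 := hR lam
      rw [Matrix.rank] at h4 h5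
      omega
  obtain ⟨j, rfl⟩ : ∃ j, m = j + 1 := ⟨m - 1, by omega⟩
  set N := x - lam • 1 with hN
  by_cases hex : j = 0 ∧ N * N = 0
  · obtain ⟨rfl, hsq⟩ := hex
    refine prd_scalar_of_bin (unipotent_bin_small hl (bin_square_zero ?_ ?_))
    · rw [Matrix.smul_mul, Matrix.mul_smul, hsq, smul_zero, smul_zero]
    · have h1 := hR lam
      have h2 := finrank_ker_add N
      have hle : LinearMap.range N.mulVecLin ≤ LinearMap.ker N.mulVecLin := by
        rintro _ ⟨v, rfl⟩
        rw [LinearMap.mem_ker, mulVecLin_apply, mulVecLin_apply, mulVec_mulVec, hsq, zero_mulVec]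
      have h3 := Submodule.finrank_mono hle
      have hrk : (lam⁻¹ • N).rank = N.rank := by
        rw [← smul_one_mul lam⁻¹ N]
        exact Matrix.rank_mul_eq_right_of_isUnit_det _ _ (by
          rw [det_smul, det_one, mul_one]; exact (isUnit_iff_ne_zero.2 (inv_ne_zero hl)).pow _)
      rw [hrk]
      have hd : finrank K (LinearMap.range N.mulVecLin) = N.rank := rfl
      have h1' : 2 ≤ N.rank := h1
      omega
  -- an eigenvector off the range, unless the rank is large
  obtain ⟨v, hv0, hvk, hvr⟩ : ∃ v, v ≠ 0 ∧ x *ᵥ v = lam • v ∧ (N.rank = 2 → v ∉ LinearMap.range N.mulVecLin) := by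
    by_cases h2 : N.rank = 2
    · have hnot : ¬ LinearMap.ker N.mulVecLin ≤ LinearMap.range N.mulVecLin := by
        intro hle
        have h3 := Submodule.finrank_mono hle
        have h1 := finrank_ker_add N
        rw [Matrix.rank] at h1 h2
        have hj : j = 0 := by omega
        subst hj
        refine hex ⟨rfl, ?_⟩
        have heq := Submodule.eq_of_le_of_finrank_le hle (by omega)
        refine Matrix.ext_of_mulVec_single fun i => ?_
        rw [zero_mulVec, ← mulVec_mulVec]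
        have : N *ᵥ Pi.single i 1 ∈ LinearMap.ker N.mulVecLin := by rw [heq]; exact ⟨_, rfl⟩
        rw [LinearMap.mem_ker, mulVecLin_apply] at this
        exact this
      obtain ⟨v, hk, hr⟩ := SetLike.not_le_iff_exists.1 hnot
      exact ⟨v, fun h => hr (h ▸ Submodule.zero_mem _), (mem_ker_sub x lam v).1 hk, fun _ => hr⟩
    · have hd : N.det = 0 := by
        obtain ⟨p, hp⟩ := hnil
        have := congrArg Matrix.det hp
        rw [det_pow, det_zero] at this
        exact eq_zero_of_pow_eq_zero this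
      obtain ⟨v, hv, hxv⟩ := Matrix.exists_mulVec_eq_zero_iff.2 hd
      exact ⟨v, hv, (mem_ker_sub x lam v).1 (by rw [LinearMap.mem_ker, mulVecLin_apply]; exact hxv),
        fun h => absurd h h2⟩
  obtain ⟨P, r, Y, hPv, hP, hmodel, hsubc⟩ := eigen_model (m := j + 2) hv0 hvk
  have hP0 : P.det ≠ 0 := by rw [hP]; exact one_ne_zero
  have hY : RTwo Y := by
    intro c
    have hr := rank_conj hP0 (hsubc c)
    by_cases hc : c = lam
    · subst hc
      by_cases h2 : N.rank = 2
      · have h' : ev 0 ∉ LinearMap.range (bord (c - c) r 0 (Y - c • 1)).mulVecLin := by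
          rintro ⟨w, hw⟩
          refine hvr h2 ⟨P *ᵥ w, ?_⟩
          rw [mulVecLin_apply, hN, mulVec_mulVec, hsubc, ← mulVec_mulVec]
          rw [mulVecLin_apply] at hw
          rw [hw, hPv]
        have := bord_rank_le' h'
        rw [← hr, ← hN, h2] at this
        exact this
      · have h3 : 3 ≤ N.rank := by have h5 := hR c; rw [← hN] at h5; omega
        have := bord_rank_le (c - c) r (Y - c • 1)
        rw [← hr, ← hN] at this
        omega
    · have hu : IsUnit (x - c • 1).det := by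
        have e : x - c • 1 = N + (lam - c) • 1 := by rw [hN, sub_smul]; abel
        rw [e]
        refine (Matrix.isUnit_iff_isUnit_det _).1 ?_
        exact IsNilpotent.isUnit_add_right_of_commute hnil
          (by rw [← Algebra.algebraMap_eq_smul_one]; exact (isUnit_iff_ne_zero.2 (sub_ne_zero.2 (Ne.symm hc))).map _)
          ((Commute.one_right _).smul_right _)
      have hfull := Matrix.rank_of_isUnit _ ((Matrix.isUnit_iff_isUnit_det _).2 hu)
      rw [hr, Fintype.card_fin] at hfull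
      have := bord_rank_le (lam - c) r (Y - c • 1)
      omega
  have hdY : lam * Y.det = 1 := by
    have := (hmodel.sim one_ne_zero).det_eq
    rw [hx1, det_bord_upper] at this
    exact this.symm
  have hY0 : Y.det ≠ 0 := right_ne_zero_of_mul (hdY ▸ one_ne_zero)
  have hYu := isUnit_of hY0
  have hYv : Y.det = lam ^ (j + 3) := by
    refine mul_left_cancel₀ hl (hdY.trans ?_)
    rw [← pow_succ', hln]
  set G'' := Y⁻¹ with hG''
  have hns : NonScalar G'' := by
    rintro ⟨t, ht⟩
    refine hY.nonScalar ⟨t⁻¹, ?_⟩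
    have ht0 : t ≠ 0 := fun h => by
      have := Matrix.mul_nonsing_inv Y hYu
      rw [← hG'', ht, h, zero_smul, Matrix.mul_zero] at this
      exact zero_ne_one this
    rw [← Matrix.nonsing_inv_nonsing_inv Y hYu, ← hG'', ht]
    exact Matrix.inv_eq_right_inv (by rw [Matrix.smul_mul, one_mul, smul_smul, mul_inv_cancel₀ ht0, one_smul])
  have hdet : G''.det = Y.det ^ (j + 1 + 2) := by
    rw [hG'', det_nonsing_inv, Ring.inverse_eq_inv]
    show _ = Y.det ^ (j + 3)
    refine inv_eq_of_mul_eq_one_right ?_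
    rw [← pow_succ', hYv, ← pow_mul, mul_comm (j + 3), pow_mul, hln, one_pow]
  obtain ⟨l'', hl'', hlC'', hlp'', hnf⟩ := nice_all hq j Y G'' hY0 hY hns hdet
  set β : Fin (j + 3) → K := -(lam⁻¹ • (r ᵥ* Y⁻¹))
  obtain ⟨l, hll, hlC, -, hlp⟩ := lift_all hl r Y hlC'' hnf β
  refine ⟨1, ?_⟩
  rw [one_smul]
  have hM : Cd 1 (bord lam r 0 Y) x := by
    have := hmodel.symm one_ne_zero
    rwa [inv_one] at this
  refine ⟨bord lam r 0 Y :: l, by simp [hll, hl''], ?_, ?_⟩
  · intro k hk
    rcases List.mem_cons.1 hk with rfl | hk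
    · exact hM
    · have := (hlC k hk).trans hM
      rwa [one_mul] at this
  · rw [List.prod_cons, hlp, hlp'', hl'', hG'', bord_mul, ← bord_one]
    congr 1
    · rw [dotProduct_zero, add_zero, ← pow_succ', hln]
    · rw [smul_neg, smul_smul, mul_inv_cancel₀ hl, one_smul]
      exact neg_add_cancel _
    · simp
    · rw [Matrix.mul_nonsing_inv _ hYu]; simp

/-! ## Dimension three without eigenvalues -/

theorem three_full [Fintype K] {x : Matrix (Fin 3) (Fin 3) K} (hx : RootFree x) : Full x := by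
  have hφ : NoRoot (Matrix.toLin' x) := fun c => by
    have : Matrix.toLin' x - c • (1 : Module.End K (Fin 3 → K)) = Matrix.toLin' (x - c • 1) := by
      rw [map_sub, map_smul, Matrix.toLin'_one]; rfl
    rw [this, LinearMap.det_toLin']
    exact hx c
  rcases six_state (Matrix.toLin' x) hφ with h | h | ⟨p, -, h⟩ | h
  · intro μ hμ
    obtain ⟨c, hc, hcd⟩ := h μ hμ
    refine ⟨LinearMap.toMatrix' c, by rw [LinearMap.det_toMatrix', hcd], ?_⟩
    have := congrArg LinearMap.toMatrix' hc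
    rwa [Module.End.mul_eq_comp, Module.End.mul_eq_comp, LinearMap.toMatrix'_comp, LinearMap.toMatrix'_comp,
      LinearMap.toMatrix'_toLin'] at this
  · have := finrank_zero_of_subsingleton (R := K) (M := Fin 3 → K)
    rw [finrank_fin_fun] at this
    omega
  all_goals
    rw [finrank_fin_fun] at h
    omega

theorem three_rootfree_scalar [Fintype K] {x : Matrix (Fin 3) (Fin 3) K} (hx : RootFree x) :
    ∃ c : K, Prd (SC x) 3 (c • 1) := by
  classical
  have hev : ∀ (A : Matrix (Fin 3) (Fin 3) K) (c : K), (A - c • 1).det = (-1) ^ 3 * A.charpoly.eval c := by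
    intro A c
    rw [Matrix.eval_charpoly, show scalar (Fin 3) c - A = (-1 : K) • (A - c • 1) by
      rw [smul_one_eq_diagonal, Matrix.scalar_apply, neg_one_smul, neg_sub], det_smul, Fintype.card_fin, ← mul_assoc,
      ← mul_pow]
    simp
  have hcyc : ∀ A : Matrix (Fin 3) (Fin 3) K, RootFree A → Cyclic A := by
    intro A hA
    rcases three_cases hA.nonScalar with h | ⟨c, hc⟩
    · exact h
    · rw [rootfree_rank hA c] at hc; omega
  set q := Fintype.card K with hq
  have hp : ∀ A : Matrix (Fin 3) (Fin 3) K, A.charpoly = x.charpoly → Cd 1 A x := by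
    intro A hA
    have hrf : RootFree A := fun c => by rw [hev, hA, ← hev]; exact hx c
    exact (three_full hx).cd (sim_of_cyclic (hcyc A hrf) (hcyc x hx) hA) one_ne_zero
  have h1 : Cd 1 (x ^ q) x := hp _ (FiniteField.Matrix.charpoly_pow_card x)
  have h2 : Cd 1 ((x ^ q) ^ q) x := hp _ (by
    rw [FiniteField.Matrix.charpoly_pow_card, FiniteField.Matrix.charpoly_pow_card])
  set p := x.charpoly with hpdef
  have hdeg : p.natDegree = 3 := by rw [hpdef, charpoly_natDegree_eq_dim, Fintype.card_fin]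
  have hirr : Irreducible p := by
    refine (Polynomial.irreducible_iff_roots_eq_zero_of_degree_le_three (by omega) (by omega)).2 ?_
    refine Multiset.eq_zero_of_forall_notMem fun c hc => hx c ?_
    rw [hev, ← hpdef, (mem_roots'.1 hc).2, mul_zero]
  haveI := Fact.mk hirr
  let pb := AdjoinRoot.powerBasis hirr.ne_zero
  haveI : Module.Finite K (AdjoinRoot p) := pb.finite
  haveI : Finite (AdjoinRoot p) := Module.finite_of_finite K
  have hcard : Nat.card (AdjoinRoot p) = q ^ 3 := by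
    rw [Module.natCard_eq_pow_finrank (K := K), pb.finrank, AdjoinRoot.powerBasis_dim, hdeg, Nat.card_eq_fintype_card]
  have hsum : (q ^ 3 - 1) / (q - 1) = q * q + q + 1 := by
    have hq2 : 1 < q := Fintype.one_lt_card
    obtain ⟨t, ht⟩ : ∃ t, q = t + 2 := ⟨q - 2, by omega⟩
    refine Nat.div_eq_of_eq_mul_left (by omega) ?_
    rw [ht, show t + 2 - 1 = t + 1 from rfl]
    exact Nat.sub_eq_of_eq_add (by ring)
  have hnorm := FiniteField.algebraMap_norm_eq_pow (K := K) (x := AdjoinRoot.root p)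
  rw [hcard, Nat.card_eq_fintype_card, ← hq, hsum] at hnorm
  set c₀ := Algebra.norm K (AdjoinRoot.root p)
  have hdvd : p ∣ X ^ (q * q + q + 1) - C c₀ := by
    rw [← AdjoinRoot.mk_eq_zero, map_sub, map_pow, AdjoinRoot.mk_X, AdjoinRoot.mk_C, sub_eq_zero, ← hnorm]
    rfl
  refine ⟨c₀, [(x ^ q) ^ q, x ^ q, x], rfl, by simp [h1, h2, Cd.refl x], ?_⟩
  have h := Polynomial.aeval_eq_zero_of_dvd_aeval_eq_zero hdvd (aeval_self_charpoly x)
  rw [map_sub, map_pow, aeval_X, aeval_C, sub_eq_zero, Algebra.algebraMap_eq_smul_one] at h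
  rw [← h, ← pow_mul, pow_succ, pow_add]
  simp [Matrix.mul_assoc]

/-- Some scalar is a product of conjugates. -/
theorem sl_scalar [Fintype K] (hq : 4 ≤ Fintype.card K) {x : Matrix (Fin (m + 3)) (Fin (m + 3)) K}
    (hx : NonScalar x) (hx1 : x.det = 1) : ∃ c : K, Prd (SC x) (m + 3) (c • 1) := by
  have hx0 : x.det ≠ 0 := by rw [hx1]; exact one_ne_zero
  rcases rankone_or_rtwo x with hR | ⟨c, hc⟩
  swap
  · obtain ⟨u, φ, hu, hφ, hxe⟩ := rankone_shape hx hx0 (by omega) hc
    refine ⟨1, rankone_all hq hx0 hxe hu hφ ?_ (Or.inr (by rw [hx1]))⟩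
    rw [one_smul, det_one, hx1, one_pow]
  by_cases hroot : RootFree x
  · rcases Nat.eq_zero_or_pos m with rfl | hm
    · exact three_rootfree_scalar hroot
    refine ⟨1, ?_⟩
    rw [one_smul]
    obtain ⟨j, rfl⟩ : ∃ j, m = j + 1 := ⟨m - 1, by omega⟩
    rcases Nat.eq_zero_or_pos j with rfl | hj
    · exact sl_four hq hroot hx1 det_one (Or.inr rfl)
    · exact sl_rootfree hq (by omega) hroot hx1 det_one (Or.inr rfl)
  by_cases hnil : ∃ lam : K, (x - lam • 1).det = 0 ∧ IsNilpotent (x - lam • 1)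
  · obtain ⟨lam, -, hnil⟩ := hnil
    exact nilpotent_scalar hq hx1 hR hnil
  push Not at hnil
  exact prd_scalar_of_bin (exists_fitting hroot hnil hx1)

end CfsgLib.Classical.Covering
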