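import Cfsg.Agent.Lib.Classical.RegularNilpotent
import Cfsg.Agent.Lib.Classical.Sourour.Basic

/-!
# Covering numbers of the projective special linear groups: similarity and cyclic matrices
-/

set_option autoImplicit false

namespace CfsgLib.Classical.Covering

open Matrix Polynomial CfsgLib.Classical.UnipotentGen CfsgLib.Classical.Sourour

variable {K : Type*} [Field K] {n m : ℕ}

/-- Conjugate by a matrix of determinant `δ`. -/
def Cd (δ : K) (A B : Matrix (Fin n) (Fin n) K) : Prop :=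
  ∃ P : Matrix (Fin n) (Fin n) K, P.det = δ ∧ A * P = P * B

/-- Similar matrices. -/
def Sim (A B : Matrix (Fin n) (Fin n) K) : Prop := ∃ δ : K, δ ≠ 0 ∧ Cd δ A B

theorem sim_of {A B P : Matrix (Fin n) (Fin n) K} (hP : P.det ≠ 0) (h : A * P = P * B) : Sim A B :=
  ⟨_, hP, P, rfl, h⟩

theorem Cd.refl (A : Matrix (Fin n) (Fin n) K) : Cd 1 A A :=
  ⟨1, det_one, by rw [mul_one, one_mul]⟩

theorem Cd.symm {δ : K} (hδ : δ ≠ 0) {A B : Matrix (Fin n) (Fin n) K} (h : Cd δ A B) : Cd δ⁻¹ B A := by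
  obtain ⟨P, hd, hP⟩ := h
  have hu : IsUnit P.det := isUnit_iff_ne_zero.2 (hd ▸ hδ)
  refine ⟨P⁻¹, by rw [det_nonsing_inv, hd, Ring.inverse_eq_inv], ?_⟩
  rw [show B = P⁻¹ * (P * B) by rw [← Matrix.mul_assoc, Matrix.nonsing_inv_mul _ hu, Matrix.one_mul], ← hP,
    Matrix.mul_assoc, Matrix.mul_assoc, Matrix.mul_nonsing_inv _ hu, Matrix.mul_one]

theorem Cd.trans {δ ε : K} {A B C : Matrix (Fin n) (Fin n) K} (h : Cd δ A B) (h' : Cd ε B C) :
    Cd (δ * ε) A C := by
  obtain ⟨P, hd, hP⟩ := h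
  obtain ⟨Q, he, hQ⟩ := h'
  exact ⟨P * Q, by rw [det_mul, hd, he], by rw [← Matrix.mul_assoc, hP, Matrix.mul_assoc, hQ, Matrix.mul_assoc]⟩

theorem Cd.mul {δ : K} (hδ : δ ≠ 0) {A B P : Matrix (Fin n) (Fin n) K} (hd : P.det = δ) (h : A * P = P * B) :
    A = P * B * P⁻¹ := by
  rw [← h, Matrix.mul_nonsing_inv_cancel_right _ _ (isUnit_iff_ne_zero.2 (hd ▸ hδ))]

theorem Sim.refl (A : Matrix (Fin n) (Fin n) K) : Sim A A := ⟨1, one_ne_zero, Cd.refl A⟩

theorem Sim.symm {A B : Matrix (Fin n) (Fin n) K} (h : Sim A B) : Sim B A := by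
  obtain ⟨δ, hδ, h⟩ := h
  exact ⟨δ⁻¹, inv_ne_zero hδ, h.symm hδ⟩

theorem Sim.trans {A B C : Matrix (Fin n) (Fin n) K} (h : Sim A B) (h' : Sim B C) : Sim A C := by
  obtain ⟨δ, hδ, h⟩ := h
  obtain ⟨ε, hε, h'⟩ := h'
  exact ⟨δ * ε, mul_ne_zero hδ hε, h.trans h'⟩

theorem Sim.det_eq {A B : Matrix (Fin n) (Fin n) K} (h : Sim A B) : A.det = B.det := by
  obtain ⟨δ, hδ, P, hd, hP⟩ := h
  have := congrArg Matrix.det hP
  rw [det_mul, det_mul, hd, mul_comm δ] at this
  exact mul_right_cancel₀ hδ this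

theorem Sim.charpoly_eq {A B : Matrix (Fin n) (Fin n) K} (h : Sim A B) : A.charpoly = B.charpoly := by
  obtain ⟨δ, hδ, P, hd, hP⟩ := h
  obtain ⟨u, hu⟩ := (Matrix.isUnit_iff_isUnit_det P).2 (isUnit_iff_ne_zero.2 (hd ▸ hδ))
  rw [Cd.mul hδ hd hP, ← hu, Matrix.charpoly_units_conj]

theorem Sim.transpose {A B : Matrix (Fin n) (Fin n) K} (h : Sim A B) : Sim Aᵀ Bᵀ := by
  obtain ⟨δ, hδ, P, hd, hP⟩ := h
  refine (sim_of (P := Pᵀ) (by rw [det_transpose, hd]; exact hδ) ?_).symm
  rw [← transpose_mul, ← transpose_mul, hP]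

theorem Sim.smul {A B : Matrix (Fin n) (Fin n) K} (h : Sim A B) (c : K) : Sim (c • A) (c • B) := by
  obtain ⟨δ, hδ, P, hd, hP⟩ := h
  exact ⟨δ, hδ, P, hd, by rw [Matrix.smul_mul, Matrix.mul_smul, hP]⟩

/-- Every determinant occurs in the centraliser. -/
def Full (A : Matrix (Fin n) (Fin n) K) : Prop :=
  ∀ μ : K, μ ≠ 0 → ∃ E : Matrix (Fin n) (Fin n) K, E.det = μ ∧ E * A = A * E

theorem Full.of_sim {A B : Matrix (Fin n) (Fin n) K} (hB : Full B) (h : Sim A B) : Full A := by
  obtain ⟨δ, hδ, P, hd, hP⟩ := h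
  intro μ hμ
  obtain ⟨E, hE, hEB⟩ := hB μ hμ
  have hu : IsUnit P.det := isUnit_iff_ne_zero.2 (hd ▸ hδ)
  refine ⟨P * E * P⁻¹, by rw [det_conj' hu, hE], ?_⟩
  rw [Cd.mul hδ hd hP]
  simp only [Matrix.mul_assoc]
  rw [Matrix.nonsing_inv_mul_cancel_left _ _ hu, Matrix.nonsing_inv_mul_cancel_left _ _ hu, ← Matrix.mul_assoc E,
    hEB, Matrix.mul_assoc]
where
  det_conj' {P E : Matrix (Fin n) (Fin n) K} (hu : IsUnit P.det) : (P * E * P⁻¹).det = E.det := by
    rw [det_mul, det_mul, mul_comm P.det, mul_assoc, ← det_mul, Matrix.mul_nonsing_inv _ hu, det_one, mul_one]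

theorem Full.cd {A B : Matrix (Fin n) (Fin n) K} (hB : Full B) (h : Sim A B) {ε : K} (hε : ε ≠ 0) :
    Cd ε A B := by
  obtain ⟨δ, hδ, P, hd, hP⟩ := h
  obtain ⟨E, hE, hEB⟩ := hB (δ⁻¹ * ε) (mul_ne_zero (inv_ne_zero hδ) hε)
  refine ⟨P * E, by rw [det_mul, hd, hE, ← mul_assoc, mul_inv_cancel₀ hδ, one_mul], ?_⟩
  rw [← Matrix.mul_assoc, hP, Matrix.mul_assoc, ← hEB, Matrix.mul_assoc]

/-- `v` generates under `A`. -/
def Gen (A : Matrix (Fin n) (Fin n) K) (v : Fin n → K) : Prop :=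
  ∀ f : Fin n → K, (∀ k : ℕ, f ⬝ᵥ (A ^ k *ᵥ v) = 0) → f = 0

/-- A cyclic matrix. -/
def Cyclic (A : Matrix (Fin n) (Fin n) K) : Prop := ∃ v, Gen A v

theorem gen_shift {A : Matrix (Fin n) (Fin n) K} {v : Fin n → K} (μ : K) (h : Gen A v) :
    Gen (A + μ • 1) v := by
  intro f hf
  refine h f fun k => ?_
  have key : ∀ k j : ℕ, f ⬝ᵥ ((A + μ • 1) ^ j *ᵥ (A ^ k *ᵥ v)) = 0 := by
    intro k
    induction k with
    | zero => intro j; rw [pow_zero, one_mulVec]; exact hf j
    | succ k ih =>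
      intro j
      have e : A ^ (k + 1) *ᵥ v = (A + μ • 1) *ᵥ (A ^ k *ᵥ v) - μ • (A ^ k *ᵥ v) := by
        rw [add_mulVec, smul_mulVec, one_mulVec, add_sub_cancel_right, pow_succ', mulVec_mulVec]
      rw [e, mulVec_sub, mulVec_mulVec, ← pow_succ, mulVec_smul, dotProduct_sub, dotProduct_smul, ih, ih,
        smul_zero, sub_zero]
  simpa using key k 0

theorem Gen.of_sim {A B P : Matrix (Fin n) (Fin n) K} {v : Fin n → K} (hP : P.det ≠ 0) (h : A * P = P * B)
    (hv : Gen B v) : Gen A (P *ᵥ v) := by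
  intro f hf
  have hk : ∀ k : ℕ, A ^ k * P = P * B ^ k := by
    intro k
    induction k with
    | zero => simp
    | succ k ih => rw [pow_succ, Matrix.mul_assoc, h, ← Matrix.mul_assoc, ih, Matrix.mul_assoc, ← pow_succ]
  have := hv (f ᵥ* P) fun k => by
    rw [← dotProduct_mulVec, mulVec_mulVec, ← hk, ← mulVec_mulVec]; exact hf k
  exact eq_zero_of_vecMul_eq_zero hP this

theorem Cyclic.of_sim {A B : Matrix (Fin n) (Fin n) K} (h : Sim A B) (hB : Cyclic B) : Cyclic A := by
  obtain ⟨δ, hδ, P, hd, hP⟩ := h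
  obtain ⟨v, hv⟩ := hB
  exact ⟨_, hv.of_sim (hd ▸ hδ) hP⟩

theorem pow_mulVec_reduce (A : Matrix (Fin (m + 1)) (Fin (m + 1)) K) (v : Fin (m + 1) → K) :
    A ^ (m + 1) *ᵥ v = -∑ i : Fin (m + 1), A.charpoly.coeff i.val • (A ^ i.val *ᵥ v) := by
  have h : A.charpoly.natDegree = m + 1 := by rw [charpoly_natDegree_eq_dim, Fintype.card_fin]
  have hCH := Matrix.aeval_self_charpoly A
  rw [aeval_eq_sum_range, h, Finset.sum_range_succ] at hCH
  have h1 : A.charpoly.coeff (m + 1) = 1 := by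
    have := (charpoly_monic A).coeff_natDegree
    rwa [h] at this
  rw [h1, one_smul, add_eq_zero_iff_neg_eq] at hCH
  rw [← hCH, neg_mulVec, sum_mulVec, ← Fin.sum_univ_eq_sum_range]
  simp only [smul_mulVec]

theorem gen_of_det_kry {A : Matrix (Fin (m + 1)) (Fin (m + 1)) K} {v : Fin (m + 1) → K}
    (h : (kry A v).det ≠ 0) : Gen A v := fun f hf =>
  eq_zero_of_vecMul_eq_zero h (funext fun j => hf j.val)

theorem det_kry_of_gen {A : Matrix (Fin (m + 1)) (Fin (m + 1)) K} {v : Fin (m + 1) → K}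
    (h : Gen A v) : (kry A v).det ≠ 0 := by
  intro h0
  obtain ⟨f, hf0, hf⟩ := Matrix.exists_vecMul_eq_zero_iff.2 h0
  refine hf0 (h f fun k => ?_)
  have hsmall : ∀ j : Fin (m + 1), f ⬝ᵥ (A ^ j.val *ᵥ v) = 0 := fun j => congrFun hf j
  induction k using Nat.strong_induction_on with
  | _ k ih =>
    rcases Nat.lt_or_ge k (m + 1) with hk | hk
    · exact hsmall ⟨k, hk⟩
    · obtain ⟨j, rfl⟩ : ∃ j, k = j + (m + 1) := ⟨k - (m + 1), by omega⟩
      rw [pow_add, ← mulVec_mulVec, pow_mulVec_reduce, mulVec_neg, dotProduct_neg, mulVec_sum, dotProduct_sum,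
        Finset.sum_eq_zero, neg_zero]
      intro i _
      rw [mulVec_smul, dotProduct_smul, mulVec_mulVec, ← pow_add, ih _ (by omega), smul_zero]

/-- The companion matrix. -/
noncomputable def comp (p : K[X]) : Matrix (Fin (m + 1)) (Fin (m + 1)) K :=
  Matrix.of fun i j => if j.val = m then -p.coeff i.val else if i.val = j.val + 1 then 1 else 0

theorem mul_kry_comp (A : Matrix (Fin (m + 1)) (Fin (m + 1)) K) (v : Fin (m + 1) → K) :
    A * kry A v = kry A v * comp A.charpoly := by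
  refine ext_ev fun j => ?_
  rw [← mulVec_mulVec, ← mulVec_mulVec, kry_mulVec_ev, mulVec_mulVec, ← pow_succ']
  have hc : comp (m := m) A.charpoly *ᵥ ev j = fun i => comp (m := m) A.charpoly i j := by
    rw [ev, mulVec_single_one]; rfl
  rw [hc, kry_mulVec]
  by_cases hj : j.val = m
  · rw [hj, pow_mulVec_reduce, ← Finset.sum_neg_distrib]
    refine Finset.sum_congr rfl fun i _ => ?_
    simp [comp, hj]
  · rw [Finset.sum_eq_single ⟨j.val + 1, by omega⟩]
    · simp [comp, hj]
    · intro i _ hi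
      have : i.val ≠ j.val + 1 := fun e => hi (Fin.ext e)
      simp [comp, hj, this]
    · simp

theorem sim_comp {A : Matrix (Fin (m + 1)) (Fin (m + 1)) K} (hA : Cyclic A) : Sim A (comp A.charpoly) := by
  obtain ⟨v, hv⟩ := hA
  exact sim_of (det_kry_of_gen hv) (mul_kry_comp A v)

theorem sim_of_cyclic {A B : Matrix (Fin n) (Fin n) K} (hA : Cyclic A) (hB : Cyclic B)
    (h : A.charpoly = B.charpoly) : Sim A B := by
  rcases n with _ | m
  · exact sim_of (P := 1) (by simp) (Subsingleton.elim _ _)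
  · exact (sim_comp hA).trans (h ▸ (sim_comp hB).symm)

/-- Upper Hessenberg with non-zero subdiagonal. -/
def Hess (A : Matrix (Fin n) (Fin n) K) : Prop :=
  ∀ i j : Fin n, (j.val + 1 < i.val → A i j = 0) ∧ (i.val = j.val + 1 → A i j ≠ 0)

/-- Lower triangular with non-zero subdiagonal. -/
def LReg (A : Matrix (Fin n) (Fin n) K) : Prop :=
  ∀ i j : Fin n, (i.val < j.val → A i j = 0) ∧ (i.val = j.val + 1 → A i j ≠ 0)

/-- Upper triangular with non-zero superdiagonal. -/
def UReg (A : Matrix (Fin n) (Fin n) K) : Prop :=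
  ∀ i j : Fin n, (j.val < i.val → A i j = 0) ∧ (j.val = i.val + 1 → A i j ≠ 0)

theorem Hess.det_kry {A : Matrix (Fin (m + 1)) (Fin (m + 1)) K} (hA : Hess A) :
    (kry A (ev 0)).det ≠ 0 := by
  rw [kry_hessenberg A fun i j => (hA i j).1]
  exact Finset.prod_ne_zero_iff.2 fun j _ => Finset.prod_ne_zero_iff.2 fun l _ => (hA _ _).2 rfl

theorem Hess.cyclic {A : Matrix (Fin n) (Fin n) K} (hA : Hess A) : Cyclic A := by
  rcases n with _ | m
  · exact ⟨0, fun f _ => funext fun i => i.elim0⟩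
  · exact ⟨_, gen_of_det_kry hA.det_kry⟩

theorem hess_comp (p : K[X]) : Hess (comp (m := m) p) := by
  intro i j
  refine ⟨fun h => ?_, fun h => ?_⟩
  · simp only [comp, of_apply]
    rw [if_neg (by omega), if_neg (by omega)]
  · simp only [comp, of_apply]
    rw [if_neg (by omega), if_pos h]
    exact one_ne_zero

theorem Cyclic.transpose {A : Matrix (Fin n) (Fin n) K} (hA : Cyclic A) : Cyclic Aᵀ := by
  rcases n with _ | m
  · exact ⟨0, fun f _ => funext fun i => i.elim0⟩
  refine Cyclic.of_sim (sim_comp hA).transpose ?_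
  refine Cyclic.of_sim (sim_of (P := (1 : Matrix (Fin (m + 1)) (Fin (m + 1)) K).submatrix Fin.revPerm (fun x => x)) ?_ ?_)
    (B := (comp (m := m) A.charpoly)ᵀ.submatrix Fin.revPerm Fin.revPerm) (Hess.cyclic fun i j => ?_)
  · rw [show (fun x : Fin (m + 1) => x) = id from rfl, det_permute, det_one, mul_one]
    rcases Int.units_eq_one_or (Equiv.Perm.sign (Fin.revPerm : Equiv.Perm (Fin (m + 1)))) with h | h <;> simp [h]
  · ext i j
    simp only [Matrix.mul_apply, submatrix_apply]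
    rw [Finset.sum_eq_single (Fin.revPerm j), Finset.sum_eq_single (Fin.revPerm i)]
    · simp [one_apply]
    · intro b _ hb
      rw [one_apply_ne, zero_mul]
      intro e; exact hb (by rw [← e])
    · simp
    · intro b _ hb
      rw [one_apply_ne, mul_zero]
      intro e; exact hb (by rw [← e]; simp)
    · simp
  · have h := hess_comp (m := m) A.charpoly (Fin.revPerm j) (Fin.revPerm i)
    simp only [Fin.revPerm_apply, Fin.val_rev] at h
    simp only [submatrix_apply, transpose_apply, Fin.revPerm_apply]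
    exact ⟨fun e => h.1 (by omega), fun e => h.2 (by omega)⟩

theorem hess_add {A : Matrix (Fin n) (Fin n) K} (hA : Hess A) (μ : K) : Hess (A + μ • 1) := by
  intro i j
  refine ⟨fun h => ?_, fun h => ?_⟩
  · rw [Matrix.add_apply, Matrix.smul_apply, one_apply_ne (fun e => by subst e; omega), smul_zero, add_zero, (hA i j).1 h]
  · rw [Matrix.add_apply, Matrix.smul_apply, one_apply_ne (fun e => by subst e; omega), smul_zero, add_zero]
    exact (hA i j).2 h

/-- An upper regular matrix with one eigenvalue: the last coordinate vector generates. -/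
theorem UReg.gen_last {U : Matrix (Fin (m + 1)) (Fin (m + 1)) K} (hU : UReg U) {ν : K}
    (hd : ∀ i, U i i = ν) : Gen U (ev (Fin.last m)) := by
  intro f hf
  have hN : ∀ (k j : ℕ), f ⬝ᵥ (U ^ j *ᵥ ((U - ν • 1) ^ k *ᵥ ev (Fin.last m))) = 0 := by
    intro k
    induction k with
    | zero => intro j; rw [pow_zero, one_mulVec]; exact hf j
    | succ k ih =>
      intro j
      rw [pow_succ' (U - ν • 1) k, ← mulVec_mulVec, sub_mulVec, smul_mulVec, one_mulVec, mulVec_sub, mulVec_mulVec,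
        ← pow_succ, mulVec_smul, dotProduct_sub, dotProduct_smul, ih, ih, smul_zero, sub_zero]
  have key : ∀ k, (hk : k ≤ m) → (∀ i : Fin (m + 1), m - k < i.val → ((U - ν • 1) ^ k *ᵥ ev (Fin.last m)) i = 0) ∧
      ((U - ν • 1) ^ k *ᵥ ev (Fin.last m)) ⟨m - k, by omega⟩ ≠ 0 := by
    intro k
    induction k with
    | zero =>
      intro _
      refine ⟨fun i hi => absurd i.isLt (by omega), ?_⟩
      rw [pow_zero, one_mulVec, show (⟨m - 0, by omega⟩ : Fin (m + 1)) = Fin.last m from Fin.ext (by simp), ev,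
        Pi.single_eq_same]
      exact one_ne_zero
    | succ k ih =>
      intro hk
      obtain ⟨h0, h1⟩ := ih (by omega)
      set v := (U - ν • 1) ^ k *ᵥ ev (Fin.last m) with hv
      have hup : ∀ i j : Fin (m + 1), j.val ≤ i.val → (U - ν • 1) i j = 0 := by
        intro i j hij
        rcases eq_or_ne i j with rfl | hne
        · simp [hd]
        · rw [Matrix.sub_apply, (hU i j).1 (lt_of_le_of_ne hij fun e => hne (Fin.ext e.symm)), Matrix.smul_apply,
            one_apply_ne hne, smul_zero, sub_zero]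
      have hterm : ∀ i l : Fin (m + 1), m - (k + 1) ≤ i.val → l.val ≠ m - k → (U - ν • 1) i l * v l = 0 := by
        intro i l hi hl
        rcases Nat.lt_or_ge (m - k) l.val with h | h
        · rw [h0 l h, mul_zero]
        · rw [hup i l (by omega), zero_mul]
      refine ⟨fun i hi => ?_, ?_⟩
      · rw [pow_succ', ← mulVec_mulVec, ← hv]
        refine (Finset.sum_eq_zero fun l _ => ?_ : ∑ l, (U - ν • 1) i l * v l = 0)
        by_cases hl : l.val = m - k
        · rw [hup i l (by omega), zero_mul]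
        · exact hterm i l (by omega) hl
      · rw [pow_succ', ← mulVec_mulVec, ← hv, mulVec, dotProduct, Finset.sum_eq_single ⟨m - k, by omega⟩]
        · refine mul_ne_zero ?_ h1
          rw [Matrix.sub_apply, Matrix.smul_apply, one_apply_ne (fun e => by simp [Fin.ext_iff] at e; omega), smul_zero,
            sub_zero]
          exact (hU _ _).2 (by simp only; omega)
        · intro l _ hl
          exact hterm _ l (by simp) (fun e => hl (Fin.ext e))
        · simp
  let T : Matrix (Fin (m + 1)) (Fin (m + 1)) K :=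
    Matrix.of fun i j => ((U - ν • 1) ^ (m - j.val) *ᵥ ev (Fin.last m)) i
  have hT : T.det ≠ 0 := by
    rw [det_of_isUpperTriangular]
    · refine Finset.prod_ne_zero_iff.2 fun i _ => ?_
      have h := (key (m - i.val) (by omega)).2
      simp only [show m - (m - i.val) = i.val by omega] at h
      exact h
    · intro i j hij
      have h : j < i := hij
      exact (key (m - j.val) (by omega)).1 i (by have := Fin.lt_def.1 h; omega)
  refine eq_zero_of_vecMul_eq_zero hT (funext fun j => ?_)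
  have h := hN (m - j.val) 0
  rwa [pow_zero, one_mulVec] at h

theorem isUnit_of {P : Matrix (Fin n) (Fin n) K} (hP : P.det ≠ 0) : IsUnit P.det := isUnit_iff_ne_zero.2 hP

theorem UReg.block_zero {U : Matrix (Fin (m + 1)) (Fin (m + 1)) K} (hU : UReg U) :
    U = bord (U 0 0) (fun j => U 0 j.succ) 0 (U.submatrix Fin.succ Fin.succ) ∧
      UReg (U.submatrix Fin.succ Fin.succ) := by
  refine ⟨?_, fun i j => ?_⟩
  · ext i j
    refine Fin.cases ?_ (fun i => ?_) i <;> refine Fin.cases ?_ (fun j => ?_) j <;> simp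
    exact (hU _ _).1 (by simp)
  · simp only [submatrix_apply]
    exact ⟨fun h => (hU _ _).1 (by simpa using h), fun h => (hU _ _).2 (by simpa using h)⟩

/-- A regular upper matrix with all diagonal entries equal, except possibly a distinct first one. -/
theorem UReg.head_split {U : Matrix (Fin (m + 1)) (Fin (m + 1)) K} (hU : UReg U) {ν : K}
    (hd : ∀ i : Fin m, U i.succ i.succ = ν) (hne : U 0 0 ≠ ν) :
    Sim U (bord (U 0 0) 0 0 (U.submatrix Fin.succ Fin.succ)) := by
  obtain ⟨hb, hU'⟩ := hU.block_zero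
  set a := U 0 0
  set r : Fin m → K := fun j => U 0 j.succ
  set D := U.submatrix Fin.succ Fin.succ with hD
  have hdet : (D - a • (1 : Matrix (Fin m) (Fin m) K)).det ≠ 0 := by
    rw [det_of_isUpperTriangular]
    · exact Finset.prod_ne_zero_iff.2 fun i _ => by
        simp [hD, hd i, sub_eq_zero, Ne.symm hne]
    · intro i j hij
      have h : j < i := hij
      rw [Matrix.sub_apply, (hU' i j).1 h, Matrix.smul_apply, one_apply_ne h.ne', smul_zero, sub_zero]
  set z := r ᵥ* (D - a • (1 : Matrix (Fin m) (Fin m) K))⁻¹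
  have hz : z ᵥ* D = a • z + r := by
    have e : z ᵥ* (D - a • (1 : Matrix (Fin m) (Fin m) K)) = r := by
      rw [vecMul_vecMul, Matrix.nonsing_inv_mul _ (isUnit_of hdet), vecMul_one]
    rw [← e, vecMul_sub, vecMul_smul, vecMul_one]; abel
  refine sim_of (P := bord 1 z 0 1) (by rw [det_bord_upper, det_one, mul_one]; exact one_ne_zero) ?_
  conv_lhs => rw [hb]
  rw [bord_mul, bord_mul]
  congr 1 <;> simp [hz]

theorem gen_bord_diag {a : K} {D : Matrix (Fin m) (Fin m) K} {v : Fin m → K} (hv : Gen D v)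
    (hd : (D - a • 1).det ≠ 0) : Gen (bord a 0 0 D) (Fin.cons 1 v) := by
  intro f hf
  have hpow : ∀ k, bord a 0 0 D ^ k *ᵥ Fin.cons 1 v = Fin.cons (a ^ k) (D ^ k *ᵥ v) := by
    intro k
    induction k with
    | zero => simp
    | succ k ih =>
      rw [pow_succ', ← mulVec_mulVec, ih, pow_succ', pow_succ' D, ← mulVec_mulVec]
      funext i
      refine Fin.cases ?_ (fun i => ?_) i <;> simp [mulVec, dotProduct, Fin.sum_univ_succ, -mulVec_mulVec]
  have h : ∀ k, f 0 * a ^ k + Fin.tail f ⬝ᵥ (D ^ k *ᵥ v) = 0 := fun k => by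
    have := hf k
    rw [hpow] at this
    simpa [dotProduct, Fin.sum_univ_succ, Fin.tail] using this
  have h1 : Fin.tail f = 0 := by
    refine eq_zero_of_vecMul_eq_zero hd (hv _ fun k => ?_)
    have e1 := h (k + 1)
    have e0 := h k
    rw [← dotProduct_mulVec, sub_mulVec, smul_mulVec, one_mulVec, mulVec_mulVec, ← pow_succ', dotProduct_sub,
      dotProduct_smul, smul_eq_mul]
    linear_combination e1 - a * e0
  have h0 := h 0
  rw [h1, zero_dotProduct, pow_zero, mul_one, add_zero] at h0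
  rw [← Fin.cons_self_tail f, h0, h1]
  funext i
  refine Fin.cases ?_ (fun i => ?_) i <;> simp

theorem UReg.cyclic_head {U : Matrix (Fin (m + 1)) (Fin (m + 1)) K} (hU : UReg U) {ν : K}
    (hd : ∀ i : Fin m, U i.succ i.succ = ν) : Cyclic U := by
  by_cases hne : U 0 0 = ν
  · exact ⟨_, hU.gen_last (ν := ν) fun i => Fin.cases hne hd i⟩
  refine Cyclic.of_sim (hU.head_split hd hne) ?_
  have hU' := hU.block_zero.2
  rcases m with _ | k
  · exact ⟨Fin.cons 1 (fun i => i.elim0), gen_bord_diag (fun f _ => funext fun i => i.elim0) (by simp)⟩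
  refine ⟨_, gen_bord_diag (hU'.gen_last (ν := ν) fun i => hd i) ?_⟩
  rw [det_of_isUpperTriangular]
  · exact Finset.prod_ne_zero_iff.2 fun i _ => by simp [hd i, sub_eq_zero, Ne.symm hne]
  · intro i j hij
    have h : j < i := hij
    rw [Matrix.sub_apply, (hU' i j).1 h, Matrix.smul_apply, one_apply_ne h.ne', smul_zero, sub_zero]

theorem full_bord_diag (a : K) (D : Matrix (Fin m) (Fin m) K) : Full (bord a 0 0 D) := by
  intro μ _
  refine ⟨bord μ 0 0 1, by rw [det_bord_upper, det_one, mul_one], ?_⟩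
  rw [bord_mul, bord_mul]
  congr 1 <;> simp [mul_comm]

theorem UReg.full_head {U : Matrix (Fin (m + 1)) (Fin (m + 1)) K} (hU : UReg U) {ν : K}
    (hd : ∀ i : Fin m, U i.succ i.succ = ν) (hne : U 0 0 ≠ ν) : Full U :=
  (full_bord_diag _ _).of_sim (hU.head_split hd hne)

theorem UReg.charpoly_eq {U : Matrix (Fin n) (Fin n) K} (hU : UReg U) :
    U.charpoly = ∏ i, (X - C (U i i)) :=
  charpoly_of_isUpperTriangular U fun i j h => (hU i j).1 h

theorem LReg.transpose {L : Matrix (Fin n) (Fin n) K} (hL : LReg L) : UReg Lᵀ :=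
  fun i j => ⟨fun h => (hL j i).1 h, fun h => (hL j i).2 h⟩

theorem UReg.cyclic_inv_aux {A : Matrix (Fin (m + 1)) (Fin (m + 1)) K} (hA : A.det ≠ 0) {v : Fin (m + 1) → K}
    (hv : Gen A v) : Gen A⁻¹ (A ^ m *ᵥ v) := by
  intro f hf
  refine eq_zero_of_vecMul_eq_zero (det_kry_of_gen hv) (funext fun j => ?_)
  have h := hf (m - j.val)
  have e : A⁻¹ ^ (m - j.val) * A ^ m = A ^ j.val := by
    rw [show A ^ m = A ^ (m - j.val) * A ^ j.val by rw [← pow_add]; congr 1; omega, ← mul_assoc,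
      ← (Commute.mul_pow (show Commute A⁻¹ A from by
        rw [commute_iff_eq, Matrix.nonsing_inv_mul _ (isUnit_of hA), Matrix.mul_nonsing_inv _ (isUnit_of hA)]) _),
      Matrix.nonsing_inv_mul _ (isUnit_of hA), one_pow, one_mul]
  rw [mulVec_mulVec, e] at h
  exact h

theorem Cyclic.inv {A : Matrix (Fin (m + 1)) (Fin (m + 1)) K} (hA : A.det ≠ 0) (h : Cyclic A) : Cyclic A⁻¹ := by
  obtain ⟨v, hv⟩ := h
  exact ⟨_, UReg.cyclic_inv_aux hA hv⟩

/-- Choosing a scalar outside a small set. -/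
theorem fresh_of_card [Fintype K] [DecidableEq K] (s : Finset K) (h : s.card < Fintype.card K) : ∃ a, a ∉ s := by
  by_contra! hall
  exact absurd (Finset.card_le_card (fun x _ => hall x : Finset.univ ⊆ s)) (by rw [Finset.card_univ]; omega)

end CfsgLib.Classical.Covering
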