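import Cfsg.Agent.Lib.Classical.Covering.NoFix

/-!
# Dimension three: a cyclic class cubed
-/

set_option autoImplicit false

namespace CfsgLib.Classical.Covering

open Matrix Polynomial Module CfsgLib.Classical.UnipotentGen CfsgLib.Classical.Sourour

variable {K : Type*} [Field K]

theorem charpoly_three (A : Matrix (Fin 3) (Fin 3) K) :
    A.charpoly = X ^ 3 - C A.trace * X ^ 2 +
      C ((A 0 0 * A 1 1 - A 0 1 * A 1 0) + (A 0 0 * A 2 2 - A 0 2 * A 2 0) + (A 1 1 * A 2 2 - A 1 2 * A 2 1)) * X -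
      C A.det := by
  rw [Matrix.charpoly, det_fin_three, det_fin_three, trace_fin_three]
  simp [charmatrix_apply, Matrix.diagonal, map_sub, map_add, map_mul]
  ring

theorem bord3 (a : K) (r c : Fin 2 → K) (D : Matrix (Fin 2) (Fin 2) K) :
    bord a r c D 1 0 = c 0 ∧ bord a r c D 2 0 = c 1 ∧ bord a r c D 1 1 = D 0 0 ∧ bord a r c D 1 2 = D 0 1 ∧
      bord a r c D 2 1 = D 1 0 ∧ bord a r c D 2 2 = D 1 1 ∧ bord a r c D 0 1 = r 0 ∧ bord a r c D 0 2 = r 1 :=
  ⟨rfl, rfl, rfl, rfl, rfl, rfl, rfl, rfl⟩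

theorem charpoly_three_eq {A : Matrix (Fin 3) (Fin 3) K} {t₁ t₂ t₃ : K} (h₁ : A.trace = t₁)
    (h₂ : (A 0 0 * A 1 1 - A 0 1 * A 1 0) + (A 0 0 * A 2 2 - A 0 2 * A 2 0) + (A 1 1 * A 2 2 - A 1 2 * A 2 1) = t₂)
    (h₃ : A.det = t₃) : A.charpoly = X ^ 3 - C t₁ * X ^ 2 + C t₂ * X - C t₃ := by
  rw [charpoly_three, h₁, h₂, h₃]

/-- An irreducible quadratic with non-zero linear term and constant one. -/
theorem exists_quad [Fintype K] (hq : 4 ≤ Fintype.card K) : ∃ τ : K, τ ≠ 0 ∧ ∀ z : K, z * z + 1 ≠ τ * z := by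
  classical
  by_contra! hall
  choose f hf using fun τ : {τ : K // τ ≠ 0} => hall τ.1 τ.2
  have hf0 : ∀ τ, f τ ≠ 0 := fun τ h => by simpa [h] using hf τ
  have hinj : Function.Injective f := fun a b h => Subtype.ext <| mul_right_cancel₀ (hf0 a) <| by
    rw [← hf a]; conv_rhs => rw [h, ← hf b]
    rw [h]
  let g : {τ : K // τ ≠ 0} → {τ : K // τ ≠ 0} := fun τ => ⟨f τ, hf0 τ⟩
  have hsurj : Function.Surjective g :=
    Finite.injective_iff_surjective.1 fun a b h => hinj (congrArg Subtype.val h)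
  have hsq : ∀ z : K, z ≠ 0 → z * z = 1 := by
    intro z hz
    obtain ⟨a, ha⟩ := hsurj ⟨z, hz⟩
    obtain ⟨b, hb⟩ := hsurj ⟨z⁻¹, inv_ne_zero hz⟩
    have ha' : f a = z := congrArg Subtype.val ha
    have hb' : f b = z⁻¹ := congrArg Subtype.val hb
    have h1 := hf a
    have h2 := hf b
    rw [ha'] at h1
    rw [hb'] at h2
    have hab : a = b := Subtype.ext <| mul_right_cancel₀ hz <| by
      rw [← h1]
      field_simp at h2
      linear_combination h2
    rw [hab, hb'] at ha'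
    conv_lhs => arg 1; rw [← ha']
    exact inv_mul_cancel₀ hz
  obtain ⟨z, hz⟩ := fresh_of_card ({0, 1, -1} : Finset K) (lt_of_le_of_lt Finset.card_le_three (by omega))
  simp only [Finset.mem_insert, Finset.mem_singleton, not_or] at hz
  rcases mul_self_eq_one_iff.1 (hsq z hz.1) with h | h
  · exact hz.2.1 h
  · exact hz.2.2 h

/-- A split corner with a complement without eigenvalues. -/
theorem cyclic_full_block {a : K} {r : Fin 2 → K} {Z : Matrix (Fin 2) (Fin 2) K} (hZ : RootFree Z) :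
    Sim (bord a r 0 Z) (bord a 0 0 Z) ∧ Cyclic (bord a r 0 Z) ∧ Full (bord a r 0 Z) := by
  set z := r ᵥ* (Z - a • (1 : Matrix (Fin 2) (Fin 2) K))⁻¹
  have hz : z ᵥ* Z = a • z + r := by
    have e : z ᵥ* (Z - a • (1 : Matrix (Fin 2) (Fin 2) K)) = r := by
      rw [vecMul_vecMul, Matrix.nonsing_inv_mul _ (isUnit_of (hZ a)), vecMul_one]
    rw [← e, vecMul_sub, vecMul_smul, vecMul_one]; abel
  have hs : Sim (bord a r 0 Z) (bord a 0 0 Z) := by
    refine sim_of (P := bord 1 z 0 1) (by rw [det_bord_upper, det_one, mul_one]; exact one_ne_zero) ?_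
    rw [bord_mul, bord_mul]
    congr 1 <;> simp [hz]
  have hv : Gen Z (ev 0) := by
    refine gen_of_det_kry fun h => ?_
    simp [kry, det_fin_two, ev] at h
    refine hZ (Z 0 0) ?_
    rw [det_fin_two]
    simp [h]
  exact ⟨hs, Cyclic.of_sim hs ⟨_, gen_bord_diag hv (hZ a)⟩, (full_bord_diag a Z).of_sim hs⟩

theorem cd_of_kry {A B : Matrix (Fin 3) (Fin 3) K} {v w : Fin 3 → K} (hA : (kry A v).det ≠ 0)
    (hB : (kry B w).det ≠ 0) (h : A.charpoly = B.charpoly) : Cd ((kry A v).det / (kry B w).det) A B := by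
  have h1 : Cd (kry A v).det A (comp (m := 2) A.charpoly) := ⟨_, rfl, mul_kry_comp A v⟩
  have h2 : Cd (kry B w).det B (comp (m := 2) B.charpoly) := ⟨_, rfl, mul_kry_comp B w⟩
  rw [div_eq_mul_inv]
  rw [← h] at h2
  exact h1.trans (h2.symm hB)

set_option maxHeartbeats 1000000 in
/-- A cyclic class cubed contains every admissible non-scalar matrix. -/
theorem three_cyclic [Fintype K] (hq : 4 ≤ Fintype.card K) {y G : Matrix (Fin 3) (Fin 3) K} (hy : Cyclic y)
    (hy0 : y.det ≠ 0) (hG : NonScalar G) (hdet : G.det = y.det ^ 3) :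
    Prn (fun k => Sim k y ∧ (y.det = 1 → Cd 1 k y)) 3 G := by
  classical
  obtain ⟨v₀, hv₀⟩ := hy
  obtain ⟨β₀, hβdef⟩ : ∃ β₀, β₀ = (kry y v₀).det := ⟨_, rfl⟩
  have hβ₀ : β₀ ≠ 0 := hβdef ▸ det_kry_of_gen hv₀
  obtain ⟨t₁, t₂, hcp⟩ : ∃ t₁ t₂ : K, y.charpoly = X ^ 3 - C t₁ * X ^ 2 + C t₂ * X - C y.det :=
    ⟨_, _, charpoly_three y⟩
  set D := y.det with hD
  obtain ⟨τ, hτ0, hτ⟩ := exists_quad hq
  set T₂ := τ * τ - 2
  -- the two factors with product `D² ⊕ L²`
  set q₁ := D + τ - t₁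
  set p₁ := D * τ + 1 - t₂
  set M' : Matrix (Fin 3) (Fin 3) K := !![D - q₁, q₁, -p₁ + q₁ * τ; 0, 0, -1; -1, 1, τ]
  set p₂ := t₁ - D - τ
  set q₂ := D * τ + p₂ * τ + 1 - t₂
  set M : Matrix (Fin 3) (Fin 3) K := !![D, p₂, q₂; D, p₂, q₂ - 1; 0, 1, τ]
  have hM'c : M'.charpoly = y.charpoly := by
    rw [hcp]
    refine charpoly_three_eq ?_ ?_ ?_
    · simp [M', q₁, trace_fin_three]; ring
    · simp [M', q₁, p₁]; ring
    · simp [M', q₁, p₁, det_fin_three]
  have hMc : M.charpoly = y.charpoly := by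
    rw [hcp]
    refine charpoly_three_eq ?_ ?_ ?_
    · simp [M, p₂, trace_fin_three]; ring
    · simp [M, q₂, p₂]; ring
    · simp [M, q₂, p₂, det_fin_three]; ring
  have hM'k : (kry M' (ev 0)).det = 1 := by
    simp [kry, det_fin_three, ev, M', pow_two, Matrix.mul_apply, Fin.sum_univ_three]
  have hMk : (kry M (ev 0)).det = D * D := by
    simp [kry, det_fin_three, ev, M, pow_two, Matrix.mul_apply, Fin.sum_univ_three]
  -- the product
  set Z : Matrix (Fin 2) (Fin 2) K := !![-1, -τ; τ, τ * τ - 1]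
  have hZ : RootFree Z := by
    intro c hc
    simp [Z, det_fin_two] at hc
    refine hτ ((c + 1) / τ) ?_
    field_simp
    linear_combination hc
  obtain ⟨r, hP⟩ : ∃ r, M' * M = bord (D * D) r 0 Z := by
    refine ⟨fun j => (M' * M) 0 j.succ, ?_⟩
    ext i k
    refine Fin.cases ?_ (fun i => ?_) i <;> refine Fin.cases ?_ (fun k => ?_) k
    · simp [M', M, Matrix.mul_apply, Fin.sum_univ_three]; ring
    · rfl
    · fin_cases i <;> simp [M', M, Matrix.mul_apply, Fin.sum_univ_three, bord3]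
    · fin_cases i <;> fin_cases k <;> simp [M', M, Z, Matrix.mul_apply, Fin.sum_univ_three, bord3] <;> ring
  obtain ⟨hPs, hPc, hPF⟩ := cyclic_full_block (a := D * D) (r := r) hZ
  -- the first factor
  obtain ⟨v, hv, hvG⟩ := exists_moved hG
  set w : Fin 3 → K := (D * D)⁻¹ • G *ᵥ v with hw
  have hDD : D * D ≠ 0 := mul_ne_zero hy0 hy0
  obtain ⟨z₀, hz₀⟩ := exists_notMem (Y := Submodule.span K {v, w}) (by
    have : finrank K (Submodule.span K ({v, w} : Set (Fin 3 → K))) ≤ 2 := by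
      rw [show ({v, w} : Set (Fin 3 → K)) = Set.range ![v, w] by simp [Set.pair_comm]]
      exact (finrank_range_le_card _).trans (by simp)
    omega)
  set B : Matrix (Fin 3) (Fin 3) K := Matrix.of fun i j => ![v, w, z₀] j i with hBdef
  have hB : B.det ≠ 0 := by
    intro h0
    obtain ⟨c, hc, hBc⟩ := Matrix.exists_mulVec_eq_zero_iff.2 h0
    have he : c 0 • v + c 1 • w + c 2 • z₀ = 0 := by
      funext i
      have := congrFun hBc i
      simp [hBdef, mulVec, dotProduct, Fin.sum_univ_three] at this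
      simp only [Pi.add_apply, Pi.smul_apply, Pi.zero_apply, smul_eq_mul]
      linear_combination this
    have h2 : c 2 = 0 := by
      by_contra h2
      refine hz₀ ((Submodule.smul_mem_iff _ h2).1 ?_)
      rw [show c 2 • z₀ = -(c 0 • v + c 1 • w) from eq_neg_of_add_eq_zero_right he]
      exact neg_mem (add_mem (Submodule.smul_mem _ _ (Submodule.subset_span (by simp)))
        (Submodule.smul_mem _ _ (Submodule.subset_span (by simp))))
    rw [h2, zero_smul, add_zero] at he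
    have h1 : c 1 = 0 := by
      by_contra h1
      refine hvG (-(D * D) * ((c 1)⁻¹ * c 0)) ?_
      have : w = -((c 1)⁻¹ * c 0) • v := by
        have := congrArg ((c 1)⁻¹ • ·) he
        simp only [smul_add, smul_smul, inv_mul_cancel₀ h1, one_smul, smul_zero] at this
        rw [neg_smul]
        exact eq_neg_of_add_eq_zero_right this
      calc G *ᵥ v = (D * D) • w := by rw [hw, smul_smul, mul_inv_cancel₀ hDD, one_smul]
        _ = _ := by rw [this, smul_smul]; congr 1; ring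
    rw [h1, zero_smul, add_zero] at he
    refine hc (funext fun i => ?_)
    fin_cases i
    · exact (smul_eq_zero.1 he).resolve_right hv
    · exact h1
    · exact h2
  have hBu := isUnit_of hB
  set G' := B⁻¹ * G * B with hG'
  have hG0 : ∀ i, G' i 0 = ![0, D * D, 0] i := by
    have e : G' *ᵥ ev 0 = (D * D) • ev 1 := by
      rw [hG', ← mulVec_mulVec, ← mulVec_mulVec,
        show B *ᵥ ev 0 = v by rw [ev, mulVec_single_one]; funext i; simp [hBdef],
        show G *ᵥ v = (D * D) • (B *ᵥ ev 1) by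
          rw [show B *ᵥ ev 1 = w by rw [ev, mulVec_single_one]; funext i; simp [hBdef], hw, smul_smul,
            mul_inv_cancel₀ hDD, one_smul],
        mulVec_smul, mulVec_mulVec, Matrix.nonsing_inv_mul _ hBu, one_mulVec]
    intro i
    have := congrFun e i
    rw [ev, mulVec_single_one] at this
    fin_cases i <;> simpa [ev] using this
  have hG'd : G'.det = D ^ 3 := by
    rw [hG', det_mul, det_mul, det_nonsing_inv, Ring.inverse_eq_inv, hdet]
    field_simp
  set s := β₀ / B.det with hsdef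
  have hs : s ≠ 0 := div_ne_zero hβ₀ hB
  obtain ⟨i₁, r₁, htr⟩ : ∃ i r : K,
      D * (D * D) - r * G' 0 1 + s * G' 0 2 + (D + i * r) / s * G' 2 1 - i * G' 2 2 =
        D * (D * D) + D * T₂ := by
    by_cases hF : G' 2 1 = 0
    · by_cases hA : G' 0 1 = 0
      · have hH : G' 2 2 ≠ 0 := fun hH => pow_ne_zero 3 hy0 (by
          rw [← hG'd, det_fin_three]
          simp [hF, hA, hH, hG0])
        exact ⟨(s * G' 0 2 - D * T₂) / G' 2 2, 0, by rw [hF, hA]; field_simp; ring⟩
      · exact ⟨0, (s * G' 0 2 - D * T₂) / G' 0 1, by rw [hF]; field_simp; ring⟩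
    · set i := s * (G' 0 1 + 1) / G' 2 1
      refine ⟨i, D * T₂ - s * G' 0 2 - D / s * G' 2 1 + i * G' 2 2, ?_⟩
      simp only [i]
      field_simp
      ring
  set jj := t₁ - r₁ with hjj
  set qq := (jj * r₁ - i₁ - t₂) / s with hqq
  set pp := (D + i₁ * r₁) / s with hpp
  set X' : Matrix (Fin 3) (Fin 3) K := !![0, i₁, pp; 1, jj, qq; 0, s, r₁] with hX'
  have hXc : X'.charpoly = y.charpoly := by
    rw [hcp]
    refine charpoly_three_eq ?_ ?_ ?_
    · simp [hX', hjj, trace_fin_three]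
    · simp [hX', hqq]; field_simp; ring
    · simp [hX', hpp, det_fin_three]; field_simp; ring
  have hXd : X'.det = D := by
    rw [det_fin_three]; simp [hX', hpp]; field_simp; ring
  have hXk : (kry X' (ev 0)).det = s := by
    simp [kry, det_fin_three, ev, hX', pow_two, Matrix.mul_apply, Fin.sum_univ_three]
  -- the remaining product
  set Y := X'⁻¹ * G' with hY
  have hXu : IsUnit X'.det := isUnit_of (by rw [hXd]; exact hy0)
  have hY0 : ∀ i, Y i 0 = ![D * D, 0, 0] i := by
    have e : Y *ᵥ ev 0 = (D * D) • ev 0 := by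
      rw [hY, ← mulVec_mulVec, show G' *ᵥ ev 0 = (D * D) • (X' *ᵥ ev 0) from ?_, mulVec_smul, mulVec_mulVec,
        Matrix.nonsing_inv_mul _ hXu, one_mulVec]
      funext i
      simp only [ev, mulVec_single_one]
      fin_cases i <;> simp [hG0, hX']
    intro i
    have := congrFun e i
    rw [ev, mulVec_single_one] at this
    fin_cases i <;> simpa [ev] using this
  set W : Matrix (Fin 2) (Fin 2) K := fun i k => Y i.succ k.succ
  have hYb : Y = bord (D * D) (fun k => Y 0 k.succ) 0 W := by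
    ext i k
    refine Fin.cases ?_ (fun i => ?_) i <;> refine Fin.cases ?_ (fun k => ?_) k
    · simp [hY0]
    · rfl
    · rw [hY0]; fin_cases i <;> simp [bord3]
    · rfl
  have hYd : Y.det = D * D := by
    rw [hY, det_mul, det_nonsing_inv, Ring.inverse_eq_inv, hXd, hG'd]; field_simp
  have hWd : W.det = 1 := by
    rw [hYb, det_bord_upper] at hYd
    exact (mul_eq_left₀ hDD).1 hYd
  have hWt : W.trace = T₂ := by
    have e : D * Y.trace = D * (D * D) + D * T₂ := by
      rw [← htr, hY, Matrix.inv_def, hXd, adjugate_fin_three, trace_fin_three]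
      simp [Matrix.mul_apply, Fin.sum_univ_three, hX', hG0]
      field_simp
      simp only [hpp, hjj]
      field_simp
      ring
    have e2 : Y.trace = D * D + W.trace := by
      rw [trace_fin_three, trace_fin_two, hY0]; simp [W]; ring
    rw [e2] at e
    exact mul_left_cancel₀ hy0 (by linear_combination e)
  have hW : RootFree W := by
    intro c hc
    refine hτ ((c + 1) / τ) ?_
    rw [det_fin_two] at hc hWd
    rw [trace_fin_two] at hWt
    simp at hc
    field_simp
    simp only [T₂] at hWt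
    linear_combination hc - hWd + c * hWt
  obtain ⟨hYs, hYc, hYF⟩ := cyclic_full_block (a := D * D) (r := fun k => Y 0 k.succ) hW
  rw [← hYb] at hYs hYc hYF
  have hsim : Sim (M' * M) Y := by
    rw [hP]
    refine sim_of_cyclic hPc hYc ?_
    rw [hPs.charpoly_eq, hYs.charpoly_eq, charpoly_three, charpoly_three, det_fin_three, det_fin_three,
      trace_fin_three, trace_fin_three]
    rw [det_fin_two] at hWd
    rw [trace_fin_two] at hWt
    simp only [T₂] at hWt
    have e1 : ∀ (Q : Matrix (Fin 2) (Fin 2) K), bord (D * D) 0 0 Q 1 1 = Q 0 0 ∧ bord (D * D) 0 0 Q 1 2 = Q 0 1 ∧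
        bord (D * D) 0 0 Q 2 1 = Q 1 0 ∧ bord (D * D) 0 0 Q 2 2 = Q 1 1 ∧ bord (D * D) 0 0 Q 0 1 = 0 ∧
        bord (D * D) 0 0 Q 0 2 = 0 ∧ bord (D * D) 0 0 Q 1 0 = 0 ∧ bord (D * D) 0 0 Q 2 0 = 0 :=
      fun Q => ⟨rfl, rfl, rfl, rfl, rfl, rfl, rfl, rfl⟩
    obtain ⟨a1, a2, a3, a4, a5, a6, a7, a8⟩ := e1 Z
    obtain ⟨b1, b2, b3, b4, b5, b6, b7, b8⟩ := e1 W
    rw [a1, a2, a3, a4, a5, a6, a7, a8, b1, b2, b3, b4, b5, b6, b7, b8, bord_zero_zero, bord_zero_zero,
      show W 1 1 = τ * τ - 2 - W 0 0 by rw [← hWt]; ring,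
      show W 0 1 * W 1 0 = W 0 0 * (τ * τ - 2 - W 0 0) - 1 by rw [← hWt]; linear_combination -hWd]
    simp [Z]
    have hm : W 0 1 * W 1 0 = W 0 0 * (τ * τ - 2 - W 0 0) - 1 := by rw [← hWt]; linear_combination -hWd
    have hmC := congrArg (C : K → K[X]) hm
    simp only [map_mul, map_sub, map_one, map_ofNat] at hmC ⊢
    linear_combination (-(C D * C D)) * hmC
  -- conjugators
  have hM'0 : (kry M' (ev 0)).det ≠ 0 := by rw [hM'k]; exact one_ne_zero
  have hM0 : (kry M (ev 0)).det ≠ 0 := by rw [hMk]; exact hDD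
  have hky : (kry y v₀).det ≠ 0 := hβdef ▸ hβ₀
  have hcM' : Cd (1 / β₀) M' y := by
    have := cd_of_kry hM'0 hky hM'c
    rwa [hM'k, ← hβdef] at this
  have hcM : Cd (D * D / β₀) M y := by
    have := cd_of_kry hM0 hky hMc
    rwa [hMk, ← hβdef] at this
  obtain ⟨k₂, k₃, hY23, hk₂, hk₃⟩ := shift hYF hsim (ε := β₀ / B.det) (div_ne_zero hβ₀ hB)
  have hcX : Cd (s / β₀) X' y := by
    have := cd_of_kry (by rw [hXk]; exact hs) hky hXc
    rwa [hXk, ← hβdef] at this
  have hc1 : Cd (B.det * (s / β₀)) (B * X' * B⁻¹) y := (Cd.conj hB X').trans hcX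
  rw [show B.det * (s / β₀) = 1 by simp only [hsdef]; field_simp] at hc1
  have hc2 : Cd 1 (B * k₂ * B⁻¹) y := by
    have := ((Cd.conj hB k₂).trans hk₂).trans hcM'
    rwa [mul_div_cancel₀ _ hB, mul_one_div_cancel hβ₀] at this
  have hc3 : Cd (D * D) (B * k₃ * B⁻¹) y := by
    have := ((Cd.conj hB k₃).trans hk₃).trans hcM
    rwa [mul_div_cancel₀ _ hB, mul_div_cancel₀ _ hβ₀] at this
  refine ⟨[B * X' * B⁻¹, B * k₂ * B⁻¹, B * k₃ * B⁻¹], rfl, ?_, ?_, ?_⟩
  · intro k hk
    simp only [List.mem_cons, List.not_mem_nil, or_false] at hk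
    rcases hk with rfl | rfl | rfl
    · exact ⟨hc1.sim one_ne_zero, fun _ => hc1⟩
    · exact ⟨hc2.sim one_ne_zero, fun _ => hc2⟩
    · exact ⟨hc3.sim hDD, fun h => by rwa [h, one_mul] at hc3⟩
  · rw [List.prod_cons, List.prod_cons, List.prod_cons, List.prod_nil, mul_one]
    simp only [Matrix.mul_assoc, Matrix.nonsing_inv_mul_cancel_left _ _ hBu]
    rw [← Matrix.mul_assoc k₂, ← hY23, hY, hG']
    simp only [Matrix.mul_assoc]
    rw [Matrix.mul_nonsing_inv_cancel_left _ _ hXu]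
    simp only [Matrix.mul_assoc, Matrix.mul_nonsing_inv _ hBu, mul_one]
    rw [Matrix.mul_nonsing_inv_cancel_left _ _ hBu]
  · intro c u hu
    set u' := B⁻¹ *ᵥ u with hu'
    have hmem : ∀ k, B * k * B⁻¹ ∈ [B * X' * B⁻¹, B * k₂ * B⁻¹, B * k₃ * B⁻¹] → k *ᵥ u' = c • u' := fun k hk => by
      have h2 := congrArg (B⁻¹ *ᵥ ·) (hu _ hk)
      simp only [mulVec_smul, mulVec_mulVec, Matrix.mul_assoc, Matrix.nonsing_inv_mul_cancel_left _ _ hBu] at h2
      rwa [← mulVec_mulVec, ← hu'] at h2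
    have hY2 : Y *ᵥ u' = (c * c) • u' := by
      rw [hY23, ← mulVec_mulVec, hmem k₃ (by simp), mulVec_smul, hmem k₂ (by simp), smul_smul]
    have htail : ∀ i : Fin 2, u' i.succ = 0 := by
      have h : (W - (c * c) • 1) *ᵥ (fun i => u' i.succ) = 0 := by
        funext i
        have := congrFun hY2 i.succ
        rw [hYb, mulVec, dotProduct, Fin.sum_univ_succ] at this
        simp only [bord_succ_zero, bord_succ_succ, Pi.zero_apply, zero_mul, zero_add, Pi.smul_apply,
          smul_eq_mul] at this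
        have e : (W *ᵥ fun l => u' l.succ) i = c * c * u' i.succ := this
        rw [sub_mulVec, smul_mulVec, one_mulVec, Pi.sub_apply, e]
        exact sub_self _
      have h0 : (fun i : Fin 2 => u' i.succ) = 0 := by
        by_contra hne
        exact hW (c * c) (Matrix.exists_mulVec_eq_zero_iff.1 ⟨_, hne, h⟩)
      exact fun i => congrFun h0 i
    have h1 : u' 0 = 0 := by
      have h := congrFun (hmem X' (by simp)) 1
      have e1 : u' 1 = 0 := htail 0
      have e2 : u' 2 = 0 := htail 1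
      simp [hX', mulVec, dotProduct, Fin.sum_univ_three, e1, e2] at h
      exact h
    have h0 : u' = 0 := funext fun i => Fin.cases h1 htail i
    rw [hu'] at h0
    have := congrArg (B *ᵥ ·) h0
    simpa [mulVec_mulVec, Matrix.mul_nonsing_inv _ hBu] using this

end CfsgLib.Classical.Covering
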